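import Mathlib

/-!
# Arithmetic for Suzuki's theorem on groups with cyclic Sylow subgroups for odd primes
-/

set_option autoImplicit false

namespace CfsgLib.SW

theorem dih_bound {i m a : ℤ} (hi : 0 ≤ i) (hm : 0 < m) (ha : a % 4 = 1)
    (h : i * (a - 1) ^ 2 = 2 * m ^ 2 * a * (a + 1)) : 4 * i ≤ 15 * m ^ 2 := by
  have h1 : a ≠ 1 := by
    rintro rfl
    nlinarith
  have h2 : 8 * a * (a + 1) ≤ 15 * (a - 1) ^ 2 := by
    rcases (by omega : 5 ≤ a ∨ a ≤ -3) with e | e <;> nlinarith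
  have h3 : 0 < (a - 1) ^ 2 := by positivity
  refine le_of_mul_le_mul_right ?_ h3
  nlinarith [mul_le_mul_of_nonneg_left h2 (sq_nonneg m)]

theorem dih_count {i m n j k : ℤ} (hm : 6 ≤ m) (hn : 6 ≤ n) (hj : m * (m - 1) + 1 ≤ j)
    (hk : n * (n - 1) + 1 ≤ k) (h1 : j * k ≤ i) (h2 : 4 * i ≤ 15 * (m + n) ^ 2) : False := by
  have h3 : (m * (m - 1) + 1) * (n * (n - 1) + 1) ≤ j * k :=
    mul_le_mul hj hk (by nlinarith) (by nlinarith)
  rcases le_total m n with e | e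
  · have : 31 * (n * (n - 1) + 1) ≤ (m * (m - 1) + 1) * (n * (n - 1) + 1) :=
      mul_le_mul_of_nonneg_right (by nlinarith) (by nlinarith)
    nlinarith
  · have : (m * (m - 1) + 1) * 31 ≤ (m * (m - 1) + 1) * (n * (n - 1) + 1) :=
      mul_le_mul_of_nonneg_left (by nlinarith) (by nlinarith)
    nlinarith

theorem dih_fin {j k P : ℤ} {e : ℕ} (h1 : 0 ≤ j) (h2 : j ≤ 11) (h3 : 1 ≤ k) (h4 : k ≤ 8)
    (hP : P % 4 = 1) (he : (e : ℤ) * e = (4 * j + 2) ^ 2 - 4 * P)
    (h : 4 * (2 * k + 1) * (4 * j + 4) ^ 2 * P = (2 * k + 2) ^ 2 * (4 * j + 2) ^ 2 * (P + (4 * j + 3))) :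
    (k = 1 ∧ j = 3) ∨ (k = 2 ∧ j = 1) := by
  have key : (k = 1 ∧ j = 3) ∨ (k = 2 ∧ j = 1) ∨ (e : ℤ) * e < 0 ∨ e * e = 320 ∨ e * e = 336 ∨
      e * e = 832 := by
    zify
    interval_cases j <;> interval_cases k <;> omega
  rcases key with e | e | h | h | h | h
  exacts [Or.inl e, Or.inr e, absurd h (by positivity : (0 : ℤ) ≤ _).not_gt,
    by have : e ≤ 30 := by nlinarith
       interval_cases e <;> omega,
    by have : e ≤ 30 := by nlinarith
       interval_cases e <;> omega,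
    by have : e ≤ 30 := by nlinarith
       interval_cases e <;> omega]

theorem dih_arith {i m w a b c : ℤ} (hm : 0 < m) (hw : 3 ≤ w) (hw2 : w % 2 = 1) (ha : a % 4 = 1)
    (hb : b % 4 = 1) (hc : c % 4 = 1) (hs : b + c = a + 1)
    (h1 : i * (a - 1) ^ 2 = 2 * (m + w * m) ^ 2 * a * (a + 1))
    (h2 : i * (a + 1) * (b - 1) * (c - 1) = 8 * m * (w * m) * a * b * c) :
    (w = 3 ∧ a = -15) ∨ (w = 5 ∧ a = -7) := by
  have a0 : a ≠ 0 := by omega
  have hP : (b * c) % 4 = 1 := by rw [Int.mul_emod, hb, hc]; rfl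
  have hQ : (b - 1) * (c - 1) = b * c - a := by linear_combination -hs
  have E : 4 * w * (a - 1) ^ 2 * (b * c) = (1 + w) ^ 2 * (a + 1) ^ 2 * (b * c - a) :=
    mul_left_cancel₀ (show 2 * m ^ 2 * a ≠ 0 by positivity) (by
      rw [← hQ]
      linear_combination (a + 1) * (b - 1) * (c - 1) * h1 - (a - 1) ^ 2 * h2)
  have hQ0 : b * c - a ≠ 0 := fun e => by
    rw [mul_assoc (i * (a + 1)), hQ, e, mul_zero, mul_assoc _ b] at h2
    have : b * c ≠ 0 := by omega
    exact absurd h2.symm (by positivity)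
  have hw3 : 16 * w ≤ 3 * (1 + w) ^ 2 := by nlinarith
  have he : ((b - c).natAbs : ℤ) * (b - c).natAbs = (a + 1) ^ 2 - 4 * (b * c) := by
    rw [Int.natAbs_mul_self', ← hs]; ring
  have hbc : (5 ≤ b ∨ b ≤ -3) ∧ (5 ≤ c ∨ c ≤ -3) := by
    have : b ≠ 1 := fun e => hQ0 (by rw [← hQ, e]; ring)
    have : c ≠ 1 := fun e => hQ0 (by rw [← hQ, e]; ring)
    omega
  have hpos : ∀ u v : ℤ, 0 ≤ u → 4 * w * v = (1 + w) ^ 2 * u → 4 * u ≤ 3 * v := fun u v hu e =>
    le_of_mul_le_mul_left (by nlinarith [mul_le_mul_of_nonneg_right hw3 hu]) (show 0 < 4 * w by omega)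
  generalize (b - c).natAbs = e at he
  rcases (by omega : 1 ≤ a ∨ a ≤ -3) with ha' | ha'
  · exfalso
    rcases hbc with ⟨e1 | e1, e2 | e2⟩
    · have h3 : 4 * (a - 5) ≤ b * c - a := by nlinarith
      have h4 := hpos ((a + 1) ^ 2 * (b * c - a)) ((a - 1) ^ 2 * (b * c)) (by
        have : 0 ≤ b * c - a := by omega
        positivity) (by linear_combination E)
      have h5 : 4 * (a - 5) * (a ^ 2 + 14 * a + 1) ≤ (b * c - a) * (a ^ 2 + 14 * a + 1) :=
        mul_le_mul_of_nonneg_right h3 (by positivity)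
      have : 9 ≤ a := by omega
      nlinarith
    · have h3 : b * c < 0 := by nlinarith
      have h4 := hpos ((a + 1) ^ 2 * (a - b * c)) ((a - 1) ^ 2 * (-(b * c))) (by
        have : 0 ≤ a - b * c := by omega
        positivity) (by linear_combination -E)
      nlinarith [mul_pos (show 0 < -(b * c) by omega) (show 0 < a ^ 2 + 14 * a + 1 by positivity),
        mul_pos (show 0 < a by omega) (show 0 < (a + 1) ^ 2 by positivity)]
    · have h3 : b * c < 0 := by nlinarith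
      have h4 := hpos ((a + 1) ^ 2 * (a - b * c)) ((a - 1) ^ 2 * (-(b * c))) (by
        have : 0 ≤ a - b * c := by omega
        positivity) (by linear_combination -E)
      nlinarith [mul_pos (show 0 < -(b * c) by omega) (show 0 < a ^ 2 + 14 * a + 1 by positivity),
        mul_pos (show 0 < a by omega) (show 0 < (a + 1) ^ 2 by positivity)]
    · omega
  obtain ⟨j, rfl⟩ : ∃ j, a = -(4 * j + 3) := ⟨(-a - 3) / 4, by omega⟩
  obtain ⟨k, rfl⟩ : ∃ k, w = 2 * k + 1 := ⟨w / 2, by omega⟩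
  have hj : 0 ≤ j := by omega
  have hcase : 0 < b * c ∨ b * c ≤ -5 * (4 * j + 7) := by
    rcases hbc with ⟨e1 | e1, e2 | e2⟩
    · omega
    · right; nlinarith
    · right; nlinarith
    · left; nlinarith
  generalize b * c = P at *
  have E' : 4 * (2 * k + 1) * (4 * j + 4) ^ 2 * P =
      (2 * k + 2) ^ 2 * (4 * j + 2) ^ 2 * (P + (4 * j + 3)) := by linear_combination E
  have h3 : (4 * j + 4) ^ 2 ≤ 4 * (4 * j + 2) ^ 2 := by nlinarith
  have h4 : 0 < (4 * j + 2) ^ 2 := by positivity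
  suffices j ≤ 11 ∧ k ≤ 8 by
    rcases dih_fin hj this.1 (by omega) this.2 hP (by linear_combination he) E' with e | e <;> omega
  have hk : ∀ u v : ℤ, 0 < u → 0 ≤ v → 4 * v ≤ 5 * u → 4 * (2 * k + 1) * (4 * j + 4) ^ 2 * v =
      (2 * k + 2) ^ 2 * (4 * j + 2) ^ 2 * u → k ≤ 8 := fun u v hu hv h5 h6 => by
    have h7 : (4 * j + 4) ^ 2 * (4 * v) ≤ 4 * (4 * j + 2) ^ 2 * (5 * u) :=
      mul_le_mul h3 h5 (by positivity) (by positivity)
    have h8 : (2 * k + 2) ^ 2 ≤ 20 * (2 * k + 1) :=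
      le_of_mul_le_mul_right (by
        nlinarith [mul_le_mul_of_nonneg_left h7 (show 0 ≤ 2 * k + 1 by omega)]) (mul_pos h4 hu)
    nlinarith
  rcases hcase with h5 | h5
  · refine ⟨?_, hk _ _ (by omega) h5.le (by omega) E'⟩
    have h6 := hpos ((4 * j + 2) ^ 2 * (P + (4 * j + 3))) ((4 * j + 4) ^ 2 * P) (by positivity)
      (by linear_combination E')
    by_contra h7
    nlinarith [mul_pos h5 (show 0 < 4 * (4 * j + 2) ^ 2 - 3 * (4 * j + 4) ^ 2 by nlinarith)]
  · refine ⟨?_, hk (-(P + (4 * j + 3))) (-P) (by omega) (by omega) (by omega)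
      (by linear_combination -E')⟩
    have h6 := hpos ((4 * j + 2) ^ 2 * -(P + (4 * j + 3))) ((4 * j + 4) ^ 2 * -P) (by
      have : 0 ≤ -(P + (4 * j + 3)) := by omega
      positivity) (by linear_combination -E')
    by_contra h7
    have h8 := mul_le_mul_of_nonneg_right (show 5 * (4 * j + 7) ≤ -P by omega)
      (show 0 ≤ 4 * (4 * j + 2) ^ 2 - 3 * (4 * j + 4) ^ 2 by nlinarith)
    have h9 : 12 ≤ j := by omega
    nlinarith [mul_nonneg (sub_nonneg.2 h9) (sq_nonneg j)]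

end CfsgLib.SW
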