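import Cfsg.Agent.Lib.SW.Count

/-!
# Values and norms for the characters attached to the cyclic maximal subgroup
-/

set_option autoImplicit false

namespace CfsgLib.SW

open Subgroup Cfsg CfsgLib.FT CfsgLib.FT.BGN CfsgLib.Blk CfsgLib.GW
open scoped commutatorElement ComplexConjugate

variable {G : Type*} [Group G] [Fintype G]

theorem Th_triv (L : Subgroup G) (x : G) : Th L (1 : Irr (zpowers x)) = 0 := by
  have := T0_sub (S := zpowers x) (L := L) (θ := cf1 (zpowers x)) (θ' := cf1 (zpowers x))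
  rw [sub_self (T0 _ _ _)] at this
  exact this

/-- Values on `⟨x⟩` of a virtual character with prescribed products. -/
theorem Fr.val {L S : Subgroup G} {x y z : G} (h : Fr L S x y z) {φ : G → ℂ} (hφ : φ ∈ ZIrr L)
    (hp : projB (B0 2 L) φ = φ) {σ c : ℤ} {l : Irr (zpowers x)} (hl : Ev z l)
    (h1 : ∀ μ : Irr (zpowers x), Ev z μ → cfdot L φ (Th L μ) =
      σ * (cfdot (zpowers x) l (cf1 (zpowers x)) - cfdot (zpowers x) l μ))
    (h2 : ∀ μ : Irr (zpowers x), ¬ Ev z μ → cfdot (zpowers x) φ μ = c) :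
    (∀ a ∈ zpowers x, a ∉ zpowers (z * z) → φ a = σ * l a) ∧ ∃ k : ℤ,
      (∀ a ∈ zpowers (z * z), a ≠ 1 → φ a = σ + k * (zpowers (z * z)).relIndex (zpowers x)) ∧
      φ 1 = σ + k * (zpowers (z * z)).relIndex (zpowers x) + c * Nat.card (zpowers x) := by
  classical
  obtain ⟨m, hm⟩ := ZIrr_cfdot_int (sub_mem (ZIrr_cfRes h.AL hφ) (intCast_smul_mem l.mem_ZIrr σ))
    (cf1_mem_ZIrr (L := zpowers x))
  have key := h.val_of_const (φ := cfRes (zpowers x) φ - (σ : ℂ) • (l : G → ℂ)) (c := m) (c' := c)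
    (sub_mem (cfRes_mem_CF h.AL (ZIrr_mem_CF hφ)) (Submodule.smul_mem _ _ l.mem_CF))
    (fun μ hμ => by
      have := h1 μ hμ
      rw [h.cfdot_Th hp] at this
      rw [← hm, cfdot_sub_left, cfdot_sub_left, cfdot_cfRes_left, cfdot_cfRes_left, cfdot_smul_left,
        cfdot_smul_left]
      linear_combination -this)
    (fun μ hμ => by
      rw [cfdot_sub_left, cfdot_cfRes_left, cfdot_smul_left, Irr.cfdot_eq,
        if_neg (fun e : l = μ => hμ (e ▸ hl)), h2 μ hμ, mul_zero, sub_zero])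
  refine ⟨fun a ha ha0 => ?_, m - c, fun a ha ha1 => ?_, ?_⟩
  · have := key a
    rw [if_neg ha0, if_neg fun e : a = 1 => ha0 (e ▸ one_mem _), Pi.sub_apply, cfRes_apply ha] at this
    simpa [sub_eq_zero] using this
  · have := key a
    rw [if_pos ha, if_neg ha1, Pi.sub_apply, cfRes_apply (h.A0A ha), Pi.smul_apply, hl.apply ha,
      smul_eq_mul] at this
    push_cast
    linear_combination this
  · have := key 1
    rw [if_pos (one_mem _), if_pos rfl, Pi.sub_apply, cfRes_apply (one_mem _), Pi.smul_apply,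
      hl.apply (one_mem _), smul_eq_mul] at this
    push_cast
    linear_combination this

/-- The sum of the generic exceptional characters. -/
structure Eta (L : Subgroup G) {x : G} (z : G) (ε : Irr (zpowers x) → G → ℂ) (η : G → ℂ)
    (M : ℕ) : Prop where
  card : 2 * M + 2 = (zpowers (z * z)).relIndex (zpowers x)
  dot : ∀ φ c, (∀ μ, Gen z μ → cfdot L φ (ε μ) = c) → cfdot L φ η = M * c
  self : ∀ μ, Gen z μ → cfdot L η (ε μ) = 1
  val : ∀ g c, (∀ μ, Gen z μ → ε μ g = c) → η g = M * c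
  tr : ∀ g g', (∀ μ, Gen z μ → ε μ g = ε μ g') → η g = η g'
  zirr : η ∈ ZIrr L
  proj : projB (B0 2 L) η = η

namespace Dec

variable {L S : Subgroup G} {x y z : G} {l μ ν : Irr (zpowers x)} {α β γ η φ : G → ℂ} {M : ℕ}
  {ε : Irr (zpowers x) → G → ℂ} (d : Dec L y z l α β γ ε)
include d

theorem l1 : l ≠ 1 := fun e => by
  have := d.lx
  rw [e, one_x] at this
  norm_num at this

theorem ne_l (hμ : Gen z μ) : μ ≠ l := fun e => hμ.2 (by rw [e, d.lx]; norm_num)

theorem l_sq {a : G} (ha : a ∈ zpowers (x * x)) : l a = 1 := by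
  obtain ⟨n, rfl⟩ := mem_powers_iff_mem_zpowers.2 ha
  have hx := mem_zpowers x
  simp only
  rw [(lin l).map_pow (mul_mem hx hx), (lin l).map_mul hx hx, d.lx]
  simp

theorem dot_a (hμ : Ev z μ) : cfdot L α (Th L μ) =
    (1 : ℤ) * (cfdot (zpowers x) (1 : Irr (zpowers x)) (cf1 (zpowers x)) -
      cfdot (zpowers x) (1 : Irr (zpowers x)) μ) := by
  classical
  rw [← Irr.coe_one, Irr.cfdot_eq, Irr.cfdot_eq]
  rcases Fr.ev_cases d.lx hμ with rfl | rfl | e
  · simp [Th_triv]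
  · simp [d.thl, cfdot_add_right, d.a1, d.da.cfdot_self, d.ab, d.ac, d.l1.symm]
  · simp [d.th μ e, cfdot_add_right, cfdot_sub_right, d.a1, d.da.cfdot_self,
      cfdot_symm_zero (d.ea μ e), e.ne_one.symm]

theorem dot_b (hμ : Ev z μ) : cfdot L β (Th L μ) =
    (-1 : ℤ) * (cfdot (zpowers x) l (cf1 (zpowers x)) - cfdot (zpowers x) l μ) := by
  classical
  rw [← Irr.coe_one, Irr.cfdot_eq, Irr.cfdot_eq]
  rcases Fr.ev_cases d.lx hμ with rfl | rfl | e
  · simp [Th_triv]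
  · simp [d.thl, cfdot_add_right, d.b1, d.db.cfdot_self, cfdot_symm_zero d.ab, d.bc, d.l1]
  · simp [d.th μ e, cfdot_add_right, cfdot_sub_right, d.b1, cfdot_symm_zero d.ab,
      cfdot_symm_zero (d.eb μ e), d.l1, (d.ne_l e).symm]

theorem pa : projB (B0 2 L) α = α := projB_dirr (φ := Th L l) d.da (by
  rw [Th, proj0_T0, ← Th, d.thl]
  simp [cfdot_add_left, cfdot_symm_zero d.a1, d.da.cfdot_self, cfdot_symm_zero d.ab,
    cfdot_symm_zero d.ac])

theorem pb : projB (B0 2 L) β = β := projB_dirr (φ := Th L l) d.db (by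
  rw [Th, proj0_T0, ← Th, d.thl]
  simp [cfdot_add_left, cfdot_symm_zero d.b1, d.db.cfdot_self, d.ab, cfdot_symm_zero d.bc])

theorem pe (hμ : Gen z μ) : projB (B0 2 L) (ε μ) = ε μ := by
  rw [show ε μ = cf1 L + α - Th L μ by rw [d.th μ hμ]; abel, projB_sub, projB_add, proj0_cf1, d.pa,
    Th, proj0_T0]

open Classical in
theorem dot_ee (h : Fr L S x y z) (hμ : Gen z μ) (hν : Gen z ν) :
    cfdot L (ε μ) (ε ν) = (if μ = ν then 1 else 0) + if μ = h.sg ν then 1 else 0 := by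
  have := h.cfdot_Th_Th hμ.1 hμ.ne_one hν.ne_one
  rw [d.th μ hμ, d.th ν hν] at this
  simp only [cfdot_add_left, cfdot_add_right, cfdot_sub_left, cfdot_sub_right, cfdot_cf1, d.a1,
    cfdot_symm_zero d.a1, d.da.cfdot_self, d.e1 μ hμ, d.ea μ hμ, cfdot_symm_zero (d.e1 ν hν),
    cfdot_symm_zero (d.ea ν hν)] at this
  linear_combination this

theorem eq_iff (h : Fr L S x y z) (hμ : Gen z μ) (hν : Gen z ν) :
    ε μ = ε ν ↔ μ = ν ∨ μ = h.sg ν := by
  have h1 := d.dot_ee h hμ hν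
  have h2 : h.sg ν ≠ ν := fun e => hν.2 ((h.sg_eq_iff hν.1).1 e)
  refine ⟨fun e => by_contra fun e' => ?_, ?_⟩
  · rw [not_or] at e'
    rw [e, (d.de ν hν).cfdot_self, if_neg e'.1, if_neg e'.2] at h1
    norm_num at h1
  · rintro (rfl | rfl)
    · rfl
    · exact (d.de _ hμ).eq_of_cfdot_eq_one (d.de ν hν) (by rw [h1, if_neg h2, if_pos rfl, zero_add])

theorem exists_eta (h : Fr L S x y z) : ∃ η M, Eta L z ε η M := by
  classical
  set P := Finset.univ.filter fun μ : Irr (zpowers x) => Gen z μ with hP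
  have hm : ∀ e ∈ P.image ε, ∃ μ, Gen z μ ∧ ε μ = e := fun e he => by simpa [hP] using he
  refine ⟨∑ e ∈ P.image ε, e, (P.image ε).card, ?_, fun φ c hc => ?_, fun μ hμ => ?_,
    fun g c hc => ?_, fun g g' hc => ?_, Submodule.sum_mem _ fun e he => ?_, ?_⟩
  · rw [← h.card_ev, mul_comm, ← smul_eq_mul, ← Finset.sum_const,
      ← Finset.sum_congr rfl (f := fun e => (P.filter fun μ => ε μ = e).card) fun e he => ?_,
      ← Finset.card_eq_sum_card_image,
      show (Finset.univ.filter fun μ : Irr (zpowers x) => Ev z μ) = insert 1 (insert l P) from ?_,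
      Finset.card_insert_of_notMem, Finset.card_insert_of_notMem]
    · simpa [hP] using fun e => d.ne_l e rfl
    · simpa [hP, d.l1.symm] using fun e : Gen z (1 : Irr (zpowers x)) => e.ne_one rfl
    · ext μ
      simp only [hP, Finset.mem_filter, Finset.mem_univ, true_and, Finset.mem_insert]
      refine ⟨Fr.ev_cases d.lx, ?_⟩
      rintro (rfl | rfl | e)
      exacts [h.ev_one, d.ev, e.1]
    · obtain ⟨ν, hν, rfl⟩ := hm e he
      rw [← Finset.card_pair (show ν ≠ h.sg ν from fun e => hν.2 ((h.sg_eq_iff hν.1).1 e.symm))]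
      congr 1
      ext μ
      simp only [hP, Finset.mem_filter, Finset.mem_univ, true_and, Finset.mem_insert,
        Finset.mem_singleton]
      refine ⟨fun e => (d.eq_iff h e.1 hν).1 e.2, fun e => ?_⟩
      have : Gen z μ := by
        rcases e with rfl | rfl
        exacts [hν, h.gen_sg hν]
      exact ⟨this, (d.eq_iff h this hν).2 e⟩
  · rw [cfdot_sum_right, Finset.sum_congr rfl (g := fun _ => c) fun e he => by
      obtain ⟨ν, hν, rfl⟩ := hm e he
      exact hc ν hν, Finset.sum_const, nsmul_eq_mul]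
  · rw [cfdot_sum_left, Finset.sum_eq_single (ε μ) (fun e he e' => ?_)
      fun e => absurd (Finset.mem_image_of_mem ε (by simpa [hP] using hμ)) e,
      (d.de μ hμ).cfdot_self]
    obtain ⟨ν, hν, rfl⟩ := hm e he
    rw [Ne, d.eq_iff h hν hμ, not_or] at e'
    rw [d.dot_ee h hν hμ, if_neg e'.1, if_neg e'.2, add_zero]
  · rw [Finset.sum_apply, Finset.sum_congr rfl (g := fun _ => c) fun e he => by
      obtain ⟨ν, hν, rfl⟩ := hm e he
      exact hc ν hν, Finset.sum_const, nsmul_eq_mul]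
  · rw [Finset.sum_apply, Finset.sum_apply]
    refine Finset.sum_congr rfl fun e he => ?_
    obtain ⟨ν, hν, rfl⟩ := hm e he
    exact hc ν hν
  · obtain ⟨ν, hν, rfl⟩ := hm e he
    exact (d.de ν hν).mem_ZIrr
  · refine Finset.sum_induction _ (fun φ => projB (B0 2 L) φ = φ) (fun a b ha hb => by
      rw [projB_add, ha, hb]) (by simpa using projB_smul (B := B0 2 L) (φ := 0) 0) fun e he => ?_
    obtain ⟨ν, hν, rfl⟩ := hm e he
    exact d.pe hν

variable (e : Eta L z ε η M)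
include e

theorem eta_dots : cfdot L (cf1 L) η = 0 ∧ cfdot L α η = 0 ∧ cfdot L β η = 0 ∧
    cfdot L γ η = 0 ∧ cfdot L η η = M :=
  ⟨by rw [e.dot _ 0 fun μ hμ => cfdot_symm_zero (d.e1 μ hμ), mul_zero],
    by rw [e.dot _ 0 fun μ hμ => cfdot_symm_zero (d.ea μ hμ), mul_zero],
    by rw [e.dot _ 0 fun μ hμ => cfdot_symm_zero (d.eb μ hμ), mul_zero],
    by rw [e.dot _ 0 fun μ hμ => cfdot_symm_zero (d.ec μ hμ), mul_zero],
    by rw [e.dot _ 1 e.self, mul_one]⟩

/-- Products with a combination of the exceptional characters. -/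
theorem dot_comb (a b c f k : ℂ) :
    cfdot L (a • cf1 L + b • α + c • β + f • γ + k • η) (cf1 L) = a ∧
    cfdot L (a • cf1 L + b • α + c • β + f • γ + k • η) α = b ∧
    cfdot L (a • cf1 L + b • α + c • β + f • γ + k • η) β = c ∧
    cfdot L (a • cf1 L + b • α + c • β + f • γ + k • η) γ = f ∧
    ∀ μ, Gen z μ → cfdot L (a • cf1 L + b • α + c • β + f • γ + k • η) (ε μ) = k := by
  obtain ⟨h1, h2, h3, h4, -⟩ := d.eta_dots e
  refine ⟨?_, ?_, ?_, ?_, fun μ hμ => ?_⟩ <;> simp only [cfdot_add_left, cfdot_smul_left]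
  · simp [cfdot_cf1, d.a1, d.b1, d.c1, cfdot_symm_zero h1]
  · simp [cfdot_symm_zero d.a1, d.da.cfdot_self, cfdot_symm_zero d.ab, cfdot_symm_zero d.ac,
      cfdot_symm_zero h2]
  · simp [cfdot_symm_zero d.b1, d.db.cfdot_self, d.ab, cfdot_symm_zero d.bc, cfdot_symm_zero h3]
  · simp [cfdot_symm_zero d.c1, d.dc.cfdot_self, d.ac, d.bc, cfdot_symm_zero h4]
  · simp [cfdot_symm_zero (d.e1 μ hμ), cfdot_symm_zero (d.ea μ hμ), cfdot_symm_zero (d.eb μ hμ),
      cfdot_symm_zero (d.ec μ hμ), e.self μ hμ]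

omit d in
theorem dot_comb' {a b c f k : ℂ} (h1 : cfdot L φ (cf1 L) = a) (h2 : cfdot L φ α = b)
    (h3 : cfdot L φ β = c) (h4 : cfdot L φ γ = f) (h5 : ∀ μ, Gen z μ → cfdot L φ (ε μ) = k)
    (a' b' c' f' k' : ℤ) : cfdot L φ ((a' : ℂ) • cf1 L + (b' : ℂ) • α + (c' : ℂ) • β +
      (f' : ℂ) • γ + (k' : ℂ) • η) = a' * a + b' * b + c' * c + f' * f + k' * (M * k) := by
  simp only [cfdot_add_right, cfdot_intCast_smul_right, h1, h2, h3, h4, e.dot _ _ h5]

/-- Bessel's identity. -/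
theorem pyth {a b c f k : ℤ} (h1 : cfdot L φ (cf1 L) = a) (h2 : cfdot L φ α = b)
    (h3 : cfdot L φ β = c) (h4 : cfdot L φ γ = f) (h5 : ∀ μ, Gen z μ → cfdot L φ (ε μ) = k) :
    cfnorm L φ = cfnorm L (φ - ((a : ℂ) • cf1 L + (b : ℂ) • α + (c : ℂ) • β + (f : ℂ) • γ +
      (k : ℂ) • η)) + (a ^ 2 + b ^ 2 + c ^ 2 + f ^ 2 + M * k ^ 2 : ℤ) := by
  obtain ⟨g1, g2, g3, g4, g5⟩ := d.dot_comb e a b c f k
  have h6 := dot_comb' e g1 g2 g3 g4 g5 a b c f k
  have h7 := dot_comb' e h1 h2 h3 h4 h5 a b c f k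
  rw [← cfnorm_eq_of_cfdot_eq (r := (a ^ 2 + b ^ 2 + c ^ 2 + f ^ 2 + M * k ^ 2 : ℤ))
    (h6.trans (by push_cast; ring)), ← cfnorm_add_of_ortho (by rw [cfdot_sub_left, h6, h7, sub_self]),
    sub_add_cancel]

theorem bessel {a b c f k n : ℤ} (h1 : cfdot L φ (cf1 L) = a) (h2 : cfdot L φ α = b)
    (h3 : cfdot L φ β = c) (h4 : cfdot L φ γ = f) (h5 : ∀ μ, Gen z μ → cfdot L φ (ε μ) = k)
    (hn : cfdot L φ φ = n) : a ^ 2 + b ^ 2 + c ^ 2 + f ^ 2 + M * k ^ 2 ≤ n := by
  have h6 := d.pyth e h1 h2 h3 h4 h5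
  rw [cfnorm_eq_of_cfdot_eq (r := n) (by rw [hn]; simp)] at h6
  have := le_of_add_le_of_nonneg_right h6.ge cfnorm_nonneg
  exact_mod_cast this

end Dec

end CfsgLib.SW
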