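import Cfsg.Agent.Lib.SW.MC
import Cfsg.Agent.Lib.SW.Vals
import Cfsg.Agent.Lib.SW.Arith
import Cfsg.Agent.Lib.BSW.Odd

/-!
# The dihedral case
-/

set_option autoImplicit false

namespace CfsgLib.SW

open Subgroup Cfsg CfsgLib.FT CfsgLib.FT.BGN CfsgLib.Blk CfsgLib.GW
open scoped commutatorElement

variable {G : Type*} [Group G] [Finite G]

theorem exists_inv_zpowers {c : G} (h : ¬ Odd (orderOf c)) : ∃ v ∈ zpowers c, orderOf v = 2 :=
  exists_inv_of_not_odd (by rwa [Nat.card_zpowers])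

namespace MC

variable {S : Subgroup G} {x y t s ρ : G} (h : MC S x y t t)
include h

theorem N0_eq : N0 ⊤ t = 𝐂[t] :=
  le_antisymm h.N0_le (le_inf le_top ((U4.cent_zpowers t).ge.trans (U4.cent_le_norm _)))

omit [Finite G] in
theorem A0_iff {a : G} : a ∈ zpowers (t * t) ↔ a = 1 := by simp [h.tt]

omit [Finite G] in
theorem refl_ord (hs : s ∈ S) (hsA : s ∉ zpowers x) : orderOf s = 2 :=
  inv_of_mul_self (h.A0_iff.1 (h.sq_mem hs hsA)) fun e => hsA (e ▸ one_mem _)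

theorem refl_four (hs : s ∈ S) (hsA : s ∉ zpowers x) : Four t s :=
  ⟨h.ot, h.refl_ord hs hsA, U4.mem_cent1'.1 (h.S_le hs), fun e => hsA (e ▸ h.tA)⟩

variable [IsSimpleGroup G]

theorem norm_le_cent {X : Subgroup G} (hX : X ≤ Od (N0 ⊤ t)) (hA : S ⊓ 𝐂(X) ≤ zpowers x) :
    𝐍(X) ≤ 𝐂[t] := by
  have hc := U4.isCyclic_of_le' inferInstance hA
  have ht : t ∈ S ⊓ 𝐂(X) := ⟨h.tS, centralizer_le hX (h.sqW h.tx)⟩
  have h1 := norm_le_cent_inv hc ht h.ot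
  have hT := h.sylT hX (h.N0_eq ▸ h1)
  have h2 : Nilp2 𝐂(X) := nilp2_of_cent hT fun P hP g _ hn ho =>
    mem_cent_of_cyclic_two (hT.isPGroup.to_le hP) (U4.isCyclic_of_le' hc hP) hn ho
  have h3 : 𝐂(X) ≤ 𝐂[t] := h2.sup_sylow hT ▸ sup_le (le_centralizer_iff.1 ((zpowers_le.2 h.tx).trans
    (h.sq_cent h.oc (odd_Od _) (h.SN.trans ((h.norm_X hX).trans
      ((H5.normalizer_le_normalizer_centralizer' X).trans (norm_le_norm_Od _)))))) |>.trans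
      (U4.cent_zpowers t).le) (inf_le_left.trans h.S_le)
  intro g hg
  obtain ⟨k, hk, e⟩ := hT.frattini_elem (H5.normalizer_le_normalizer_centralizer' X hg)
  simpa using mul_mem (inv_mem (h3 hk)) (h1 e)

theorem mem_W (hρ : ρ ∈ 𝐂[t]) (ho : Odd (orderOf ρ)) : ρ ∈ Od (N0 ⊤ t) :=
  h.nilp ρ (h.N0_eq ▸ hρ) ho

theorem conj_norm (hρ : ρ ∈ Od (N0 ⊤ t)) {v : G} (hv : orderOf v = 2) (hc : v ∈ 𝐂[ρ]) :
    ∃ g ∈ 𝐍(zpowers ρ), g * t * g⁻¹ = v := by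
  obtain ⟨g, rfl⟩ := h.conj_t hv
  refine ⟨g, inv_mem_iff.1 (mem_normalizer_of_map_conj_eq ?_), rfl⟩
  rw [← U4.zpowers_conj]
  refine U4.eq_of_le_cyclic h.cycW (zpowers_le.2 (h.mem_W ?_ ?_)) (zpowers_le.2 hρ) ?_
  · rw [← U4.conj_mem_conj_iff (g := g), ← U4.cent1_conj]
    simpa [mul_assoc] using U4.mem_cent1_comm.1 hc
  · rw [U4.orderOf_conj]
    exact odd_of_mem_Od hρ
  · rw [Nat.card_zpowers, Nat.card_zpowers, U4.orderOf_conj]

theorem nbr_eq (hρ : ρ ∈ Od (N0 ⊤ t)) (h1 : ρ ≠ 1) {u w v : G} (hu : Four t u) (hw : Four t w)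
    (huw : u ≠ w) (hu' : u ∈ 𝐂[ρ]) (hv : v ∈ 𝐂[ρ]) (hvu : Four v u) (hvw : Four v w) : v = t := by
  have key : ∀ v, orderOf v = 2 → v ∈ 𝐂[t] → v ∈ 𝐂[u] → v ∈ 𝐂[w] →
      v = t ∨ (v = u ∧ v = t * w) ∨ (v = w ∧ v = t * u) := fun v h1 h2 h3 h4 => by
    rcases h.mem_V hu h1 h2 h3 with e | e | e <;> rcases h.mem_V hw h1 h2 h4 with e' | e' | e'
    exacts [Or.inl e, Or.inl e, Or.inl e, Or.inl e', absurd (e.symm.trans e') huw,
      Or.inr (Or.inl ⟨e, e'⟩), Or.inl e', Or.inr (Or.inr ⟨e', e⟩),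
      absurd (mul_left_cancel (e.symm.trans e')) huw]
  have hvc : v ∈ 𝐂[u * w] := U4.mem_cent1_comm.1 (mul_mem hvu.s_cent hvw.s_cent)
  have hi : u * (u * w) * u⁻¹ = (u * w)⁻¹ := by
    rw [← mul_assoc, hu.ss, one_mul, mul_inv_rev, hw.si]
  suffices v ∈ 𝐂[t] by
    rcases key v hvu.ot this hvu.symm.s_cent hvw.symm.s_cent with e | e | e
    exacts [e, absurd e.1 hvu.ne, absurd e.1 hvw.ne]
  by_cases ho : Odd (orderOf (u * w))
  · have hc := h.mem_W (mul_mem hu.s_cent hw.s_cent) ho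
    refine h.norm_le_cent (sup_le (zpowers_le.2 hρ) (zpowers_le.2 hc))
      (fun s hs => by_contra fun hsA => ?_) (U4.cent_le_norm _ ?_)
    · obtain ⟨a, ha, b, hb, rfl⟩ := h.compl.2.2.2 u (h.N0_eq ▸ hu.s_cent)
      have h2 := U4.cent_le_cent1 (mem_sup_right (mem_zpowers _)) hs.2
      have h3 : b ∈ 𝐂[a * b * w] := by
        rcases h.two_cases hρ h1 hs.1 hsA (U4.cent_le_cent1 (mem_sup_left (mem_zpowers _)) hs.2) hb
          (by simpa using mul_mem (inv_mem (U4.cent_le_cent1 hρ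
            (U4.le_cent_of_isCyclic h.cycW ha))) hu') with e | e
        · exact h.sq_cent1 hc e
        · simpa using mul_mem (h.sq_cent1 hc e) h2
      have h4 := eq_one_of_inv_of_comm ho hi (U4.mem_cent1'.1
        (mul_mem (U4.cent_le_cent1 hc (U4.le_cent_of_isCyclic h.cycW ha)) h3))
      exact huw (by rw [← hw.si]; exact eq_inv_of_mul_eq_one_left h4)
    · rw [cent_sup, U4.cent_zpowers, U4.cent_zpowers]
      exact ⟨hv, hvc⟩
  · obtain ⟨c, hc, hc2⟩ := exists_inv_zpowers ho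
    have h2 : c ∈ 𝐂[u] := U4.mem_cent1_comm.1 (U4.mem_cent1_of_conj_eq (by
      rw [inverts_zpowers hi c hc, inv_of_inv hc2]))
    refine U4.cent1_le_cent1 ?_ hvc
    rcases key c hc2 (zpowers_le.2 (mul_mem hu.s_cent hw.s_cent) hc) h2 (U4.mem_cent1_comm.1 (by
      simpa using mul_mem (inv_mem (U4.mem_cent1_comm.1 h2)) (U4.mem_cent1_comm.1
        (U4.zpowers_le_cent1 _ hc)))) with e | e | e
    · exact e ▸ hc
    · rw [← e.1, e.2, mul_assoc, hw.ss, mul_one]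
      exact mem_zpowers t
    · rw [← e.1, e.2, ← mul_assoc, ← hu.comm, mul_assoc, hu.ss, mul_one]
      exact mem_zpowers t

theorem count (hρ : ρ ∈ Od (N0 ⊤ t)) (h1 : ρ ≠ 1) (hs : Four t s) (hc : s ∈ 𝐂[ρ]) :
    (𝐂[s]).relIndex 𝐂[t] * ((𝐂[s]).relIndex 𝐂[t] - 1) + 1 ≤ (𝐂[t]).relIndex 𝐍(zpowers ρ) := by
  classical
  have := Fintype.ofFinite G
  set m := (𝐂[s]).relIndex 𝐂[t] with hm
  let Nb : G → Finset G := fun v => Finset.univ.filter fun w => w ∈ 𝐂[ρ] ∧ Four v w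
  let J : Finset G := Finset.univ.filter fun v => v ∈ 𝐂[ρ] ∧ orderOf v = 2
  have hN : ∀ g ∈ 𝐍(zpowers ρ), ∀ v ∈ 𝐂[ρ], g * v * g⁻¹ ∈ 𝐂[ρ] := fun g hg v hv => by
    rw [← U4.cent_zpowers] at hv ⊢
    exact conj_mem_of_mem_normalizer (H5.normalizer_le_normalizer_centralizer' _ hg) hv
  have htρ : t ∈ 𝐂[ρ] := h.sq_cent1 hρ h.tx
  have hH : 𝐂[t] ≤ 𝐍(zpowers ρ) := h.N0_eq ▸ h.norm_X (zpowers_le.2 hρ)
  have h2 : ∀ v ∈ 𝐂[ρ], orderOf v = 2 → m ≤ (Nb v).card := fun v hv ho => by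
    obtain ⟨g, hg, rfl⟩ := h.conj_norm hρ ho hv
    rw [hm, ← Frob.ncard_conj_subgroup, ← Set.ncard_coe_finset]
    refine Set.ncard_le_ncard_of_injOn (fun a => g * a * g⁻¹) ?_ fun a _ b _ e => by simpa using e
    rintro _ ⟨c, hc', rfl⟩
    have := hs.conj c
    rw [U4.conj_eq_of_mem_cent1 hc'] at this
    simpa [Nb] using ⟨hN g hg _ (hN c (hH hc') s hc), this.conj g⟩
  have h3 : J.card ≤ (𝐂[t]).relIndex 𝐍(zpowers ρ) := by
    rw [← Frob.ncard_conj_subgroup, ← Set.ncard_coe_finset]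
    refine Set.ncard_le_ncard fun v hv => ?_
    have hv : v ∈ 𝐂[ρ] ∧ orderOf v = 2 := by simpa [J] using hv
    exact h.conj_norm hρ hv.2 hv.1
  have h4 : ((Nb t).sigma fun v => (Nb v).erase t).card ≤ (J.erase t).card := by
    refine Finset.card_le_card_of_injOn (fun p => p.2) (fun p hp => ?_) ?_
    · simp only [Nb, J, Finset.coe_sigma, Set.mem_sigma_iff, Finset.mem_coe, Finset.mem_erase,
        Finset.mem_filter, Finset.mem_univ, true_and] at hp ⊢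
      exact ⟨hp.2.1, hp.2.2.1, hp.2.2.2.os⟩
    rintro ⟨v, w⟩ hp ⟨v', w'⟩ hq (rfl : w = w')
    simp only [Nb, Finset.coe_sigma, Set.mem_sigma_iff, Finset.mem_coe, Finset.mem_erase,
      Finset.mem_filter, Finset.mem_univ, true_and] at hp hq
    obtain ⟨g, hg, rfl⟩ := h.conj_norm hρ hp.1.2.os hp.1.1
    have e : ∀ u, Four (g * t * g⁻¹) u → Four t (g⁻¹ * u * g⁻¹⁻¹) := fun u hu => by
      simpa [mul_assoc] using hu.conj g⁻¹
    rw [← h.nbr_eq hρ h1 (e t hp.1.2.symm) (e w hp.2.2.2) (by simpa using hp.2.1.symm)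
      (hN _ (inv_mem hg) t htρ) (hN _ (inv_mem hg) v' hq.1.1) (hq.1.2.symm.conj g⁻¹)
      (hq.2.2.2.conj g⁻¹)]
    simp [mul_assoc]
  have h5 : (Nb t).card • (m - 1) ≤ _ := Finset.card_nsmul_le_sum (Nb t)
    (fun v => ((Nb v).erase t).card) (m - 1) fun v hv => by
      have hv : v ∈ 𝐂[ρ] ∧ Four t v := by simpa [Nb] using hv
      exact (Nat.sub_le_sub_right (h2 v hv.1 hv.2.os) 1).trans Finset.pred_card_le_card_erase
  rw [Finset.card_sigma] at h4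
  have h6 := Finset.card_erase_add_one (show t ∈ J by simpa [J] using ⟨htρ, h.ot⟩)
  have h7 := Nat.mul_le_mul_right (m - 1) (h2 t htρ h.ot)
  rw [smul_eq_mul] at h5
  omega

theorem num : ∃ a b c : ℤ, a % 4 = 1 ∧ b % 4 = 1 ∧ c % 4 = 1 ∧ b + c = a + 1 ∧
    (𝐂[t]).index * (a - 1) ^ 2 =
      2 * ((𝐂[y]).relIndex 𝐂[t] + (𝐂[x * y]).relIndex 𝐂[t]) ^ 2 * a * (a + 1) ∧
    (𝐂[t]).index * (a + 1) * (b - 1) * (c - 1) =
      8 * (𝐂[y]).relIndex 𝐂[t] * (𝐂[x * y]).relIndex 𝐂[t] * a * b * c := by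
  have := Fintype.ofFinite G
  obtain ⟨l, α, β, γ, ε, d⟩ := h.exists_dec
  obtain ⟨μ, hμ⟩ := h.exists_gen
  have ev : ∀ ν : Irr (zpowers x), Ev t ν := fun ν =>
    h.ev_iff.2 fun a ha => by rw [h.A0_iff.1 ha, (lin ν).one]
  obtain ⟨n, hn⟩ : 4 ∣ (zpowers (t * t)).relIndex (zpowers x) := by
    rw [h.tt, zpowers_one_eq_bot, relIndex_bot_left]; exact h.four_dvd
  obtain ⟨va, ka, -, ea⟩ := h.val (c := 0) d.da.mem_ZIrr d.pa h.ev_one (fun _ => d.dot_a)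
    fun ν e => absurd (ev ν) e
  obtain ⟨vb, kb, -, eb⟩ := h.val (c := 0) d.db.mem_ZIrr d.pb d.ev (fun _ => d.dot_b)
    fun ν e => absurd (ev ν) e
  obtain ⟨vc, kc, -, ec⟩ := h.val (c := 0) d.dc.mem_ZIrr d.swap.pb d.ev (fun _ => d.swap.dot_b)
    fun ν e => absurd (ev ν) e
  have lt := d.l_sq h.tx
  have va := va t h.tA h.zA0
  have vb := vb t h.tA h.zA0
  have vc := vc t h.tA h.zA0
  rw [Irr.coe_one, cf1_apply h.tA] at va
  rw [lt] at vb vc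
  rw [hn] at ea eb ec
  have hu : Refl ⊤ t t := ⟨mem_top t, h.t1, mem_zpowers _, by simp [h.tt], by simp [h.tt]⟩
  have hk : ∀ s ∈ S, s ∉ zpowers x → kap ⊤ t t s = (𝐂[s]).relIndex 𝐂[t] := fun s hs hsA => by
    rw [kap, if_pos (by simpa using h.conj_t (h.refl_ord hs hsA)), h.N0_eq]
  have f1 := d.formula_gen h.toFr hu hμ
  have f2 := d.formula_l h.toFr hu
  rw [hk y h.yS h.yA, hk _ h.xyS h.xyA, h.N0_eq, relIndex_top_right] at f1 f2
  have e1 := h.Th_one hμ.1 (L := ⊤)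
  have e2 := h.Th_one d.ev (L := ⊤)
  have e3 := h.T0_val (θ := cf1 (zpowers x) - μ) h.tA h.zA0
  rw [U4.conj_eq_of_mem_cent1 (h.S_le h.yS), ← Th] at e3
  rw [d.th μ hμ] at e1 e3
  rw [d.thl] at e2
  have e4 : μ t * μ t = 1 := by rw [← (lin μ).map_mul h.tA h.tA, h.tt, (lin μ).one]
  simp only [Pi.add_apply, Pi.sub_apply, cf1_one, cf1_apply (mem_top t), cf1_apply h.tA] at e1 e2 e3
  have e5 : ε μ t ^ 2 = 4 := by
    rw [show ε μ t = 2 * μ t by push_cast at va; linear_combination va - e3]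
    linear_combination 4 * e4
  have n1 := d.da.one_ne_zero
  have n2 := d.db.one_ne_zero
  have n3 := d.dc.one_ne_zero
  have n4 := (d.de μ hμ).one_ne_zero
  have n5 : ((𝐂[t]).index : ℂ) ≠ 0 := Nat.cast_ne_zero.2 index_ne_zero_of_finite
  rw [e5, va] at f1
  rw [va, vb, vc] at f2
  rw [show ε μ 1 = α 1 + 1 by linear_combination -e1] at f1 n4
  refine ⟨1 + 4 * (ka * n), 1 - 4 * (kb * n), 1 - 4 * (kc * n), by omega, by omega, by omega,
    ?_, ?_, ?_⟩ <;> refine Int.cast_injective (α := ℂ) ?_ <;> push_cast at ea eb ec f1 f2 ⊢ <;>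
    rw [show (1 : ℂ) + 4 * (ka * n) = α 1 by linear_combination -ea]
  · linear_combination -e2 + eb + ec
  · field_simp at f1
    linear_combination f1
  · rw [show (1 : ℂ) - 4 * (kb * n) = -β 1 by linear_combination eb,
      show (1 : ℂ) - 4 * (kc * n) = -γ 1 by linear_combination ec]
    field_simp at f2
    linear_combination f2 + (𝐂[t]).index * e2

theorem six_le (hs : s ∈ S) (hsA : s ∉ zpowers x) (hW : ¬ Od (N0 ⊤ t) ≤ 𝐂[s]) :
    6 ≤ (𝐂[s]).relIndex 𝐂[t] := by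
  have h1 := h.relIndex_cent hs hsA
  have h2 := Nat.le_of_dvd Nat.card_pos h.four_dvd
  obtain ⟨k, hk⟩ := (odd_Od (N0 ⊤ t)).of_dvd_nat (relIndex_dvd_card 𝐂[s] _)
  have h3 : k ≠ 0 := fun e => hW (relIndex_eq_one.1 (by omega))
  rw [hk, h.N0_eq] at h1
  nlinarith [Nat.pos_of_ne_zero h3]

theorem both_false (h1 : Od (N0 ⊤ t) ⊓ 𝐂[y] ≠ ⊥) (h2 : Od (N0 ⊤ t) ⊓ 𝐂[x * y] ≠ ⊥) : False := by
  obtain ⟨ρ, hρ, ρ1⟩ := U4.exists_ne_one h1
  obtain ⟨σ, hσ, σ1⟩ := U4.exists_ne_one h2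
  have key : ∀ w ∈ Od (N0 ⊤ t), w ∈ 𝐂[y] → w ∈ 𝐂[x * y] → w = 1 := fun w hw e e' =>
    h.eq_one hw h.yS h.yA e (U4.mem_cent1_comm.1 (by
      simpa using mul_mem (U4.mem_cent1_comm.1 e') (inv_mem (U4.mem_cent1_comm.1 e))))
  have c1 := h.count hρ.1 ρ1 h.four (U4.mem_cent1_comm.1 hρ.2)
  have c2 := h.count hσ.1 σ1 (h.refl_four h.xyS h.xyA) (U4.mem_cent1_comm.1 hσ.2)
  have s1 := h.six_le h.yS h.yA fun e => σ1 (key σ hσ.1 (e hσ.1) hσ.2)
  have s2 := h.six_le h.xyS h.xyA fun e => ρ1 (key ρ hρ.1 hρ.2 (e hρ.1))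
  have h3 : 𝐍(zpowers ρ) ⊓ 𝐍(zpowers σ) ≤ 𝐂[t] := (H1.le_normalizer_sup inf_le_left
    inf_le_right).trans (h.norm_le_cent (sup_le (zpowers_le.2 hρ.1) (zpowers_le.2 hσ.1))
      fun s hs => by_contra fun hsA => h.xA (by
        have e1 := (h.two_cases hρ.1 ρ1 hs.1 hsA (U4.cent_le_cent1 (mem_sup_left (mem_zpowers _))
          hs.2) h.yS (U4.mem_cent1_comm.1 hρ.2)).resolve_left fun e => h.yA (sq_le x e)
        have e2 := (h.two_cases hσ.1 σ1 hs.1 hsA (U4.cent_le_cent1 (mem_sup_right (mem_zpowers _))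
          hs.2) h.xyS (U4.mem_cent1_comm.1 hσ.2)).resolve_left fun e => h.xyA (sq_le x e)
        simpa [mul_assoc] using mul_mem e2 (inv_mem e1)))
  have h4 : 𝐂[t] ≤ 𝐍(zpowers ρ) := h.N0_eq ▸ h.norm_X (zpowers_le.2 hρ.1)
  have h5 : 𝐂[t] ≤ 𝐍(zpowers σ) := h.N0_eq ▸ h.norm_X (zpowers_le.2 hσ.1)
  have h6 : (𝐂[t]).relIndex 𝐍(zpowers ρ) * (𝐂[t]).relIndex 𝐍(zpowers σ) ≤ (𝐂[t]).index := by
    rw [← relIndex_mul_index h4]
    refine Nat.mul_le_mul_left _ ?_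
    rw [le_antisymm (le_inf h4 h5) h3, inf_relIndex_right, ← relIndex_top_right]
    exact relIndex_le_of_le_right le_top (by simp [index_ne_zero_of_finite])
  obtain ⟨a, b, c, ha, -, -, -, e1, -⟩ := h.num
  zify [show 1 ≤ (𝐂[y]).relIndex 𝐂[t] by omega, show 1 ≤ (𝐂[x * y]).relIndex 𝐂[t] by omega]
    at c1 c2 s1 s2 h6
  exact dih_count s1 s2 c1 c2 h6 (dih_bound (by positivity) (by omega) ha e1)

theorem one_false {s' : G} (hs : s ∈ S) (hsA : s ∉ zpowers x) (hs' : s' ∈ S) (hsA' : s' ∉ zpowers x)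
    (h1 : Od (N0 ⊤ t) ⊓ 𝐂[s] ≠ ⊥) (h2 : Od (N0 ⊤ t) ⊓ 𝐂[s'] = ⊥) {a b c : ℤ} (ha : a % 4 = 1)
    (hb : b % 4 = 1) (hc : c % 4 = 1) (e : b + c = a + 1) (e1 : (𝐂[t]).index * (a - 1) ^ 2 =
      2 * ((𝐂[s]).relIndex 𝐂[t] + (𝐂[s']).relIndex 𝐂[t]) ^ 2 * a * (a + 1))
    (e2 : (𝐂[t]).index * (a + 1) * (b - 1) * (c - 1) =
      8 * (𝐂[s]).relIndex 𝐂[t] * (𝐂[s']).relIndex 𝐂[t] * a * b * c) : False := by
  have := Fintype.ofFinite G
  have r1 := h.relIndex_cent hs hsA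
  have r2 := h.relIndex_cent hs' hsA'
  have r3 := card_eq_relIndex_mul (inf_le_left : Od (N0 ⊤ t) ⊓ 𝐂[s] ≤ _)
  have r4 := U4.IsComplIn.card_mul h.compl
  have r5 := index_mul_card 𝐂[t]
  have r6 : Odd (𝐂[t]).index := h.odd_index.of_dvd_nat (index_dvd_of_le h.S_le)
  have o1 := odd_card_of_le (odd_Od _) (inf_le_left : Od (N0 ⊤ t) ⊓ 𝐂[s] ≤ _)
  have o2 : Nat.card ↥(Od (N0 ⊤ t) ⊓ 𝐂[s]) ≠ 1 := fun e => h1 (card_eq_one.1 e)
  have hWt : Od (N0 ⊤ t) ≤ 𝐂[t] := (Od_le _).trans h.N0_le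
  rw [← inf_relIndex_left (Od _), h2, relIndex_bot_left, r3] at r2
  rw [h.card_S] at r4
  rw [inf_relIndex_left] at r2 r3
  obtain ⟨n, hn⟩ := h.four_dvd
  obtain ⟨k, hk⟩ := IsPGroup.iff_card.1 h.pA
  have hu : ∀ r : ℕ, r.Prime → ¬ (r ∣ (𝐂[s]).relIndex (Od (N0 ⊤ t)) ∧ r ^ 2 ∣ (𝐂[t]).index) :=
    fun r hr e => by
      have hd := e.1.trans (relIndex_dvd_card _ _)
      obtain ⟨ρ, hρ, hρo⟩ := exists_orderOf hr hd
      obtain ⟨rfl, h9, -⟩ := h.lv.near_hall hr (fun e => by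
        rw [e] at hd; exact absurd ((odd_Od _).of_dvd_nat hd) (by decide)) hρo h.ot (hWt hρ)
        ((dvd_pow_self r two_ne_zero).trans e.2)
      exact h9 e.2
  generalize hw : Nat.card ↥(Od (N0 ⊤ t) ⊓ 𝐂[s]) = w at *
  generalize (𝐂[s]).relIndex (Od (N0 ⊤ t)) = u at *
  rw [h.N0_eq, hn] at r1 r2
  have r7 : (𝐂[s']).relIndex 𝐂[t] = w * (𝐂[s]).relIndex 𝐂[t] := by nlinarith
  have r8 : (𝐂[s]).relIndex 𝐂[t] = 2 * (n * u) := by nlinarith
  have p1 : 0 < (𝐂[s]).relIndex 𝐂[t] := Nat.pos_of_ne_zero index_ne_zero_of_finite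
  rw [r7] at e1 e2
  push_cast at e1 e2
  obtain ⟨j, hj⟩ := o1
  have key : ∀ m : ℕ, (𝐂[t]).index = m * (n * u) ^ 2 → n = 1 ∧ u = 1 := fun m hm => by
    refine ⟨?_, Nat.eq_one_iff_not_exists_prime_dvd.2 fun r hr hd => hu r hr
      ⟨hd, hm ▸ (pow_dvd_pow_of_dvd (hd.mul_left n) 2).mul_left m⟩⟩
    exact Nat.eq_one_of_dvd_coprimes (Nat.Coprime.pow_left k (Nat.coprime_two_left.2 r6))
      (hk ▸ hn ▸ dvd_mul_left n 4) ⟨m * n * u ^ 2, by rw [hm]; ring⟩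
  rcases dih_arith (by exact_mod_cast p1) (by omega) (by omega) ha hb hc e e1 e2 with
    ⟨g1, rfl⟩ | ⟨g1, rfl⟩ <;> rw [r8, g1] at e1
  · have g2 : (𝐂[t]).index = 105 * (n * u) ^ 2 := by zify at e1 ⊢; linarith
    obtain ⟨rfl, rfl⟩ := key _ g2
    obtain ⟨ρ, hρ, hρo⟩ := exists_orderOf Nat.prime_three (H := Od (N0 ⊤ t)) (by omega)
    obtain ⟨-, -, v, h4, h5, h6⟩ := h.lv.near_hall Nat.prime_three (by norm_num) hρo h.ot (hWt hρ)
      (by omega)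
    have g3 := h.lv.index_norm_V h4 hρo h6
    have g4 : (𝐂(V t v)).index = (𝐂(V t v)).relIndex 𝐂[t] * (𝐂[t]).index :=
      (relIndex_mul_index (U4.cent_le_cent1 (t_mem_V t v))).symm
    have g5 := card_eq_relIndex_mul (U4.cent_le_cent1 (t_mem_V t v))
    have g6 := card_eq_relIndex_mul h4.V_le_cent
    have g7 := (h.lv.syl t v h4).not_dvd
    have g8 := hρo ▸ Subgroup.orderOf_dvd_natCard _ h5
    rw [← relIndex_mul_index (U4.cent_le_norm _), h.lv.relIndex_six h4, g2] at g4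
    rw [← congrArg (fun K : Subgroup G => Nat.card K) h.N0_eq, ← r4, g6, h4.card_V, r3, hn,
      show w = 3 by omega] at g5
    rw [g6, h4.card_V] at g8
    generalize (V t v).relIndex 𝐂(V t v) = p at *
    generalize (𝐂(V t v)).relIndex 𝐂[t] = q at *
    have g9 : q * p = 6 := by nlinarith
    have : p ≤ 6 := Nat.le_of_dvd (by norm_num) (Dvd.intro_left q g9)
    interval_cases p <;> omega
  · have g2 : (𝐂[t]).index = 189 * (n * u) ^ 2 := by zify at e1 ⊢; linarith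
    obtain ⟨rfl, rfl⟩ := key _ g2
    have : Fact (Nat.Prime 5) := ⟨by norm_num⟩
    have g3 : Od (N0 ⊤ t) ≤ 𝐂[s] := inf_eq_left.1 (eq_of_le_of_card_ge inf_le_left (by omega))
    obtain ⟨ρ, hρ, hρo⟩ := exists_orderOf this.out (H := Od (N0 ⊤ t)) (by omega)
    have h4 := h.refl_four hs hsA
    obtain ⟨v, hv, -, ⟨i, hi⟩, g4, -⟩ := h.lv.exists_three h4 this.out (by norm_num) hρo
      (cent_V t s ▸ ⟨hWt hρ, g3 hρ⟩)
    obtain ⟨σ, hσ, hσo⟩ := exists_orderOf Nat.prime_three (H := zpowers v) (by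
      rw [Nat.card_zpowers, hi]
      refine dvd_pow_self 3 fun e => h4.s1 ?_
      rw [e, pow_zero, orderOf_eq_one_iff] at hi
      simpa [hi] using g4)
    have hP : IsSylowIn 5 (Od (N0 ⊤ t)) ⊤ := ⟨le_top, IsPGroup.of_card (n := 1) (by omega), by
      rw [relIndex_top_right, ← relIndex_mul_index ((Od_le _).trans h.N0_eq.le), ← h.N0_eq,
        U4.IsComplIn.relIndex_left h.compl, h.card_S, h.N0_eq, hn, g2]
      omega⟩
    have g5 := h.oc.not_dvd Nat.prime_three (by norm_num) this.out (by norm_num) hσo (mem_top σ)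
      (hP.mono (le_inf le_top (by
        rw [← eq_of_le_of_card_ge (zpowers_le.2 hρ) (by rw [Nat.card_zpowers]; omega)]
        exact zpowers_le.2 (U4.mem_cent1_comm.1 (zpowers_le.2 hv hσ)))) le_top)
    obtain ⟨P, hP'⟩ := IsSylowIn.top_iff.1 hP
    have g6 := H9.relIndex_normalizer_modEq_one ⊤ P (le_top.trans le_normalizer)
    rw [hP', relIndex_top_right, Nat.ModEq] at g6
    have g7 : ¬ 3 ∣ (𝐍(Od (N0 ⊤ t))).index := fun e => g5 (by
      rw [relIndex_top_right]; exact e.trans (index_dvd_of_le inf_le_right))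
    have g8 : (𝐍(Od (N0 ⊤ t))).index ∣ 7 := (Nat.Coprime.pow_right 3
      ((Nat.prime_three.coprime_iff_not_dvd.2 g7).symm)).dvd_of_dvd_mul_left (by
        simpa [g2] using index_dvd_of_le (h.N0_eq.ge.trans (le_norm_Od _)))
    have g9 : (𝐍(Od (N0 ⊤ t))).index = 1 := by
      rcases (Nat.dvd_prime (by norm_num)).1 g8 with e | e <;> omega
    rcases (normal_of_le_normalizer_top (index_eq_one.1 g9).ge).eq_bot_or_eq_top with e | e
    · exact h1 (by rw [e, bot_inf_eq])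
    · exact notMem_Od h.ot (e ▸ mem_top t)

theorem inf_eq_bot : Od (N0 ⊤ t) ⊓ 𝐂[y] = ⊥ ∧ Od (N0 ⊤ t) ⊓ 𝐂[x * y] = ⊥ := by
  obtain ⟨a, b, c, ha, hb, hc, e, e1, e2⟩ := h.num
  by_cases h1 : Od (N0 ⊤ t) ⊓ 𝐂[y] = ⊥ <;> by_cases h2 : Od (N0 ⊤ t) ⊓ 𝐂[x * y] = ⊥
  · exact ⟨h1, h2⟩
  · exact (h.one_false h.xyS h.xyA h.yS h.yA h2 h1 ha hb hc e (by linear_combination e1)
      (by linear_combination e2)).elim
  · exact (h.one_false h.yS h.yA h.xyS h.xyA h1 h2 ha hb hc e e1 e2).elim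
  · exact (h.both_false h1 h2).elim

theorem setup : BSW.Setup (Od (N0 ⊤ t) ⊔ zpowers x) t y := by
  have hn := h.SN.trans (le_norm_Od _)
  have i1 := inverts_of_inf_cent h.y2 (odd_Od _) (hn h.yS) h.inf_eq_bot.1
  have i2 := inverts_of_inf_cent (mul_self_of_inv (h.refl_ord h.xyS h.xyA)) (odd_Od _) (hn h.xyS)
    h.inf_eq_bot.2
  have h1 : zpowers x ≤ 𝐂(Od (N0 ⊤ t)) := zpowers_le.2 (U4.mem_cent.2 fun w hw => by
    have := i2 _ (inv_mem hw)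
    rw [show x * y * w⁻¹ * (x * y)⁻¹ = x * (y * w⁻¹ * y⁻¹) * x⁻¹ by group, i1 _ (inv_mem hw),
      inv_inv, mul_inv_eq_iff_eq_mul] at this
    exact this.symm)
  have h2 : ∀ s ∈ S, s ∉ zpowers x → Inverts s (Od (N0 ⊤ t)) := fun s hs hsA w hw => by
    obtain ⟨c, hc, rfl⟩ := h.exists_mul hs hsA
    rw [show c * y * w * (c * y)⁻¹ = c * (y * w * y⁻¹) * c⁻¹ by group, i1 w hw,
      ← U4.mem_cent.1 (h1 hc) _ (inv_mem hw), mul_inv_cancel_right]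
  obtain ⟨k, hk⟩ := IsPGroup.iff_card.1 h.pA
  have hc := U4.isCyclic_sup h.cycW inferInstance h1
    (hk ▸ (Nat.coprime_two_right.2 (odd_Od _)).pow_right k)
  have h3 := fun a ha => eq_of_inv_of_cyclic hc (mem_sup_right h.tA) h.ot (a := a) ha
  refine ⟨h.ot, mem_sup_right h.tA, fun a ha => U4.mem_cent1.1 (sup_le ((Od_le _).trans h.N0_le)
    (h.AS.trans h.S_le) ha), h3, (Nat.le_of_dvd Nat.card_pos h.four_dvd).trans
    (card_le_of_le le_sup_right), h.four.comm.symm, fun e => ?_, fun u hu hK => ?_,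
    fun a ha a1 g hg => U4.mem_cent1.1 ?_, fun u => h.conj_t⟩
  · rcases h3 y e h.y2 with e | e
    exacts [h.four.s1 e, h.four.ne e.symm]
  · obtain ⟨w, hw, s, hs, rfl⟩ := h.compl.2.2.2 u (h.N0_eq ▸ U4.mem_cent1.2 hu)
    have hsA : s ∉ zpowers x := fun e => hK (mul_mem (mem_sup_left hw) (mem_sup_right e))
    rw [show w * s * (w * s) = w * (s * w * s⁻¹) * (s * s) by group, h2 s hs hsA w hw,
      mul_self_of_inv (h.refl_ord hs hsA)]
    simp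
  · by_cases ho : Odd (orderOf a)
    · have hw := h.mem_W (sup_le ((Od_le _).trans h.N0_le) (h.AS.trans h.S_le) ha) ho
      refine h.norm_le_cent (zpowers_le.2 hw) (fun s hs => by_contra fun hsA => a1 ?_)
        (U4.cent_le_norm _ (U4.cent_zpowers a ▸ U4.mem_cent1.2 hg))
      exact eq_one_of_inv_of_comm ho (h2 s hs.1 hsA a hw) (U4.mem_cent.1 hs.2 a (mem_zpowers a))
    · obtain ⟨c, hc, hc2⟩ := exists_inv_zpowers ho
      rw [(h3 c (zpowers_le.2 ha hc) (mul_self_of_inv hc2)).resolve_left (ne_one_of_inv hc2)] at hc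
      exact U4.cent1_le_cent1 hc (U4.mem_cent1.2 hg)

theorem psl : ∃ (F : Type) (_ : Field F) (_ : Fintype F), 5 ≤ Fintype.card F ∧
    Odd (Fintype.card F) ∧ Nonempty (G ≃* Matrix.ProjectiveSpecialLinearGroup (Fin 2) F) := by
  obtain ⟨F, i1, i2, h1, h2⟩ := h.setup.psl
  have := h.setup.four
  exact ⟨F, i1, i2, by omega, Nat.odd_iff.2 (by omega), h2⟩

end MC

end CfsgLib.SW
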