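import Mathlib

/-!
# Arithmetic for the semidihedral case
-/

set_option autoImplicit false

namespace CfsgLib.SW

theorem sd_bessel_a {M p r b1 b2 c1 c2 : ℤ} (hM : 1 ≤ M)
    (h1 : 1 ^ 2 + p ^ 2 + b1 ^ 2 + c1 ^ 2 + M * (1 + p) ^ 2 ≤ 2 * M + 4)
    (h2 : 0 ^ 2 + r ^ 2 + b2 ^ 2 + c2 ^ 2 + M * (0 + r) ^ 2 ≤ 2 * M + 4)
    (e1 : 1 + p + b1 + c1 = 0) (e2 : 0 + r + b2 + c2 = 0) (hd : 2 * M + 2 ∣ p + r - 1) :
    p = 0 ∧ r = 1 := by
  have g1 : (1 + p) ^ 2 ≤ 2 * (b1 ^ 2 + c1 ^ 2) := by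
    rw [show 1 + p = -(b1 + c1) by omega]; nlinarith [sq_nonneg (b1 - c1)]
  have g2 : r ^ 2 ≤ 2 * (b2 ^ 2 + c2 ^ 2) := by
    rw [show r = -(b2 + c2) by omega]; nlinarith [sq_nonneg (b2 - c2)]
  have g3 : r ^ 2 < 4 := by
    by_contra e
    nlinarith [mul_le_mul_of_nonneg_left (not_lt.1 e) (show 0 ≤ M by omega)]
  have g4 : (1 + p) ^ 2 < 4 := by
    by_contra e
    have : 1 ≤ p ^ 2 := by
      rcases (by omega : p = 0 ∨ 1 ≤ p ∨ p ≤ -1) with rfl | e | e <;> nlinarith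
    nlinarith [mul_le_mul_of_nonneg_left (not_lt.1 e) (show 0 ≤ M by omega)]
  have : -2 < r := by nlinarith
  have : r < 2 := by nlinarith
  have : -2 < 1 + p := by nlinarith
  have : 1 + p < 2 := by nlinarith
  obtain ⟨k, hk⟩ := hd
  rcases (by omega : k = 0 ∨ 1 ≤ k ∨ k ≤ -1) with rfl | e | e
  · omega
  · nlinarith
  · have g5 : p = -2 ∧ M = 1 := by
      have : (2 * M + 2) * k ≤ -(2 * M + 2) := by nlinarith
      omega
    obtain ⟨rfl, rfl⟩ := g5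
    have : 1 ≤ b1 ^ 2 + c1 ^ 2 := by
      by_contra e
      nlinarith [sq_nonneg b1, sq_nonneg c1]
    nlinarith

theorem sd_aux {M b c : ℤ} (hM : 1 ≤ M) (h : b ^ 2 + c ^ 2 ≤ M + 3) (e : 1 + b + c = 0)
    (hd : 2 * M + 2 ∣ 2 * b) : b = 0 := by
  obtain ⟨k, hk⟩ := hd
  obtain rfl : c = -1 - b := by omega
  rcases (by omega : k = 0 ∨ 1 ≤ k ∨ k ≤ -1) with rfl | e | e
  · omega
  · have : M + 1 ≤ b := by nlinarith
    nlinarith
  · have : b ≤ -(M + 1) := by nlinarith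
    nlinarith

theorem sd_bessel_b {M b1 b2 c1 c2 : ℤ} (hM : 1 ≤ M)
    (h1 : 1 ^ 2 + 0 ^ 2 + b1 ^ 2 + c1 ^ 2 + M * (1 + 0) ^ 2 ≤ 2 * M + 4)
    (h2 : 0 ^ 2 + 1 ^ 2 + b2 ^ 2 + c2 ^ 2 + M * (0 + 1) ^ 2 ≤ 2 * M + 4)
    (h0 : 1 ^ 2 + (b1 - b2) ^ 2 + (c1 - c2) ^ 2 ≤ 8)
    (e1 : 1 + 0 + b1 + c1 = 0) (e2 : 0 + 1 + b2 + c2 = 0) (hd : 2 * M + 2 ∣ b1 + b2 + 1) :
    (b1 = 0 ∧ b2 = -1 ∧ c1 = -1 ∧ c2 = 0) ∨ (b1 = -1 ∧ b2 = 0 ∧ c1 = 0 ∧ c2 = -1) := by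
  have g1 : (b1 - b2) ^ 2 < 4 := by
    rw [show c1 - c2 = -(b1 - b2) by omega] at h0
    nlinarith
  have : -2 < b1 - b2 := by nlinarith
  have : b1 - b2 < 2 := by nlinarith
  have g2 : 2 ∣ b1 + b2 + 1 := Dvd.dvd.trans ⟨M + 1, by ring⟩ hd
  rcases (by omega : b1 + b2 + 1 = 2 * b1 ∨ b1 + b2 + 1 = 2 * b2) with e | e <;> rw [e] at hd
  · have := sd_aux (c := c1) hM (by linarith) (by omega) hd
    omega
  · have := sd_aux (c := c2) hM (by linarith) (by omega) hd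
    omega

theorem sd_nz {n q m : ℤ} (hq : q % 4 = 1) (h1 : q ≠ 1)
    (h : 2 * n * (q - 1) ^ 2 = q * (q + 1) * m ^ 2) :
    ∃ k, m = (q - 1) * k ∧ 2 * n = q * (q + 1) * k ^ 2 := by
  obtain ⟨j, rfl⟩ : ∃ j, q = 4 * j + 1 := ⟨q / 4, by omega⟩
  have h2 : IsCoprime ((4 * j + 1 - 1) ^ 2) ((4 * j + 1) * (2 * j + 1)) :=
    IsCoprime.pow_left (IsCoprime.mul_right ⟨-1, 1, by ring⟩ ⟨j, 1 - 2 * j, by ring⟩)
  obtain ⟨k, rfl⟩ := (Int.pow_dvd_pow_iff two_ne_zero).1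
    (h2.dvd_of_dvd_mul_left (z := m ^ 2) 
      ⟨n, mul_left_cancel₀ two_ne_zero (by linear_combination -h)⟩)
  exact ⟨k, rfl, mul_right_cancel₀ (pow_ne_zero 2 (sub_ne_zero.2 h1)) (by linear_combination h)⟩

theorem sd_arith {i q a b m : ℤ} (hq : q % 4 = 1) (ha : a % 4 = 1) (hm : 0 < m) (h4 : 4 ∣ m)
    (c1 : IsCoprime i q) (c2 : IsCoprime i (q - 1)) (c3 : IsCoprime i m)
    (h3 : ∀ f, f ∣ i → f ∣ q + 1 → f ∣ 3)
    (E1 : i * (a - q) ^ 2 = a * (a + 1) * (q * (q + 1)) * m ^ 2)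
    (E2 : (a + q ^ 2) * (b + q ^ 2) = q ^ 2 * (q ^ 2 - 1)) :
    m = 4 ∧ 3 ∣ q + 1 ∧ i = (4 * q + 1) * (4 * q - 3) := by
  have q0 : q ≠ 0 := by omega
  obtain ⟨e, rfl⟩ : q ∣ a := by
    obtain ⟨a1, q1, h1, h2, h5⟩ := extract_gcd a q
    generalize gcd a q = g at h1 h2
    have g0 : g ≠ 0 := fun e => q0 (by rw [h2, e, zero_mul])
    have h6 : IsCoprime q1 ((a1 - q1) ^ 2) := by
      refine IsCoprime.pow_right ?_
      simpa [sub_eq_add_neg] using ((gcd_isUnit_iff a1 q1).1 h5).symm.add_mul_left_right (-1)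
    have h7 : q1 ∣ i * (a1 - q1) ^ 2 := ⟨a1 * (a + 1) * (q + 1) * m ^ 2,
      mul_left_cancel₀ (pow_ne_zero 2 g0) (by
        linear_combination E1 - (i * (a - q + g * (a1 - q1))) * (h1 - h2) +
          (a + 1) * (q + 1) * m ^ 2 * (q * h1 + g * a1 * h2))⟩
    have h8 := ((c1.symm.of_isCoprime_of_dvd_left ⟨g, by rw [h2, mul_comm]⟩).mul_right
      h6).isUnit_of_dvd h7
    exact h1 ▸ h2 ▸ mul_dvd_mul_left g h8.dvd
  have he : e % 4 = 1 := by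
    rw [Int.mul_emod, hq] at ha
    omega
  have E3 : i * (e - 1) ^ 2 = e * (q * e + 1) * (q + 1) * m ^ 2 :=
    mul_left_cancel₀ (pow_ne_zero 2 q0) (by linear_combination E1)
  obtain ⟨D, hD⟩ : ∃ D, e + q = 2 * D := ⟨(e + q) / 2, by omega⟩
  have D2 : D % 2 = 1 := by omega
  have key : ∀ p : ℤ, Prime p → p ∣ e * (q * e + 1) → ¬ p ∣ i → p ∣ e - 1 := fun p hp h1 h2 =>
    hp.dvd_of_dvd_pow ((hp.dvd_mul.1 (E3 ▸ (h1.mul_right _).mul_right _)).resolve_left h2)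
  have c4 : IsCoprime D q := isCoprime_of_prime_dvd (by omega) fun p hp h1 h2 => by
    have h5 : p ∣ e := by simpa [← hD] using dvd_sub (h1.mul_left 2) h2
    have := key p hp (h5.mul_right _) fun e => hp.not_unit (c1.isUnit_of_dvd' e h2)
    exact hp.not_dvd_one (by simpa using dvd_sub h5 this)
  have c5 : IsCoprime D (q - 1) := isCoprime_of_prime_dvd (by omega) fun p hp h1 h2 => by
    have := key p hp (Dvd.dvd.mul_left (by
      rw [show q * e + 1 = 2 * q * D - (q + 1) * (q - 1) by linear_combination q * hD]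
      exact dvd_sub (h1.mul_left _) (h2.mul_left _)) e) fun e => hp.not_unit (c2.isUnit_of_dvd' e h2)
    have h5 : p ∣ 2 := by
      rw [show (2 : ℤ) = 2 * D - (q - 1) - (e - 1) by omega]
      exact dvd_sub (dvd_sub (h1.mul_left _) h2) this
    refine hp.not_dvd_one ?_
    rw [show (1 : ℤ) = D - 2 * (D / 2) by omega]
    exact dvd_sub h1 (h5.mul_right _)
  obtain ⟨f, hf⟩ : 2 * D ∣ q + 1 := IsCoprime.mul_dvd ⟨-(D / 2), 1, by omega⟩ (by omega)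
    ((c4.mul_right c5).dvd_of_dvd_mul_left ⟨2 * (b + q ^ 2), mul_left_cancel₀ q0 (by
      linear_combination -E2 + q * (b + q ^ 2) * hD)⟩)
  obtain rfl : e = 2 * D - q := by omega
  have E4 : i * (1 - f) ^ 2 = (2 * D - q) * (q - (q - 1) * f) * f * m ^ 2 :=
    mul_left_cancel₀ (show (2 * D) ^ 2 ≠ 0 by have : D ≠ 0 := by omega
                                              positivity) (by
      have h1 : 2 * D - q - 1 = 2 * D * (1 - f) := by linear_combination -hf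
      have h2 : q * (2 * D - q) + 1 = 2 * D * (q - (q - 1) * f) := by
        linear_combination (1 - q) * hf
      rw [h1, h2, hf] at E3
      linear_combination E3)
  have h5 : f ∣ 3 := h3 f ((IsCoprime.pow_right (n := 2)
    (show IsCoprime f (1 - f) from ⟨1, 1, by ring⟩)).dvd_of_dvd_mul_right
    (E4 ▸ (dvd_mul_left f _).mul_right _)) ⟨_, by rw [hf, mul_comm]⟩
  have h6 : m ∣ 1 - f := (Int.pow_dvd_pow_iff two_ne_zero).1
    ((c3.symm.pow_left (m := 2)).dvd_of_dvd_mul_left (E4 ▸ dvd_mul_left _ _))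
  have h7 := h4.trans h6
  have := Int.le_of_dvd (by norm_num) h5
  have := Int.le_of_dvd (by norm_num) ((neg_dvd).2 h5)
  have h8 : f ≠ 1 := by
    rintro rfl
    have : 2 * D - q ≠ 0 := by omega
    exact absurd E4.symm (by simp; omega)
  obtain rfl : f = -3 := by omega
  obtain rfl : m = 4 := by
    have := Int.le_of_dvd (by norm_num) h6
    omega
  exact ⟨rfl, by omega, mul_left_cancel₀ (show (16 : ℤ) ≠ 0 by norm_num) (by
    linear_combination E4 - 16 * (4 * q - 3) * hf)⟩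

end CfsgLib.SW
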