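import Cfsg.Agent.Lib.SW.Frame

/-!
# Characters of the principal `2`-block attached to the cyclic maximal subgroup
-/

set_option autoImplicit false

namespace CfsgLib.SW

open Subgroup Cfsg CfsgLib.FT CfsgLib.FT.BGN CfsgLib.Blk CfsgLib.GW
open scoped commutatorElement ComplexConjugate

variable {G : Type*} [Group G] [Fintype G]

/-- Characters of `⟨x⟩` that are trivial on `⟨z ^ 2⟩`. -/
def Ev {x : G} (z : G) (μ : Irr (zpowers x)) : Prop := zpowers (z * z) ≤ cfker (zpowers x) μ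

/-- Even characters that are not real. -/
def Gen {x : G} (z : G) (μ : Irr (zpowers x)) : Prop := Ev z μ ∧ μ x * μ x ≠ 1

/-- The basic virtual characters. -/
noncomputable def Th (L : Subgroup G) {x : G} (μ : Irr (zpowers x)) : G → ℂ :=
  T0 (zpowers x) L (cf1 (zpowers x) - μ)

theorem lin {x : G} (μ : Irr (zpowers x)) : IsLin (zpowers x) μ :=
  μ.irr.isLin_of_comm fun _ ha _ hb => comm_A ha hb

theorem irr_ext {x : G} {μ ν : Irr (zpowers x)} (e : μ x = ν x) : μ = ν := by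
  refine Irr.ext (funext fun a => ?_)
  by_cases ha : a ∈ zpowers x
  · obtain ⟨n, rfl⟩ := mem_powers_iff_mem_zpowers.2 ha
    simp only
    rw [(lin μ).map_pow (mem_zpowers x), (lin ν).map_pow (mem_zpowers x), e]
  · rw [μ.mem_CF.1 a ha, ν.mem_CF.1 a ha]

theorem Ev.apply {x z a : G} {μ : Irr (zpowers x)} (h : Ev z μ) (ha : a ∈ zpowers (z * z)) :
    μ a = 1 := (cfker_apply (h ha)).trans (lin μ).one

theorem one_x (x : G) : (1 : Irr (zpowers x)) x = 1 := by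
  rw [Irr.coe_one, cf1_apply (mem_zpowers x)]

theorem Gen.ne_one {x z : G} {μ : Irr (zpowers x)} (h : Gen z μ) : μ ≠ 1 := fun e =>
  h.2 (by rw [e, one_x, one_mul])

theorem dirr_pair {L : Subgroup G} {φ ψ : G → ℂ} {E : Finset (G → ℂ)} (hφ : φ ∈ ZIrr L)
    (h2 : cfdot L φ φ = 2) (hE : ∀ α ∈ E, IsDirr L α) (hE' : Orthonormal' L E)
    (h1 : cfdot L φ (∑ α ∈ E, α) = 1) (hψ : IsDirr L ψ) (h0 : cfdot L φ ψ = 0) :
    ∃ α ∈ E, ∃ ε, IsDirr L ε ∧ φ = α - ε ∧ cfdot L ε ψ = 0 ∧ ∀ β ∈ E, cfdot L ε β = 0 := by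
  obtain ⟨b, c, hb, hc, rfl, hb0, hc0⟩ := exists_dirr_of_norm_two hφ
    (cfnorm_eq_of_cfdot_eq (by rw [h2]; simp)) hψ h0
  have key : ∀ b, IsDirr L b → (b ∈ E ∧ cfdot L b (∑ α ∈ E, α) = 1) ∨
      cfdot L b (∑ α ∈ E, α) = -1 ∨
      (cfdot L b (∑ α ∈ E, α) = 0 ∧ ∀ β ∈ E, cfdot L b β = 0) := fun b hb => by
    by_cases h : ∀ β ∈ E, cfdot L b β = 0
    · exact Or.inr (Or.inr ⟨by rw [cfdot_sum_right, Finset.sum_eq_zero h], h⟩)
    push Not at h
    obtain ⟨β, hβ, h⟩ := h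
    have h3 : cfdot L β (∑ α ∈ E, α) = 1 := by
      rw [← cfdot_conj, hE'.cfdot_sum_subset subset_rfl hβ, if_pos hβ, map_one]
    rcases hb.eq_or_neg_of_cfdot_ne (hE β hβ) h with rfl | rfl
    · exact Or.inl ⟨hβ, h3⟩
    · exact Or.inr (Or.inl (by rw [cfdot_neg_left, h3]))
  rw [cfdot_add_left] at h1
  rcases key b hb with e | e | e <;> rcases key c hc with e' | e' | e'
  · rw [e.2, e'.2] at h1; norm_num at h1
  · rw [e.2, e'] at h1; norm_num at h1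
  · exact ⟨b, e.1, -c, hc.neg, by simp, by rw [cfdot_neg_left, hc0, neg_zero],
      fun β hβ => by rw [cfdot_neg_left, e'.2 β hβ, neg_zero]⟩
  · rw [e, e'.2] at h1; norm_num at h1
  · rw [e, e'] at h1; norm_num at h1
  · rw [e, e'.1] at h1; norm_num at h1
  · exact ⟨c, e'.1, -b, hb.neg, by simp [add_comm], by rw [cfdot_neg_left, hb0, neg_zero],
      fun β hβ => by rw [cfdot_neg_left, e.2 β hβ, neg_zero]⟩
  · rw [e.1, e'] at h1; norm_num at h1
  · rw [e.1, e'.1] at h1; norm_num at h1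

namespace Fr

variable {L S : Subgroup G} {x y z a g : G} (h : Fr L S x y z) {θ θ' φ : G → ℂ}
  {μ ν l : Irr (zpowers x)}
include h

theorem kerB_self (hb : g ∈ S) (hz : z ∈ zpowers g) :
    kerB (B0 2 L) g g = Nat.card ↥(S ⊓ 𝐂[g]) := by
  obtain ⟨k, hk⟩ := h.exists_pow hb
  exact kerB_self_of_nilp2 hk (h.syl.le hb) (h.nilp.mono (h.cent_le hz)) (h.syl_cent hb hz)

theorem T0_val (ha : a ∈ zpowers x) (ha0 : a ∉ zpowers (z * z)) :
    T0 (zpowers x) L θ a = θ a + θ (y * a * y⁻¹) := by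
  classical
  obtain ⟨k, hk⟩ := h.exists_pow (h.AS ha)
  have hK := h.kerB_self (h.AS ha) ((h.mem_iff (h.AS ha)).2 ⟨ha, ha0⟩)
  have h0 := card_ne_zero (zpowers x)
  rw [T0_apply h.AL, ← Finset.sum_subset (s₁ := {a, y * a * y⁻¹})]
  · by_cases e : y * a * y⁻¹ = a
    · rw [show S ⊓ 𝐂[a] = S from inf_eq_left.2 fun s hs => U4.mem_cent1_of_conj_eq
        ((h.conj_cases hs ha).elim id fun e' => e'.trans e), h.card_S] at hK
      rw [e, Finset.pair_eq_singleton, Finset.sum_singleton, hK]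
      push_cast
      field_simp
      ring
    · rw [show S ⊓ 𝐂[a] = zpowers x from le_antisymm (fun s hs => by_contra fun hs' => e
        ((h.conj_eq hs.1 hs' ha).symm.trans (U4.conj_eq_of_mem_cent1 hs.2)))
        (le_inf h.AS fun s hs => U4.mem_cent1.2 (comm_A hs ha))] at hK
      rw [Finset.sum_pair (Ne.symm e), kerB_conj_right _ _ (h.syl.le h.yS), hK]
      field_simp
  · intro s hs
    simp only [Finset.mem_insert, Finset.mem_singleton] at hs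
    rcases hs with rfl | rfl
    exacts [mem_elems.2 ha, mem_elems.2 (h.yconj ha)]
  · intro s hs hs'
    obtain ⟨k', hk'⟩ := h.exists_pow (h.AS (mem_elems.1 hs))
    rw [kerB_of_not_conj hk (h.AL ha) hk' fun c hc e => hs' ?_, mul_zero]
    have e2 : c⁻¹ * a * c⁻¹⁻¹ = s := by rw [← e]; group
    have := h.fus ha ha0 (inv_mem hc) (e2 ▸ mem_elems.1 hs)
    rw [e2] at this
    simpa only [Finset.mem_insert, Finset.mem_singleton] using this

theorem T0_zero (h0 : ∀ a ∈ zpowers (z * z), θ a = 0) (hg : ∀ k ∈ L, k * z * k⁻¹ ∉ zpowers g) :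
    T0 (zpowers x) L θ g = 0 := by
  by_cases hgL : g ∈ L
  swap
  · exact T0_mem_CF.1 g hgL
  rw [T0_apply h.AL, Finset.sum_eq_zero, mul_zero]
  intro s hs
  by_cases e : s ∈ zpowers (z * z)
  · rw [h0 s e, zero_mul]
  obtain ⟨u, hu, v, hv, rfl, huv, ⟨k, hk⟩, ho⟩ := exists_p_part Nat.prime_two g
  obtain ⟨k', hk'⟩ := h.exists_pow (h.AS (mem_elems.1 hs))
  have := K0_eq_zero_of_not_conj (L := L) (u' := s) (y' := 1) (k := k) Nat.prime_two
    (by rw [← hk, pow_orderOf_eq_one]) (zpowers_le.2 hgL hu) (zpowers_le.2 hgL hv) ho huv hk'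
    (by simp) (by simp) fun c hc e' => hg c hc (zpowers_le.2 hu (by
      rw [← e', U4.zpowers_conj, U4.conj_mem_conj_iff]
      exact (h.mem_iff (h.AS (mem_elems.1 hs))).2 ⟨mem_elems.1 hs, e⟩))
  rw [mul_one] at this
  rw [this, mul_zero]

theorem cfdot_T0_T0 (h0 : ∀ a ∈ zpowers (z * z), θ a = 0) :
    cfdot L (T0 (zpowers x) L θ) (T0 (zpowers x) L θ') =
      cfdot (zpowers x) θ (θ' + cfConjg y⁻¹ θ') := by
  rw [cfdot_T0' h.AL proj0_T0, cfdot, cfdot]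
  congr 1
  refine Finset.sum_congr rfl fun a ha => ?_
  by_cases e : a ∈ zpowers (z * z)
  · rw [h0 a e, zero_mul, zero_mul]
  · rw [h.T0_val (mem_elems.1 ha) e]
    change _ = _ * conj (θ' a + θ' (y⁻¹⁻¹ * a * y⁻¹))
    rw [inv_inv]

/-- The action of `y` on characters. -/
def sg (μ : Irr (zpowers x)) : Irr (zpowers x) :=
  ⟨cfConjg y⁻¹ μ, μ.irr.cfConjg (inv_mem (h.normA h.yS))⟩

theorem sg_apply (μ : Irr (zpowers x)) (a : G) : h.sg μ a = μ (y * a * y⁻¹) := by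
  change μ (y⁻¹⁻¹ * a * y⁻¹) = _
  rw [inv_inv]

theorem sg_sg (μ : Irr (zpowers x)) : h.sg (h.sg μ) = μ :=
  irr_ext (by rw [sg_apply, sg_apply, h.yy_conj (mem_zpowers x)])

theorem ev_iff : Ev z μ ↔ ∀ a ∈ zpowers (z * z), μ a = 1 := by
  rw [Ev, μ.isChar.le_cfker h.A0A, (lin μ).one]

theorem ev_one : Ev z (1 : Irr (zpowers x)) := h.ev_iff.2 fun a ha => cf1_apply (h.A0A ha)

theorem ev_sg (hμ : Ev z μ) : Ev z (h.sg μ) := h.ev_iff.2 fun a ha => by
  rw [sg_apply, hμ.apply (conj_mem_sq (h.SN h.yS).2 ha)]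

theorem sg_mul (hμ : Ev z μ) (ha : a ∈ zpowers x) : h.sg μ a * μ a = 1 := by
  rw [sg_apply, ← (lin μ).map_mul (h.yconj ha) ha, hμ.apply (h.inv' ha)]

theorem sg_eq_iff (hμ : Ev z μ) : h.sg μ = μ ↔ μ x * μ x = 1 := by
  have h1 := h.sg_mul hμ (mem_zpowers x)
  refine ⟨fun e => by rwa [e] at h1, fun e => irr_ext ?_⟩
  exact mul_right_cancel₀ ((lin μ).apply_ne_zero (mem_zpowers x)) (h1.trans e.symm)

theorem gen_sg (hμ : Gen z μ) : Gen z (h.sg μ) := ⟨h.ev_sg hμ.1, fun e => hμ.2 (by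
  have := (h.sg_eq_iff (h.ev_sg hμ.1)).2 e
  rw [sg_sg] at this
  rwa [← this] at e)⟩

theorem sub_zero' (hμ : Ev z μ) : ∀ a ∈ zpowers (z * z), (cf1 (zpowers x) - (μ : G → ℂ)) a = 0 :=
  fun a ha => by rw [Pi.sub_apply, cf1_apply (h.A0A ha), hμ.apply ha, sub_self]

theorem Th_ZIrr : Th L μ ∈ ZIrr L := T0_ZIrr h.AL (sub_mem cf1_mem_ZIrr μ.mem_ZIrr)

theorem Th_zero (hμ : Ev z μ) (hg : ∀ k ∈ L, k * z * k⁻¹ ∉ zpowers g) : Th L μ g = 0 :=
  h.T0_zero (h.sub_zero' hμ) hg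

theorem Th_one (hμ : Ev z μ) : Th L μ 1 = 0 :=
  h.Th_zero hμ fun k _ e => h.z1 (by simpa using e)

theorem cfdot_Th (hφ : projB (B0 2 L) φ = φ) :
    cfdot L φ (Th L μ) = cfdot (zpowers x) φ (cf1 (zpowers x)) - cfdot (zpowers x) φ μ := by
  rw [← cfdot_conj, Th, cfdot_T0' h.AL hφ, cfdot_conj, cfdot_sub_right]

theorem cfdot_Th_one (h1 : μ ≠ 1) : cfdot L (Th L μ) (cf1 L) = 1 := by
  rw [Th, cfdot_T0' h.AL proj0_cf1, ← cfdot_cfRes_right, cfRes_cf1 h.AL, cfdot_sub_left, cfdot_cf1,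
    ← Irr.coe_one, Irr.cfdot_eq, if_neg h1, sub_zero]

open Classical in
theorem cfdot_Th_Th (hμ : Ev z μ) (h1 : μ ≠ 1) (h2 : ν ≠ 1) : cfdot L (Th L μ) (Th L ν) =
    2 + (if μ = ν then 1 else 0) + if μ = h.sg ν then 1 else 0 := by
  have h3 : h.sg ν ≠ 1 := fun e => h2 (by
    rw [← h.sg_sg ν, e, (h.sg_eq_iff h.ev_one).2 (by rw [one_x, one_mul])])
  rw [Th, Th, h.cfdot_T0_T0 (h.sub_zero' hμ), map_sub, cfConjg_cf1 (inv_mem (h.normA h.yS))]
  change cfdot _ _ (_ + (_ - (h.sg ν : G → ℂ))) = _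
  simp only [cfdot_add_right, cfdot_sub_left, cfdot_sub_right, ← Irr.coe_one, Irr.cfdot_eq,
    if_neg h1, if_neg h2.symm, if_neg h3.symm, if_true]
  ring

theorem exists_l : ∃ l : Irr (zpowers x), Ev z l ∧ l x = -1 := by
  obtain ⟨l, hl, h1, h2⟩ := exists_lin_ker_not_mem (sq_le x) (by
    rw [commutator_eq_bot_of_comm fun _ ha _ hb => comm_A ha hb]; exact bot_le) (mem_zpowers x) h.xA
  refine ⟨⟨l, hl.isIrr⟩, h.A0x.trans h1, (mul_self_eq_one_iff.1 ?_).resolve_left h2⟩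
  rw [← hl.map_mul (mem_zpowers x) (mem_zpowers x), cfker_apply (h1 (mem_zpowers _)), hl.one]

theorem exists_gen : ∃ μ : Irr (zpowers x), Gen z μ := by
  obtain ⟨l, hl, h1, h2⟩ := exists_lin_ker_not_mem h.A0A (by
    rw [commutator_eq_bot_of_comm fun _ ha _ hb => comm_A ha hb]; exact bot_le)
    (mul_mem (mem_zpowers x) (mem_zpowers x)) h.xxA0
  exact ⟨⟨l, hl.isIrr⟩, h1, by rwa [hl.map_mul (mem_zpowers x) (mem_zpowers x)] at h2⟩

omit h in
theorem ev_cases (hl : l x = -1) (hμ : Ev z μ) : μ = 1 ∨ μ = l ∨ Gen z μ := by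
  by_cases e : μ x * μ x = 1
  · rcases mul_self_eq_one_iff.1 e with e | e
    exacts [Or.inl (irr_ext (e.trans (one_x x).symm)), Or.inr (Or.inl (irr_ext (e.trans hl.symm)))]
  · exact Or.inr (Or.inr ⟨hμ, e⟩)

open Classical in
theorem card_ev : (Finset.univ.filter fun μ : Irr (zpowers x) => Ev z μ).card =
    (zpowers (z * z)).relIndex (zpowers x) := by
  convert card_irr_ker_of_commutator_le h.A0A (by
    rw [commutator_eq_bot_of_comm fun _ ha _ hb => comm_A ha hb]; exact bot_le)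
  exact Iff.rfl

theorem relIndex_pow : ∃ k, (zpowers (z * z)).relIndex (zpowers x) = 2 ^ k := by
  obtain ⟨n, hn⟩ := IsPGroup.iff_card.1 h.pA
  obtain ⟨k, -, hk⟩ := (Nat.dvd_prime_pow Nat.prime_two).1 (hn ▸ relIndex_dvd_card _ _)
  exact ⟨k, hk⟩

/-- Values on `⟨x⟩` of functions with constant multiplicities. -/
theorem val_of_const (hφ : φ ∈ CF (zpowers x)) {c c' : ℂ}
    (h1 : ∀ μ : Irr (zpowers x), Ev z μ → cfdot (zpowers x) φ μ = c)
    (h2 : ∀ μ : Irr (zpowers x), ¬ Ev z μ → cfdot (zpowers x) φ μ = c') (g : G)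
    [Decidable (g ∈ zpowers (z * z))] [Decidable (g = 1)] :
    φ g = (c - c') * (if g ∈ zpowers (z * z) then ((zpowers (z * z)).relIndex (zpowers x) : ℂ)
      else 0) + c' * if g = 1 then (Nat.card (zpowers x) : ℂ) else 0 := by
  classical
  have h3 := sum_irr_ker_mul h.A0A (h.AS.trans fun s hs => mem_normalizer_of_conj_mem fun a ha =>
    conj_mem_sq (h.SN hs).2 ha) g
  have h4 := sum_irr_one_mul' (L := zpowers x) g
  rw [cfun_sum_cfdot hφ, Finset.sum_apply]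
  convert_to _ = (c - c') * (∑ χ ∈ Finset.univ.filter (fun χ : Irr (zpowers x) =>
    zpowers (z * z) ≤ cfker (zpowers x) χ), χ 1 * χ g) + c' * ∑ χ : Irr (zpowers x), χ 1 * χ g
  · rw [h3, h4]; congr
  rw [Finset.sum_filter, Finset.mul_sum, Finset.mul_sum, ← Finset.sum_add_distrib]
  refine Finset.sum_congr rfl fun μ _ => ?_
  rw [Pi.smul_apply, smul_eq_mul, (lin μ).one]
  split_ifs with e
  · rw [h1 μ e]; ring
  · rw [h2 μ e]; ring

end Fr

/-- The decomposition of the basic virtual characters. -/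
structure Dec (L : Subgroup G) {x : G} (y z : G) (l : Irr (zpowers x)) (α β γ : G → ℂ)
    (ε : Irr (zpowers x) → G → ℂ) : Prop where
  ev : Ev z l
  lx : l x = -1
  da : IsDirr L α
  db : IsDirr L β
  dc : IsDirr L γ
  a1 : cfdot L α (cf1 L) = 0
  b1 : cfdot L β (cf1 L) = 0
  c1 : cfdot L γ (cf1 L) = 0
  ab : cfdot L α β = 0
  ac : cfdot L α γ = 0
  bc : cfdot L β γ = 0
  thl : Th L l = cf1 L + α + β + γ
  de : ∀ μ, Gen z μ → IsDirr L (ε μ)
  th : ∀ μ, Gen z μ → Th L μ = cf1 L + α - ε μ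
  e1 : ∀ μ, Gen z μ → cfdot L (ε μ) (cf1 L) = 0
  ea : ∀ μ, Gen z μ → cfdot L (ε μ) α = 0
  eb : ∀ μ, Gen z μ → cfdot L (ε μ) β = 0
  ec : ∀ μ, Gen z μ → cfdot L (ε μ) γ = 0

theorem Dec.swap {L : Subgroup G} {x y z : G} {l : Irr (zpowers x)} {α β γ : G → ℂ}
    {ε : Irr (zpowers x) → G → ℂ} (h : Dec L y z l α β γ ε) : Dec L y z l α γ β ε :=
  ⟨h.ev, h.lx, h.da, h.dc, h.db, h.a1, h.c1, h.b1, h.ac, h.ab, cfdot_symm_zero h.bc,
    by rw [h.thl, add_right_comm], h.de, h.th, h.e1, h.ea, h.ec, h.eb⟩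

theorem Fr.exists_dec {L S : Subgroup G} {x y z : G} (h : Fr L S x y z) :
    ∃ (l : Irr (zpowers x)) (α β γ : G → ℂ) (ε : Irr (zpowers x) → G → ℂ),
      Dec L y z l α β γ ε := by
  classical
  obtain ⟨l, hl, hlx⟩ := h.exists_l
  have hl1 : l ≠ 1 := fun e => by rw [e, one_x] at hlx; norm_num at hlx
  have hls : h.sg l = l := (h.sg_eq_iff hl).2 (by rw [hlx]; norm_num)
  have hP : ∀ μ ν : Irr (zpowers x), Ev z μ → μ ≠ 1 → ν ≠ 1 →
      cfdot L (Th L μ - cf1 L) (Th L ν - cf1 L) =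
        1 + (if μ = ν then 1 else 0) + if μ = h.sg ν then 1 else 0 := fun μ ν hμ h1 h2 => by
    rw [cfdot_sub_left, cfdot_sub_right, cfdot_sub_right, h.cfdot_Th_Th hμ h1 h2,
      h.cfdot_Th_one h1, cfdot_cf1, ← cfdot_conj, h.cfdot_Th_one h2, map_one]
    ring
  have hP1 : ∀ μ : Irr (zpowers x), μ ≠ 1 → cfdot L (Th L μ - cf1 L) (cf1 L) = 0 := fun μ h1 => by
    rw [cfdot_sub_left, h.cfdot_Th_one h1, cfdot_cf1, sub_self]
  have hZ : ∀ μ : Irr (zpowers x), Th L μ - cf1 L ∈ ZIrr L := fun μ =>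
    sub_mem h.Th_ZIrr cf1_mem_ZIrr
  obtain ⟨E, hE3, hE, hE', hEl⟩ := zchar_small_norm (hZ l) (n := 3) (cfnorm_eq_of_cfdot_eq (by
    rw [hP l l hl hl1 hl1, hls, if_pos rfl]; norm_num)) (by norm_num)
  have hne : ∀ μ, Gen z μ → μ ≠ l := fun μ hμ e => hμ.2 (by rw [e, hlx]; norm_num)
  have hsg : ∀ μ, Gen z μ → μ ≠ h.sg μ := fun μ hμ e => hμ.2 ((h.sg_eq_iff hμ.1).1 e.symm)
  have := fun μ (hμ : Gen z μ) => dirr_pair (hZ μ) (by
    rw [hP μ μ hμ.1 hμ.ne_one hμ.ne_one, if_pos rfl, if_neg (hsg μ hμ)]; norm_num) hE hE' (by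
    rw [← hEl, hP μ l hμ.1 hμ.ne_one hl1, hls, if_neg (hne μ hμ)]; norm_num)
    (isIrr_cf1 L).isDirr (hP1 μ hμ.ne_one)
  choose! f hf ε hε using this
  have hdot : ∀ μ ν, Gen z μ → Gen z ν → cfdot L (f μ) (f ν) + cfdot L (ε μ) (ε ν) =
      1 + (if μ = ν then 1 else 0) + if μ = h.sg ν then 1 else 0 := fun μ ν hμ hν => by
    rw [← hP μ ν hμ.1 hμ.ne_one hν.ne_one, (hε μ hμ).2.1, (hε ν hν).2.1, cfdot_sub_left,
      cfdot_sub_right, cfdot_sub_right, (hε μ hμ).2.2.2 _ (hf ν hν),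
      cfdot_symm_zero ((hε ν hν).2.2.2 _ (hf μ hμ))]
    ring
  have hd1 : ∀ μ ν, Gen z μ → Gen z ν → f μ ≠ f ν → ε μ = ε ν ∧ μ ≠ ν ∧ μ ≠ h.sg ν :=
    fun μ ν hμ hν e => by
      have h1 := hdot μ ν hμ hν
      rw [hE'.ne (hf μ hμ) (hf ν hν) e, zero_add] at h1
      rcases (hε μ hμ).1.cfdot_cases (hε ν hν).1 with e | e | e
      · rw [e.2] at h1
        refine ⟨e.1, fun e' => ?_, fun e' => ?_⟩ <;> rw [if_pos e'] at h1 <;>
          split_ifs at h1 <;> norm_num at h1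
      · rw [e.2] at h1
        split_ifs at h1 <;> norm_num at h1
      · rw [e.2.2] at h1
        split_ifs at h1 <;> norm_num at h1
  have hd2 : ∀ μ ν, Gen z μ → Gen z ν → f μ = f ν → ε μ = ε ν → μ = ν ∨ μ = h.sg ν :=
    fun μ ν hμ hν e e' => by
      have h1 := hdot μ ν hμ hν
      rw [e, e', hE'.self (hf ν hν), (hε ν hν).1.cfdot_self] at h1
      by_contra! hn
      rw [if_neg hn.1, if_neg hn.2] at h1
      norm_num at h1
  obtain ⟨μ0, hμ0⟩ := h.exists_gen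
  have hconst : ∀ μ, Gen z μ → f μ = f μ0 := fun μ hμ => by
    by_contra e
    obtain ⟨e1, e2, e3⟩ := hd1 μ μ0 hμ hμ0 e
    obtain ⟨ρ, hρ, hρ'⟩ : ∃ ρ, Ev z ρ ∧
        ρ ∉ ({1, l, μ, h.sg μ, μ0, h.sg μ0} : Finset (Irr (zpowers x))) := by
      by_contra! hn
      obtain ⟨k, hk⟩ := h.relIndex_pow
      have h1 := Finset.card_le_card (show (Finset.univ.filter fun μ : Irr (zpowers x) => Ev z μ) ⊆
        {1, l, μ, h.sg μ, μ0, h.sg μ0} from fun ρ hρ => hn ρ (Finset.mem_filter.1 hρ).2)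
      have h2 := Finset.card_le_card (show ({1, μ, h.sg μ, μ0, h.sg μ0} : Finset _) ⊆
          Finset.univ.filter fun μ : Irr (zpowers x) => Ev z μ from fun ρ hρ => by
        simp only [Finset.mem_insert, Finset.mem_singleton] at hρ
        rw [Finset.mem_filter, and_iff_right (Finset.mem_univ _)]
        rcases hρ with rfl | rfl | rfl | rfl | rfl
        exacts [h.ev_one, hμ.1, h.ev_sg hμ.1, hμ0.1, h.ev_sg hμ0.1])
      have n1 : h.sg μ ≠ μ0 := fun e => e3 (by rw [← e, h.sg_sg])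
      have n2 : h.sg μ ≠ h.sg μ0 := fun e => e2 (by rw [← h.sg_sg μ, e, h.sg_sg])
      rw [Finset.card_insert_of_notMem (by simp [hμ.ne_one.symm, (h.gen_sg hμ).ne_one.symm,
          hμ0.ne_one.symm, (h.gen_sg hμ0).ne_one.symm]),
        Finset.card_insert_of_notMem (by simp [hsg μ hμ, e2, e3]),
        Finset.card_insert_of_notMem (by simp [n1, n2]), Finset.card_pair (hsg μ0 hμ0)] at h2
      have h3 := h1.trans (Finset.card_le_six)
      rw [h.card_ev, hk] at h2 h3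
      have : k < 3 := (Nat.pow_lt_pow_iff_right (by norm_num : 1 < 2)).1 (by omega)
      interval_cases k <;> omega
    simp only [Finset.mem_insert, Finset.mem_singleton, not_or] at hρ'
    have hρg : Gen z ρ := ((Fr.ev_cases hlx hρ).resolve_left hρ'.1).resolve_left hρ'.2.1
    have m1 : f ρ ≠ f μ := fun e' => by
      have := hd2 ρ μ hρg hμ e' ((hd1 ρ μ0 hρg hμ0 (e' ▸ e)).1.trans e1.symm)
      tauto
    have m2 : f ρ ≠ f μ0 := fun e' => by
      have := hd2 ρ μ0 hρg hμ0 e' ((hd1 ρ μ hρg hμ m1).1.trans e1)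
      tauto
    have hE2 : E = {f ρ, f μ, f μ0} := (Finset.eq_of_subset_of_card_le (by
      intro α hα
      simp only [Finset.mem_insert, Finset.mem_singleton] at hα
      rcases hα with rfl | rfl | rfl
      exacts [hf ρ hρg, hf μ hμ, hf μ0 hμ0]) (by
      rw [hE3, Finset.card_insert_of_notMem (by simp [m1, m2]), Finset.card_pair e])).symm
    have hv : ∀ μ, Gen z μ → f μ 1 = ε μ 1 - 1 := fun μ hμ => by
      have := congrFun (hε μ hμ).2.1 1
      rw [Pi.sub_apply, Pi.sub_apply, h.Th_one hμ.1, cf1_one] at this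
      linear_combination -this
    have h1 := congrFun hEl 1
    obtain ⟨n, hn⟩ := ZIrr_one_int (hε μ hμ).1.mem_ZIrr
    rw [hE2, Finset.sum_insert (by simp [m1, m2]), Finset.sum_pair e, Pi.sub_apply, h.Th_one hl,
      cf1_one, Pi.add_apply, Pi.add_apply, hv ρ hρg, hv μ hμ, hv μ0 hμ0, (hd1 ρ μ hρg hμ m1).1,
      ← e1, hn] at h1
    have h2 : (3 * n : ℤ) = 2 := by exact_mod_cast (by linear_combination -h1 : (3 * n : ℂ) = 2)
    omega
  obtain ⟨β, γ, hbc, e⟩ := Finset.card_eq_two.1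
    (show (E.erase (f μ0)).card = 2 by rw [Finset.card_erase_of_mem (hf μ0 hμ0), hE3])
  have hβ := Finset.mem_erase.1 (show β ∈ E.erase (f μ0) by simp [e])
  have hγ := Finset.mem_erase.1 (show γ ∈ E.erase (f μ0) by simp [e])
  have h1 : ∀ α ∈ E, cfdot L α (cf1 L) = 0 := fun α hα => by
    have h1 : cfdot L (Th L l - cf1 L) α = 1 := by
      rw [hEl, hE'.cfdot_sum_subset subset_rfl hα, if_pos hα]
    rcases (hE α hα).cfdot_cases (isIrr_cf1 L).isDirr with e | e | e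
    · rw [e.1, hP1 l hl1] at h1; exact absurd h1 zero_ne_one
    · rw [e.1, cfdot_neg_right, hP1 l hl1, neg_zero] at h1; exact absurd h1 zero_ne_one
    · exact e.2.2
  refine ⟨l, f μ0, β, γ, ε, hl, hlx, hE _ (hf μ0 hμ0), hE _ hβ.2, hE _ hγ.2, h1 _ (hf μ0 hμ0),
    h1 _ hβ.2, h1 _ hγ.2, hE'.ne (hf μ0 hμ0) hβ.2 hβ.1.symm, hE'.ne (hf μ0 hμ0) hγ.2 hγ.1.symm,
    hE'.ne hβ.2 hγ.2 hbc, ?_, fun μ hμ => (hε μ hμ).1, fun μ hμ => ?_, fun μ hμ => (hε μ hμ).2.2.1,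
    fun μ hμ => (hε μ hμ).2.2.2 _ (hf μ0 hμ0), fun μ hμ => (hε μ hμ).2.2.2 _ hβ.2,
    fun μ hμ => (hε μ hμ).2.2.2 _ hγ.2⟩
  · rw [← Finset.add_sum_erase _ _ (hf μ0 hμ0), e, Finset.sum_pair hbc] at hEl
    linear_combination hEl
  · have := (hε μ hμ).2.1
    rw [hconst μ hμ] at this
    linear_combination this

end CfsgLib.SW
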