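import Cfsg.Agent.Lib.SW.Chars
import Cfsg.Agent.Lib.ClassSize2

/-!
# Counting products of conjugate elements
-/

set_option autoImplicit false

namespace CfsgLib.SW

open Subgroup Cfsg CfsgLib.FT CfsgLib.FT.BGN CfsgLib.Blk CfsgLib.GW
open scoped commutatorElement ComplexConjugate

variable {G : Type*} [Group G]

/-- The projection of `N` onto the complement `S` of `O(N)`. -/
structure IsPi (N S : Subgroup G) (π : G → G) : Prop where
  mem : ∀ g ∈ N, π g ∈ S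
  mul : ∀ g ∈ N, ∀ k ∈ N, π (g * k) = π g * π k
  self : ∀ s ∈ S, π s = s
  odd : ∀ w ∈ Od N, π w = 1

namespace IsPi

variable {N S : Subgroup G} {π : G → G} (h : IsPi N S π) {g k : G}
include h

theorem inv (hg : g ∈ N) : π g⁻¹ = (π g)⁻¹ :=
  eq_inv_of_mul_eq_one_left (by rw [← h.mul _ (inv_mem hg) _ hg, inv_mul_cancel, h.self 1 (one_mem _)])

theorem cj (hg : g ∈ N) (hk : k ∈ N) : π (k * g * k⁻¹) = π k * π g * (π k)⁻¹ := by
  rw [h.mul _ (mul_mem hk hg) _ (inv_mem hk), h.mul _ hk _ hg, h.inv hk]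

theorem pow (hg : g ∈ N) (n : ℕ) : π (g ^ n) = π g ^ n := by
  induction n with
  | zero => simpa using h.self 1 (one_mem _)
  | succ n ih => rw [pow_succ, pow_succ, h.mul _ (pow_mem hg n) _ hg, ih]

end IsPi

open Classical in
/-- The indicator of a proposition. -/
noncomputable def ind (p : Prop) : ℂ := if p then 1 else 0

theorem ind_pos {p : Prop} (h : p) : ind p = 1 := if_pos h

theorem ind_neg {p : Prop} (h : ¬ p) : ind p = 0 := if_neg h

open Classical in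
/-- The number of conjugates of `u` in the class of `b` in the normalizer of `⟨z⟩`. -/
noncomputable def kap (L : Subgroup G) (z u b : G) : ℕ :=
  if ∃ k ∈ L, k * u * k⁻¹ = b then (𝐂[b]).relIndex (N0 L z) else 0

/-- The hypotheses on the conjugacy class used for counting. -/
structure Refl (L : Subgroup G) (z u : G) : Prop where
  mem : u ∈ L
  ne : u ≠ 1
  sq : u * u ∈ zpowers (z * z)
  four : u * u * (u * u) = 1
  cent : ∀ g ∈ L, g * (u * u) = u * u * g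

theorem Refl.cj {L : Subgroup G} {z u g : G} (h : Refl L z u) (hg : g ∈ L) :
    g * u * g⁻¹ * (g * u * g⁻¹) = u * u := by
  rw [_root_.conj_mul, h.cent g hg, mul_inv_cancel_right]

variable [Fintype G]

theorem sum_conj_cls {L : Subgroup G} (u : G) (F : G → ℂ) :
    ∑ g ∈ elems (L : Set G), F (g * u * g⁻¹) =
      Nat.card ↥(L ⊓ 𝐂[u]) * ∑ a ∈ elems {a | ∃ g ∈ L, g * u * g⁻¹ = a}, F a := by
  classical
  rw [← Finset.sum_fiberwise_of_maps_to (g := fun x => x * u * x⁻¹)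
    (t := elems {a | ∃ g ∈ L, g * u * g⁻¹ = a})
    (fun x hx => mem_elems.2 ⟨x, mem_elems.1 hx, rfl⟩), Finset.mul_sum]
  refine Finset.sum_congr rfl fun a ha => ?_
  obtain ⟨z, hz, rfl⟩ := mem_elems.1 ha
  rw [Finset.sum_congr rfl (g := fun _ => F (z * u * z⁻¹))
    fun x hx => by rw [(Finset.mem_filter.1 hx).2], Finset.sum_const,
    ← card_filter_conj_eq (x := u) hz, nsmul_eq_mul]

theorem sum_sum_dirr {L : Subgroup G} {α : G → ℂ} (h : IsDirr L α) {u : G} (hu : u ∈ L) :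
    ∑ g ∈ elems (L : Set G), ∑ k ∈ elems (L : Set G), α (g * u * g⁻¹ * (k * u * k⁻¹)) =
      Nat.card L ^ 2 * (α u ^ 2 / α 1) := by
  have key : ∀ χ : G → ℂ, IsIrr L χ →
      ∑ g ∈ elems (L : Set G), ∑ k ∈ elems (L : Set G), χ (g * u * g⁻¹ * (k * u * k⁻¹)) =
      Nat.card L ^ 2 * (χ u ^ 2 / χ 1) := fun χ hχ => by
    rw [Finset.sum_congr rfl fun g hg => by
      rw [sum_conj_mul hχ _ hu, CF_conj hχ.mem_CF (mem_elems.1 hg)], sum_elems_const, nsmul_eq_mul]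
    ring
  rcases h with h | h
  · exact key α h
  · have := key _ h
    simp only [Pi.neg_apply, Finset.sum_neg_distrib] at this
    rw [neg_eq_iff_eq_neg] at this
    rw [this]; ring

namespace Fr

variable {L S : Subgroup G} {x y z a b g u : G} (h : Fr L S x y z) {θ φ : G → ℂ} {π : G → G}
  {μ l : Irr (zpowers x)}
include h

theorem exists_pi : ∃ π, IsPi (N0 L z) S π := by
  classical
  obtain ⟨f, hf⟩ := exists_sdprod_proj h.compl (le_norm_Od _)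
  refine ⟨fun g => if hg : g ∈ N0 L z then f ⟨g, hg⟩ else 1, fun g hg => ?_, fun g hg k hk => ?_,
    fun s hs => ?_, fun w hw => ?_⟩
  · simp [hg]
  · simp only [dif_pos hg, dif_pos hk, dif_pos (mul_mem hg hk)]
    rw [← coe_mul, ← map_mul]
    rfl
  · simp only [dif_pos (h.SN hs)]
    rw [hf _ 1 (one_mem _) s hs (by simp)]
  · simp only [dif_pos (Od_le _ hw)]
    rw [hf _ w hw 1 (one_mem _) (by simp)]

theorem two_part (hπ : IsPi (N0 L z) S π) (hg : g ∈ N0 L z) :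
    ∃ n ∈ N0 L z, ∃ v ∈ zpowers g, Odd (orderOf v) ∧ n * g * n⁻¹ = π g * (n * v * n⁻¹) ∧
      n⁻¹ * π g * n ∈ zpowers g := by
  obtain ⟨u, hu, v, hv, e, -, hk, ho⟩ := exists_p_part Nat.prime_two g
  have huN := zpowers_le.2 hg hu
  have hvN := zpowers_le.2 hg hv
  have ho := Nat.coprime_two_right.1 ho
  obtain ⟨n, hn, e1⟩ := h.sylN.exists_conj_le (isPGroup_zpowers_iff.2 hk) (zpowers_le.2 huN)
  have e2 := hπ.self _ (e1 (conj_mem_map_conj (mem_zpowers u)))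
  have e3 : π g = π u := by rw [e, hπ.mul _ huN _ hvN, hπ.odd v (h.nilp v hvN ho), mul_one]
  rw [hπ.cj huN hn, ← e3] at e2
  have e4 : π g = (π n)⁻¹ * n * u * ((π n)⁻¹ * n)⁻¹ := by
    rw [show (π n)⁻¹ * n * u * ((π n)⁻¹ * n)⁻¹ = (π n)⁻¹ * (n * u * n⁻¹) * π n by group, ← e2]
    group
  refine ⟨(π n)⁻¹ * n, mul_mem (inv_mem (h.SN (hπ.mem n hn))) hn, v, hv, ho, ?_, ?_⟩
  · rw [e4, _root_.conj_mul, ← e]
  · rw [e4]; simpa [mul_assoc] using hu

theorem mem_iff_pi (hπ : IsPi (N0 L z) S π) (hg : g ∈ N0 L z) :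
    z ∈ zpowers g ↔ z ∈ zpowers (π g) := by
  constructor
  · intro e
    obtain ⟨n, hn⟩ := mem_powers_iff_mem_zpowers.2 e
    simp only at hn
    rw [← hπ.self z (h.AS h.zA), ← hn, hπ.pow hg]
    exact pow_mem (mem_zpowers _) n
  · intro e
    obtain ⟨n, hn, -, -, -, -, e'⟩ := h.two_part hπ hg
    have := mem_zpowers_conj (inv_mem hn.2) e
    rw [inv_inv] at this
    exact zpowers_le.2 e' this

theorem val_pi (hπ : IsPi (N0 L z) S π) (hg : g ∈ N0 L z) (hz : z ∈ zpowers (π g))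
    (hφ : projB (B0 2 L) φ = φ) : φ g = φ (π g) := by
  obtain ⟨n, hn, v, hv, ho, e, e'⟩ := h.two_part hπ hg
  obtain ⟨k, hk⟩ := h.exists_pow (hπ.mem g hg)
  have h1 : n * v * n⁻¹ ∈ L ⊓ 𝐂[π g] := mem_inf.2 ⟨mul_mem (mul_mem hn.1 (zpowers_le.2 hg.1 hv))
    (inv_mem hn.1), U4.mem_cent1.2 (by
      calc n * v * n⁻¹ * π g = n * (v * (n⁻¹ * π g * n)) * n⁻¹ := by group
        _ = _ := by rw [comm_A hv e']; group)⟩
  rw [← hφ, ← CF_conj projB_mem_CF hn.1 g, e, proj0_mul hk (h.syl.le (hπ.mem g hg))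
    (h.nilp.mono (h.cent_le hz) _ h1 (by rwa [U4.orderOf_conj]))]

theorem card_mul_T0 (h0 : ∀ a ∈ zpowers (z * z), θ a = 0) (w : G) :
    Nat.card (N0 L z) * T0 (zpowers x) L θ w = ∑ k ∈ elems (L : Set G),
      ind (z ∈ zpowers (k⁻¹ * w * k)) * T0 (zpowers x) L θ w := by
  rw [← Finset.sum_mul]
  by_cases e : ∀ k ∈ L, k * z * k⁻¹ ∉ zpowers w
  · rw [h.T0_zero h0 e, mul_zero, mul_zero]
  push Not at e
  obtain ⟨c, hc, e⟩ := e
  have e1 : z ∈ zpowers (c⁻¹ * w * c⁻¹⁻¹) := by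
    rw [U4.zpowers_conj]
    simpa [mul_assoc] using conj_mem_map_conj (g := c⁻¹) e
  congr 1
  rw [← sum_elems_mul_left hc, ← mul_one (Nat.card (N0 L z) : ℂ), ← nsmul_eq_mul, ← sum_elems_const,
    ← sum_elems_mul_CF (show N0 L z ≤ L from inf_le_left)]
  refine Finset.sum_congr rfl fun k hk => ?_
  rw [mul_one, show (c * k)⁻¹ * w * (c * k) = k⁻¹ * (c⁻¹ * w * c⁻¹⁻¹) * k⁻¹⁻¹ by group]
  by_cases hk' : k ∈ N0 L z
  · rw [cf1_apply hk', ind_pos (mem_zpowers_conj (inv_mem hk'.2) e1)]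
  · rw [cf1_apply_of_notMem hk', ind_neg fun e2 => hk' ⟨mem_elems.1 hk,
      mem_norm_of_conj e1 ?_⟩]
    change z ∈ zpowers _ at e2
    rw [U4.zpowers_conj] at e2
    simpa using mem_map_conj.1 e2

theorem refl_of_mem (hπ : IsPi (N0 L z) S π) (hu : Refl L z u) {v w k : G} (hg : g ∈ L) (hk : k ∈ L)
    (hv : v = g * u * g⁻¹) (hw : w = k * u * k⁻¹) (hz : z ∈ zpowers (v * w)) :
    (v ∈ N0 L z ∧ π v ∉ zpowers x) ∧ w ∈ N0 L z ∧ π w ∉ zpowers x := by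
  have hvL : v ∈ L := hv ▸ mul_mem (mul_mem hg hu.mem) (inv_mem hg)
  have hwL : w ∈ L := hw ▸ mul_mem (mul_mem hk hu.mem) (inv_mem hk)
  have v2 : v * v = u * u := hv ▸ hu.cj hg
  have w2 : w * w = u * u := hw ▸ hu.cj hk
  have hn := U4.norm_le_norm_of_le_cyclic inferInstance (zpowers_le.2 hz)
  have hwN : w ∈ N0 L z := ⟨hwL, hn (H1.inv_conj_mem_normalizer_zpowers (by
    rw [eq_inv_iff_mul_eq_one]
    calc w * (v * w) * w⁻¹ * (v * w) = w * (v * v) * w := by group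
      _ = 1 := by rw [v2, hu.cent w hwL, mul_assoc, w2, hu.four]))⟩
  have hvN : v ∈ N0 L z := by
    simpa using mul_mem (show v * w ∈ N0 L z from
      ⟨mul_mem hvL hwL, hn (le_normalizer (mem_zpowers _))⟩) (inv_mem hwN)
  have h1 := (h.mem_iff_pi hπ (mul_mem hvN hwN)).1 hz
  rw [hπ.mul _ hvN _ hwN] at h1
  have h2 := (h.mem_iff (mul_mem (hπ.mem _ hvN) (hπ.mem _ hwN))).1 h1
  have hc := hπ.self _ (h.AS (h.A0A hu.sq))
  have key : ¬ (π v ∈ zpowers x ∧ π w ∈ zpowers x) := fun ⟨e1, e2⟩ => by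
    have p1 : π v * π v = u * u := by rw [← hπ.mul _ hvN _ hvN, v2, hc]
    have p2 : π w * π w = u * u := by rw [← hπ.mul _ hwN _ hwN, w2, hc]
    have p3 : π v * π w * (π v * π w) = 1 := by
      rw [mul_assoc, ← mul_assoc (π w), comm_A e2 e1, mul_assoc, p2, ← mul_assoc, p1, hu.four]
    have p4 : π v * π w ≠ 1 := fun e => h2.2 (e ▸ one_mem _)
    have p5 := ((mem_zpowers_inv (inv_of_mul_self p3 p4)).1 h1).resolve_left h.z1
    have p6 : u * u = 1 := by simpa [p5, p3] using hu.sq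
    have p7 : ∀ v, v ∈ N0 L z → v * v = 1 → v ≠ 1 → π v ∈ zpowers x → π v = z :=
      fun v hv e e1 e2 => by
        obtain ⟨n, -, r, hr, ho, e3, -⟩ := h.two_part hπ hv
        have r1 : r = 1 := ((mem_zpowers_inv (inv_of_mul_self e e1)).1 hr).elim id fun e4 => by
          rw [e4, inv_of_mul_self e e1] at ho
          exact absurd ho (by decide)
        rw [r1, mul_one, mul_inv_cancel, mul_one] at e3
        have e4 : π v ≠ 1 := e3 ▸ U4.conj_ne_one_iff.2 e1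
        have e5 := (h.mem_iff (hπ.mem v hv)).2 ⟨e2, by simpa [p5, p3] using e4⟩
        exact (((mem_zpowers_inv (by rw [← e3, U4.orderOf_conj, inv_of_mul_self e e1])).1
          e5).resolve_left h.z1).symm
    rw [p7 v hvN (v2.trans p6) (hv ▸ U4.conj_ne_one_iff.2 hu.ne) e1,
      p7 w hwN (w2.trans p6) (hw ▸ U4.conj_ne_one_iff.2 hu.ne) e2, p5, p3] at p4
    exact p4 rfl
  exact ⟨⟨hvN, fun e => key ⟨e, by simpa using mul_mem (inv_mem e) h2.1⟩⟩, hwN,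
    fun e => key ⟨by simpa using mul_mem h2.1 (inv_mem e), e⟩⟩

theorem sum_T0 (hπ : IsPi (N0 L z) S π) (hu : Refl L z u) (h0 : ∀ a ∈ zpowers (z * z), θ a = 0) :
    Nat.card (N0 L z) * ∑ g ∈ elems (L : Set G), ∑ k ∈ elems (L : Set G),
      T0 (zpowers x) L θ (g * u * g⁻¹ * (k * u * k⁻¹)) =
    Nat.card L * ∑ g ∈ elems (L : Set G), ∑ k ∈ elems (L : Set G),
      ind (g * u * g⁻¹ ∈ N0 L z ∧ π (g * u * g⁻¹) ∉ zpowers x) *
        (ind (k * u * k⁻¹ ∈ N0 L z ∧ π (k * u * k⁻¹) ∉ zpowers x) *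
          (θ (π (g * u * g⁻¹) * π (k * u * k⁻¹)) +
            θ (y * (π (g * u * g⁻¹) * π (k * u * k⁻¹)) * y⁻¹))) := by
  simp only [Finset.mul_sum (f := fun k => T0 _ _ _ _), Finset.mul_sum (a := (Nat.card (N0 L z) : ℂ)),
    h.card_mul_T0 h0]
  rw [Finset.sum_congr rfl fun _ _ => Finset.sum_comm, Finset.sum_comm, ← nsmul_eq_mul,
    ← sum_elems_const]
  refine Finset.sum_congr rfl fun c hc => ?_
  have hc := mem_elems.1 hc
  rw [← sum_elems_mul_left hc]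
  refine Finset.sum_congr rfl fun g hg => ?_
  rw [← sum_elems_mul_left hc]
  refine Finset.sum_congr rfl fun k hk => ?_
  rw [show c * g * u * (c * g)⁻¹ * (c * k * u * (c * k)⁻¹) =
    c * (g * u * g⁻¹ * (k * u * k⁻¹)) * c⁻¹ by group, CF_conj T0_mem_CF hc,
    show ∀ w, c⁻¹ * (c * w * c⁻¹) * c = w from fun w => by group]
  set v := g * u * g⁻¹ with hv
  set w := k * u * k⁻¹ with hw
  by_cases hz : z ∈ zpowers (v * w)
  · obtain ⟨h1, h2⟩ := h.refl_of_mem hπ hu (mem_elems.1 hg) (mem_elems.1 hk) hv hw hz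
    have h3 := (h.mem_iff_pi hπ (mul_mem h1.1 h2.1)).1 hz
    have h4 := (h.mem_iff (hπ.mem _ (mul_mem h1.1 h2.1))).1 h3
    rw [ind_pos hz, ind_pos h1, ind_pos h2, h.val_pi hπ (mul_mem h1.1 h2.1) h3
      proj0_T0, h.T0_val h4.1 h4.2, hπ.mul _ h1.1 _ h2.1]
    ring
  · rw [ind_neg hz, zero_mul]
    by_cases h1 : v ∈ N0 L z ∧ π v ∉ zpowers x
    swap
    · rw [ind_neg h1, zero_mul]
    by_cases h2 : w ∈ N0 L z ∧ π w ∉ zpowers x
    swap
    · rw [ind_neg h2, zero_mul, mul_zero]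
    rw [h.mem_iff_pi hπ (mul_mem h1.1 h2.1), hπ.mul _ h1.1 _ h2.1,
      h.mem_iff (mul_mem (hπ.mem _ h1.1) (hπ.mem _ h2.1)), not_and, not_not] at hz
    have h3 := hz (h.mul_mem_A (hπ.mem _ h1.1) h1.2 (hπ.mem _ h2.1) h2.2)
    rw [h0 _ h3, h0 _ (conj_mem_sq (h.SN h.yS).2 h3)]
    simp

omit [Fintype G] in
theorem comm_mem {s : G} (hs : s ∈ S) (hb : b ∈ S) (hbA : b ∉ zpowers x) :
    s * b * s⁻¹ * b⁻¹ ∈ zpowers (x * x) := by
  have key : ∀ c ∈ zpowers x, c * b * c⁻¹ * b⁻¹ ∈ zpowers (x * x) := fun c hc => by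
    have h1 := h.inv' (inv_mem hc)
    rw [← h.conj_eq hb hbA (inv_mem hc)] at h1
    rw [show c * b * c⁻¹ * b⁻¹ = c * (b * c⁻¹ * b⁻¹ * c⁻¹) * c by group, comm_A hc (h.A0A h1),
      mul_assoc]
    refine mul_mem (h.A0x h1) ?_
    obtain ⟨i, rfl⟩ := hc
    exact ⟨i, (Commute.refl x).mul_zpow i⟩
  by_cases hsA : s ∈ zpowers x
  · exact key s hsA
  · have := key _ (h.mul_mem_A hs hsA (inv_mem hb) fun e => hbA (inv_mem_iff.1 e))
    rwa [show s * b⁻¹ * b * (s * b⁻¹)⁻¹ * b⁻¹ = s * b * s⁻¹ * b⁻¹ by group] at this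

theorem exists_conj_A (hb : b ∈ S) (hbA : b ∉ zpowers x) (ha : a ∈ zpowers (x * x)) :
    ∃ c ∈ zpowers x, c * b * c⁻¹ = a * b := by
  have h1 := h.inv' (inv_mem (mem_zpowers x))
  have hx := mem_zpowers x
  have h2 := h.yconj (inv_mem hx)
  rw [← h.conj_eq hb hbA (inv_mem hx)] at h1 h2
  have h3 : x * x ∈ zpowers (x * (b * x⁻¹ * b⁻¹)) := by
    refine (mem_zpowers_or h.pA (mul_mem hx h2) (mul_mem hx hx)).resolve_right fun e => ?_
    obtain ⟨k, hk⟩ := h.exists_pow (mul_mem h.xS h.xS)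
    refine notMem_zpowers_sq hk (fun e => h.xxA0 (e ▸ one_mem _)) ?_
    have h4 : zpowers (z * z) ≤ zpowers (x * x * (x * x)) := zpowers_le.2 (by
      obtain ⟨i, rfl⟩ := h.zx
      exact ⟨i, (Commute.refl (x * x)).mul_zpow i⟩)
    have := mul_mem e (inv_mem (h4 h1))
    rwa [comm_A hx h2, comm_A h2 (inv_mem hx), comm_A h2 hx,
      show x * (b * x⁻¹ * b⁻¹) * (x⁻¹ * (b * x⁻¹ * b⁻¹))⁻¹ = x * x by group] at this
  obtain ⟨i, rfl⟩ := zpowers_le.2 h3 ha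
  refine ⟨x ^ i, ⟨i, rfl⟩, ?_⟩
  simp only
  rw [(commute_of_mem_zpowers hx h2).mul_zpow, conj_zpow]
  group

theorem sum_ind (hπ : IsPi (N0 L z) S π) (hu : Refl L z u) (hb : b ∈ S) (hbA : b ∉ zpowers x) :
    ∑ g ∈ elems (L : Set G),
      ind (g * u * g⁻¹ ∈ N0 L z ∧ π (g * u * g⁻¹) * b⁻¹ ∈ zpowers (x * x)) =
      Nat.card ↥(L ⊓ 𝐂[u]) * kap L z u b := by
  classical
  have key : ∀ v, (∃ g ∈ L, g * u * g⁻¹ = v) → ((v ∈ N0 L z ∧ π v * b⁻¹ ∈ zpowers (x * x)) ↔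
      ∃ n ∈ N0 L z, n * b * n⁻¹ = v) := by
    rintro _ ⟨g, hg, rfl⟩
    constructor
    · rintro ⟨h1, h2⟩
      obtain ⟨n, hn, r, hr, ho, e, -⟩ := h.two_part hπ h1
      have r1 : r = 1 := by
        obtain ⟨i, rfl⟩ := hr
        refine eq_one_of_odd_of_mul_self ho (eq_one_of_odd_of_mul_self
          (ho.of_dvd_nat (by rw [← sq]; exact orderOf_pow_dvd 2)) ?_)
        simp only
        rw [← (Commute.refl _).mul_zpow, ← (Commute.refl _).mul_zpow, hu.cj hg, hu.four, one_zpow]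
      obtain ⟨c, hc, e'⟩ := h.exists_conj_A hb hbA h2
      rw [r1, mul_one, mul_inv_cancel, mul_one] at e
      rw [inv_mul_cancel_right, ← e] at e'
      refine ⟨n⁻¹ * c, mul_mem (inv_mem hn) (h.SN (h.AS hc)), ?_⟩
      rw [show n⁻¹ * c * b * (n⁻¹ * c)⁻¹ = n⁻¹ * (c * b * c⁻¹) * n by group, e']
      group
    · rintro ⟨n, hn, e⟩
      rw [← e, hπ.cj (h.SN hb) hn, hπ.self b hb]
      exact ⟨mul_mem (mul_mem hn (h.SN hb)) (inv_mem hn), h.comm_mem (hπ.mem n hn) hb hbA⟩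
  rw [sum_conj_cls u fun v => ind (v ∈ N0 L z ∧ π v * b⁻¹ ∈ zpowers (x * x)), kap]
  congr 1
  split_ifs with e
  · obtain ⟨k, hk, rfl⟩ := e
    rw [← Finset.sum_subset (s₁ := elems {v | ∃ n ∈ N0 L z, n * (k * u * k⁻¹) * n⁻¹ = v}),
      Finset.sum_congr rfl (g := fun _ => (1 : ℂ)), Finset.sum_const, card_elems_set,
      Frob.ncard_conj_subgroup, nsmul_eq_mul, mul_one]
    · intro v hv
      obtain ⟨n, hn, rfl⟩ := mem_elems.1 hv
      exact ind_pos ((key _ ⟨n * k, mul_mem hn.1 hk, by group⟩).2 ⟨n, hn, rfl⟩)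
    · intro v hv
      obtain ⟨n, hn, rfl⟩ := mem_elems.1 hv
      exact mem_elems.2 ⟨n * k, mul_mem hn.1 hk, by group⟩
    · intro v hv hv'
      have hv := mem_elems.1 hv
      exact ind_neg fun e => hv' (mem_elems.2 ((key v hv).1 e))
  · refine (Finset.sum_eq_zero fun v hv => ind_neg fun e' => e ?_).trans (by simp)
    have hv := mem_elems.1 hv
    obtain ⟨n, hn, e1⟩ := (key v hv).1 e'
    obtain ⟨g, hg, e2⟩ := hv
    refine ⟨n⁻¹ * g, mul_mem (inv_mem hn.1) hg, ?_⟩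
    rw [show n⁻¹ * g * u * (n⁻¹ * g)⁻¹ = n⁻¹ * (g * u * g⁻¹) * n by group, e2, ← e1]
    group

theorem ind_split (hπ : IsPi (N0 L z) S π) (hl : l x = -1) (v : G) :
    ind (v ∈ N0 L z ∧ π v ∉ zpowers x) =
      ind (v ∈ N0 L z ∧ π v * y⁻¹ ∈ zpowers (x * x)) +
        ind (v ∈ N0 L z ∧ π v * (x * y)⁻¹ ∈ zpowers (x * x)) ∧
    ind (v ∈ N0 L z ∧ π v ∉ zpowers x) * l (π v * y⁻¹) =
      ind (v ∈ N0 L z ∧ π v * y⁻¹ ∈ zpowers (x * x)) -
        ind (v ∈ N0 L z ∧ π v * (x * y)⁻¹ ∈ zpowers (x * x)) := by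
  have hx := mem_zpowers x
  have hl2 : ∀ a ∈ zpowers (x * x), l a = 1 := fun a ha => by
    obtain ⟨n, rfl⟩ := mem_powers_iff_mem_zpowers.2 ha
    simp only
    rw [(lin l).map_pow (mul_mem hx hx), (lin l).map_mul hx hx, hl]
    simp
  by_cases h1 : v ∈ N0 L z ∧ π v ∉ zpowers x
  · obtain ⟨i, hi⟩ := (h.cov _ (hπ.mem v h1.1)).resolve_left h1.2
    simp only at hi
    have h2 : π v * (x * y)⁻¹ = x ^ i * x⁻¹ := by rw [hi]; group
    rw [ind_pos h1]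
    obtain ⟨j, rfl | rfl⟩ := Int.even_or_odd' i
    · have h3 : π v * y⁻¹ ∈ zpowers (x * x) := ⟨j, by simp only [← hi, zpow_mul, zpow_two]⟩
      rw [ind_pos (And.intro h1.1 h3),
        ind_neg fun e => h.xA (by
          have := mul_mem (inv_mem e.2) h3
          rwa [h2, ← hi, show (x ^ (2 * j) * x⁻¹)⁻¹ * x ^ (2 * j) = x by group] at this), hl2 _ h3]
      simp
    · have h3 : π v * (x * y)⁻¹ ∈ zpowers (x * x) := ⟨j, by
        simp only [h2, ← zpow_two, ← zpow_mul]; group⟩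
      have h4 : π v * y⁻¹ = π v * (x * y)⁻¹ * x := by group
      rw [ind_pos (And.intro h1.1 h3), ind_neg fun e => h.xA (by
          have := mul_mem (inv_mem h3) e.2
          rwa [h4, inv_mul_cancel_left] at this), h4, (lin l).map_mul (sq_le x h3) hx, hl2 _ h3, hl]
      simp
  · rw [ind_neg h1, ind_neg fun e => h1 ⟨e.1, fun e' => h.yA (by
      simpa using mul_mem (inv_mem (sq_le x e.2)) e')⟩, ind_neg fun e => h1
        ⟨e.1, fun e' => h.mul_y_notMem hx (by simpa using mul_mem (inv_mem (sq_le x e.2)) e')⟩]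
    simp

theorem cancel_card {σ c : ℂ} (e : Nat.card (N0 L z) * (Nat.card L ^ 2 * σ) =
    Nat.card L * (Nat.card ↥(L ⊓ 𝐂[u]) ^ 2 * c)) :
    ((𝐂[u]).relIndex L : ℂ) ^ 2 * σ = (N0 L z).relIndex L * c := by
  have h1 := card_cast_eq_relIndex_mul (show L ⊓ 𝐂[u] ≤ L from inf_le_left)
  have h2 := card_cast_eq_relIndex_mul (show N0 L z ≤ L from inf_le_left)
  rw [inf_relIndex_left] at h1
  refine mul_left_cancel₀ (mul_ne_zero (card_ne_zero (N0 L z))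
    (pow_ne_zero 2 (card_ne_zero (L ⊓ 𝐂[u])))) ?_
  rw [h1] at e
  linear_combination e + (Nat.card ↥(L ⊓ 𝐂[u]) ^ 2 * c) * (h2 - h1)

theorem count_gen (hu : Refl L z u) (hμ : Gen z μ) {σ : ℂ}
    (hσ : ∑ g ∈ elems (L : Set G), ∑ k ∈ elems (L : Set G), Th L μ (g * u * g⁻¹ * (k * u * k⁻¹)) =
      Nat.card L ^ 2 * σ) : ((𝐂[u]).relIndex L : ℂ) ^ 2 * σ =
      (N0 L z).relIndex L * (2 * (kap L z u y + kap L z u (x * y)) ^ 2) := by
  obtain ⟨π, hπ⟩ := h.exists_pi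
  obtain ⟨l, -, hl⟩ := h.exists_l
  have hx := mem_zpowers x
  have h1 := h.sum_T0 hπ hu (h.sub_zero' hμ.1)
  obtain ⟨I, hI⟩ : ∃ I : G → ℂ, ∀ v, I v = ind (v ∈ N0 L z ∧ π v ∉ zpowers x) := ⟨_, fun _ => rfl⟩
  simp only [← hI] at h1
  have key : ∀ μ : Irr (zpowers x), Gen z μ → ∀ w : G, ∑ g ∈ elems (L : Set G),
      I (g * u * g⁻¹) * (I w * μ (π (g * u * g⁻¹) * π w)) = 0 := fun μ hμ w => by
    have h2 := sum_elems_mul_left (h.syl.le h.xS)
      fun g => I (g * u * g⁻¹) * (I w * μ (π (g * u * g⁻¹) * π w))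
    rw [Finset.sum_congr rfl (g := fun g => μ x * μ x *
      (I (g * u * g⁻¹) * (I w * μ (π (g * u * g⁻¹) * π w)))), ← Finset.mul_sum] at h2
    · exact by_contra fun e => hμ.2 ((mul_eq_right₀ e).1 h2)
    intro g _
    rw [show x * g * u * (x * g)⁻¹ = x * (g * u * g⁻¹) * x⁻¹ by group]
    generalize g * u * g⁻¹ = v
    by_cases h3 : w ∈ N0 L z ∧ π w ∉ zpowers x
    swap
    · simp [hI, ind_neg h3]
    have hxN := h.SN h.xS
    by_cases h4 : v ∈ N0 L z ∧ π v ∉ zpowers x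
    swap
    · rw [hI v, ind_neg h4, hI (x * v * x⁻¹), ind_neg fun e => h4 ?_]
      · simp
      have h5 : v ∈ N0 L z := by simpa [mul_assoc] using mul_mem (mul_mem (inv_mem hxN) e.1) hxN
      refine ⟨h5, fun e' => e.2 ?_⟩
      rw [hπ.cj h5 hxN, hπ.self x h.xS]
      exact mul_mem (mul_mem hx e') (inv_mem hx)
    have h5 := h.inv' (inv_mem hx)
    rw [← h.conj_eq (hπ.mem v h4.1) h4.2 (inv_mem hx)] at h5
    have h6 := h.mul_mem_A (hπ.mem v h4.1) h4.2 (hπ.mem w h3.1) h3.2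
    rw [hI v, ind_pos h4, hI (x * v * x⁻¹), ind_pos
      (And.intro (mul_mem (mul_mem hxN h4.1) (inv_mem hxN)) fun e => h4.2 ?_), hπ.cj h4.1 hxN,
      hπ.self x h.xS, show x * π v * x⁻¹ * π w = x * (π v * x⁻¹ * (π v)⁻¹ * x⁻¹) * x * (π v * π w)
        by group, (lin μ).map_mul (mul_mem (mul_mem hx (h.A0A h5)) hx) h6,
      (lin μ).map_mul (mul_mem hx (h.A0A h5)) hx, (lin μ).map_mul hx (h.A0A h5), hμ.1.apply h5]
    · ring
    rw [hπ.cj h4.1 hxN, hπ.self x h.xS] at e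
    simpa [mul_assoc] using mul_mem (mul_mem (inv_mem hx) e) hx
  have h2 : ∑ g ∈ elems (L : Set G), I (g * u * g⁻¹) =
      Nat.card ↥(L ⊓ 𝐂[u]) * (kap L z u y + kap L z u (x * y)) := by
    simp only [hI, (h.ind_split hπ hl _).1, Finset.sum_add_distrib]
    rw [h.sum_ind hπ hu h.yS h.yA, h.sum_ind hπ hu (mul_mem h.xS h.yS) (h.mul_y_notMem hx), mul_add]
  refine h.cancel_card ?_
  rw [← hσ, Th, h1, Finset.sum_comm, Finset.sum_congr rfl (g := fun k =>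
    2 * (I (k * u * k⁻¹) * ∑ g ∈ elems (L : Set G), I (g * u * g⁻¹))), ← Finset.mul_sum,
    ← Finset.sum_mul, h2]
  · ring
  intro k _
  generalize k * u * k⁻¹ = w
  rw [Finset.mul_sum, Finset.mul_sum, ← sub_zero (Finset.sum _ fun g => 2 * _),
    ← sub_zero (_ - 0), ← key μ hμ w]
  nth_rewrite 2 [key μ hμ w]
  rw [← key _ (h.gen_sg hμ) w, ← Finset.sum_sub_distrib, ← Finset.sum_sub_distrib]
  refine Finset.sum_congr rfl fun g _ => ?_
  generalize g * u * g⁻¹ = v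
  by_cases h3 : w ∈ N0 L z ∧ π w ∉ zpowers x
  swap
  · simp [hI, ind_neg h3]
  by_cases h4 : v ∈ N0 L z ∧ π v ∉ zpowers x
  swap
  · simp [hI, ind_neg h4]
  have h6 := h.mul_mem_A (hπ.mem v h4.1) h4.2 (hπ.mem w h3.1) h3.2
  rw [Pi.sub_apply, Pi.sub_apply, cf1_apply h6, cf1_apply (h.yconj h6), sg_apply]
  ring

theorem count_l (hu : Refl L z u) (hl0 : Ev z l) (hl : l x = -1) {σ : ℂ}
    (hσ : ∑ g ∈ elems (L : Set G), ∑ k ∈ elems (L : Set G), Th L l (g * u * g⁻¹ * (k * u * k⁻¹)) =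
      Nat.card L ^ 2 * σ) : ((𝐂[u]).relIndex L : ℂ) ^ 2 * σ =
      (N0 L z).relIndex L * (8 * kap L z u y * kap L z u (x * y)) := by
  obtain ⟨π, hπ⟩ := h.exists_pi
  have hx := mem_zpowers x
  have h1 := h.sum_T0 hπ hu (h.sub_zero' hl0)
  have hs := (h.sg_eq_iff hl0).2 (by rw [hl]; norm_num)
  obtain ⟨I, hI⟩ : ∃ I : G → ℂ, ∀ v, I v = ind (v ∈ N0 L z ∧ π v ∉ zpowers x) := ⟨_, fun _ => rfl⟩
  simp only [← hI] at h1
  have h2 : ∑ g ∈ elems (L : Set G), I (g * u * g⁻¹) =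
      Nat.card ↥(L ⊓ 𝐂[u]) * (kap L z u y + kap L z u (x * y)) := by
    simp only [hI, (h.ind_split hπ hl _).1, Finset.sum_add_distrib]
    rw [h.sum_ind hπ hu h.yS h.yA, h.sum_ind hπ hu (mul_mem h.xS h.yS) (h.mul_y_notMem hx), mul_add]
  have h3 : ∑ g ∈ elems (L : Set G), I (g * u * g⁻¹) * l (π (g * u * g⁻¹) * y⁻¹) =
      Nat.card ↥(L ⊓ 𝐂[u]) * (kap L z u y - kap L z u (x * y)) := by
    simp only [hI, (h.ind_split hπ hl _).2, Finset.sum_sub_distrib]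
    rw [h.sum_ind hπ hu h.yS h.yA, h.sum_ind hπ hu (mul_mem h.xS h.yS) (h.mul_y_notMem hx), mul_sub]
  refine h.cancel_card ?_
  rw [← hσ, Th, h1, Finset.sum_congr rfl (g := fun g =>
    2 * (I (g * u * g⁻¹) * ∑ g ∈ elems (L : Set G), I (g * u * g⁻¹)) -
      2 * (I (g * u * g⁻¹) * l (π (g * u * g⁻¹) * y⁻¹) *
        ∑ g ∈ elems (L : Set G), I (g * u * g⁻¹) * l (π (g * u * g⁻¹) * y⁻¹))),
    Finset.sum_sub_distrib, ← Finset.mul_sum, ← Finset.mul_sum, ← Finset.sum_mul, ← Finset.sum_mul,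
    h2, h3]
  · ring
  intro g _
  generalize g * u * g⁻¹ = v
  simp only [Finset.mul_sum]
  rw [← Finset.sum_sub_distrib]
  refine Finset.sum_congr rfl fun k _ => ?_
  generalize k * u * k⁻¹ = w
  by_cases h3 : w ∈ N0 L z ∧ π w ∉ zpowers x
  swap
  · simp [hI, ind_neg h3]
  by_cases h4 : v ∈ N0 L z ∧ π v ∉ zpowers x
  swap
  · simp [hI, ind_neg h4]
  have h6 := h.mul_mem_A (hπ.mem v h4.1) h4.2 (hπ.mem w h3.1) h3.2
  have h7 := (h.cov _ (hπ.mem v h4.1)).resolve_left h4.2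
  have h8 := (h.cov _ (hπ.mem w h3.1)).resolve_left h3.2
  rw [Pi.sub_apply, Pi.sub_apply, cf1_apply h6, cf1_apply (h.yconj h6), ← h.sg_apply, hs,
    show π v * π w = π v * y⁻¹ * (y * (π w * y⁻¹) * y⁻¹) * (y * y) by group,
    (lin l).map_mul (mul_mem h7 (h.yconj h8)) (h.A0A h.yy), (lin l).map_mul h7 (h.yconj h8),
    ← h.sg_apply, hs, hl0.apply h.yy]
  ring

end Fr

namespace Dec

variable {L S : Subgroup G} {x y z u : G} {l μ : Irr (zpowers x)} {α β γ : G → ℂ}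
  {ε : Irr (zpowers x) → G → ℂ} (h : Fr L S x y z) (d : Dec L y z l α β γ ε)
include h d

theorem formula_gen (hu : Refl L z u) (hμ : Gen z μ) :
    ((𝐂[u]).relIndex L : ℂ) ^ 2 * (1 + α u ^ 2 / α 1 - ε μ u ^ 2 / ε μ 1) =
      (N0 L z).relIndex L * (2 * (kap L z u y + kap L z u (x * y)) ^ 2) := by
  refine h.count_gen hu hμ ?_
  simp only [d.th μ hμ, Pi.sub_apply, Pi.add_apply, Finset.sum_sub_distrib, Finset.sum_add_distrib]
  rw [sum_sum_dirr (isIrr_cf1 L).isDirr hu.mem, sum_sum_dirr d.da hu.mem,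
    sum_sum_dirr (d.de μ hμ) hu.mem, cf1_apply hu.mem, cf1_one]
  ring

theorem formula_l (hu : Refl L z u) :
    ((𝐂[u]).relIndex L : ℂ) ^ 2 * (1 + α u ^ 2 / α 1 + β u ^ 2 / β 1 + γ u ^ 2 / γ 1) =
      (N0 L z).relIndex L * (8 * kap L z u y * kap L z u (x * y)) := by
  refine h.count_l hu d.ev d.lx ?_
  simp only [d.thl, Pi.add_apply, Finset.sum_add_distrib]
  rw [sum_sum_dirr (isIrr_cf1 L).isDirr hu.mem, sum_sum_dirr d.da hu.mem,
    sum_sum_dirr d.db hu.mem, sum_sum_dirr d.dc hu.mem, cf1_apply hu.mem, cf1_one]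
  ring

end Dec

end CfsgLib.SW
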