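import Cfsg.Agent.Lib.SW.Simple
import Cfsg.Agent.Lib.SchurTransfer
import Cfsg.Agent.Lib.SchurMetacyclic
import Cfsg.Agent.Lib.PGroupRankOne
import Cfsg.Agent.Lib.GW.PslA

/-!
# Perfect central extensions of `PSL₂(p)`
-/

set_option autoImplicit false

namespace CfsgLib.SW

open Subgroup Cfsg CfsgLib.FT CfsgLib.FT.BGN CfsgLib.Blk CfsgLib.GW CfsgLib.H4
open scoped commutatorElement MatrixGroups

variable {G : Type*} [Group G]

theorem OC.mem_zpowers [Finite G] (h : OC G) {r : ℕ} (hr : r.Prime) (h2 : r ≠ 2) {a b : G}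
    (ha : orderOf a = r) (hb : orderOf b = r) (hc : Commute a b) : b ∈ zpowers a := by
  have := Fact.mk hr
  have hp : ∀ c : G, orderOf c = r → IsPGroup r (zpowers c) := fun c hc =>
    isPGroup_zpowers_iff.2 ⟨1, by rw [hc, pow_one]⟩
  rw [U4.eq_of_le_cyclic (h r hr h2 _ ((hp a ha).to_sup_of_normal_right' (hp b hb) (zpowers_le.2
    (U4.cent_le_norm _ (by rw [U4.cent_zpowers]; exact U4.mem_cent1.2 hc.eq))))) le_sup_left le_sup_right
    (by rw [Nat.card_zpowers, Nat.card_zpowers, ha, hb])]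
  exact Subgroup.mem_zpowers b

/-- A group all of whose Sylow subgroups have rank one has trivial multiplier. -/
theorem mult_eq_bot {E H : Type*} [Group E] [Group H] [Finite E] [Finite H] {π : E →* H}
    (hπ : IsCentExt π) (h : ∀ r : ℕ, r.Prime → ∀ a b : H, orderOf a = r → orderOf b = r →
      Commute a b → b ∈ zpowers a) : mult π = ⊥ := by
  refine (eq_bot_iff_forall _).2 fun x hx => by_contra fun h1 => ?_
  obtain ⟨r, hr, hd⟩ := Nat.exists_prime_and_dvd (n := orderOf x) (by simpa using h1)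
  have := Fact.mk hr
  obtain ⟨R⟩ : Nonempty (Sylow r H) := inferInstance
  obtain ⟨h2, h3⟩ := pow_index_mem_commutator_of_central ((R : Subgroup H).comap π)
    (hπ.central hx.1) hx.2
  have hπ' := isCentExt_subgroupComap hπ R
  have h4 : (⟨_, h2⟩ : comap π R) ∈ mult (π.subgroupComap R) :=
    ⟨Subtype.ext (show π (x ^ _) = 1 by rw [map_pow, show π x = 1 from hx.1, one_pow]), h3⟩
  suffices h5 : ∀ y ∈ mult (π.subgroupComap R), y = 1 by
    have h6 := orderOf_dvd_of_pow_eq_one (show x ^ _ = 1 from congrArg Subtype.val (h5 _ h4))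
    rw [index_comap_of_surjective _ hπ.surj] at h6
    exact R.not_dvd_index (hd.trans h6)
  intro y hy
  rcases PGrp.isCyclic_or_quaternion_of_mem_zpowers R.isPGroup' (fun a b ha hb hc => by
    obtain ⟨k, hk⟩ := h r hr a b (by rw [orderOf_coe, ha]) (by rw [orderOf_coe, hb])
      (congrArg Subtype.val hc.eq)
    exact ⟨k, Subtype.ext hk⟩) with ⟨a, ha⟩ | ⟨-, k, hk, ⟨e⟩⟩
  · obtain ⟨A, rfl⟩ := hπ'.surj a
    obtain ⟨j, h5, -⟩ := (exists_metacyclic_mult hπ' (A := A) (B := A) (r := 1)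
      (eq_top_iff.2 fun b _ => by
        obtain ⟨i, rfl⟩ := ha b
        exact zpow_mem (subset_closure (by simp)) i) (by simp)).1 y hy
    simpa using h5
  · obtain ⟨a, b, h5, h6, h7⟩ := PGrp.exists_isDQSDPair_of_mulEquiv_quaternionGroup hk e
    obtain ⟨A, rfl⟩ := hπ'.surj a
    obtain ⟨B, rfl⟩ := hπ'.surj b
    obtain ⟨h8, h9, -⟩ := exists_metacyclic_mult hπ' (A := A) (B := B) (r := -1)
      (eq_top_iff.2 fun b _ => by
        rcases h5.mem_or b with ⟨i, rfl⟩ | ⟨i, rfl⟩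
        · exact zpow_mem (subset_closure (by simp)) i
        · exact mul_mem (subset_closure (by simp)) (zpow_mem (subset_closure (by simp)) i))
      (by simp [h6])
    obtain ⟨j, rfl, h10⟩ := h8 y hy
    rw [← orderOf_dvd_iff_zpow_eq_one, h5.2.2.1] at h10
    obtain ⟨i, rfl⟩ : (2 : ℤ) ^ k ∣ j := by
      rw [← mul_dvd_mul_iff_left (a := (2 : ℤ)) two_ne_zero, ← pow_succ', ← dvd_neg]
      simpa using h10
    rw [zpow_mul, h9 _ 2 (by exact_mod_cast h7.symm), one_zpow]

theorem surj_comm {X : Type*} [Group X] {f : G →* X} (hf : Function.Surjective f)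
    (hX : commutator X = ⊤) : Function.Surjective (f.comp (commutator G).subtype) := fun a => by
  have := map_commutator_eq G f
  rw [MonoidHom.range_eq_top.2 hf, ← _root_.commutator_def, hX] at this
  obtain ⟨b, hb, rfl⟩ := this.ge (mem_top a)
  exact ⟨⟨b, hb⟩, rfl⟩

/-- A perfect central extension of `PSL₂(F)` is `SL₂(F)` or `PSL₂(F)` when odd Sylow subgroups are
cyclic. -/
theorem quasi {L F : Type*} [Group L] [Finite L] [Field F] [Finite F] (h2 : (2 : F) ≠ 0)
    (hF : commutator SL(2, F) = ⊤) (hL : commutator L = ⊤)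
    (oc : OC (Matrix.ProjectiveSpecialLinearGroup (Fin 2) F))
    {σ : L →* Matrix.ProjectiveSpecialLinearGroup (Fin 2) F} (hσ : IsCentExt σ) :
    (∀ z ∈ σ.ker, z * z = 1) ∧
      (Nonempty (L ≃* Matrix.ProjectiveSpecialLinearGroup (Fin 2) F) ∨ Nonempty (L ≃* SL(2, F))) := by
  let P := ((BSW.piP F).comp (MonoidHom.fst _ L)).eqLocus (σ.comp (MonoidHom.snd _ L))
  let π := (MonoidHom.fst _ L).comp P.subtype
  let ρ := (MonoidHom.snd _ L).comp P.subtype
  have hπ : IsCentExt π := ⟨fun a => by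
    obtain ⟨b, hb⟩ := hσ.surj (BSW.piP F a)
    exact ⟨⟨(a, b), hb.symm⟩, rfl⟩, fun x hx => mem_center_iff.2 fun y => by
      have h1 : x.1.1 = 1 := hx
      have h3 : BSW.piP F x.1.1 = σ x.1.2 := x.2
      rw [h1, map_one] at h3
      exact Subtype.ext (Prod.ext (by simp [h1]) (mem_center_iff.1 (hσ.central h3.symm) _))⟩
  have hρ : Function.Surjective ρ := fun b => by
    obtain ⟨a, ha⟩ := BSW.piP_surj (σ b)
    exact ⟨⟨(a, b), ha⟩, rfl⟩
  have hm := mult_eq_bot hπ fun r hr a b ha hb hc => by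
    by_cases e : r = 2
    · subst e
      rw [H1.SL2_eq_neg_one_of_sq h2 ((sq b).trans (mul_self_of_inv hb)) (ne_one_of_inv hb),
        ← H1.SL2_eq_neg_one_of_sq h2 ((sq a).trans (mul_self_of_inv ha)) (ne_one_of_inv ha)]
      exact Subgroup.mem_zpowers a
    have ho := hr.odd_of_ne_two e
    obtain ⟨k, hk⟩ := oc.mem_zpowers hr e ((PA.orderOf_piP_of_odd h2 (ha ▸ ho)).trans ha)
      ((PA.orderOf_piP_of_odd h2 (hb ▸ ho)).trans hb) (hc.map _)
    exact ⟨k, PA.eq_of_piP_eq_of_odd h2 ho (by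
      rw [← zpow_natCast, ← zpow_mul, mul_comm, zpow_mul, zpow_natCast, ← ha, pow_orderOf_eq_one,
        one_zpow]) (hb ▸ pow_orderOf_eq_one b) (by simpa using hk)⟩
  let e := MulEquiv.ofBijective (π.comp (commutator P).subtype)
    ⟨(injective_iff_map_eq_one _).2 fun x hx => Subtype.ext (hm.le ⟨hx, x.2⟩), surj_comm hπ.surj hF⟩
  let f := (ρ.comp (commutator P).subtype).comp e.symm.toMonoidHom
  have hf : Function.Surjective f := (surj_comm hρ hL).comp e.symm.surjective
  have hσf : ∀ a, σ (f a) = BSW.piP F a := fun a => by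
    obtain ⟨x, rfl⟩ := e.surjective a
    simp only [f, MonoidHom.comp_apply, MulEquiv.coe_toMonoidHom, MulEquiv.symm_apply_apply]
    exact x.1.2.symm
  have hk : ∀ a, σ (f a) = 1 ↔ a = 1 ∨ a = -1 := fun a => by
    rw [hσf, BSW.piP_eq_one, H5.SL2_mem_center_iff']
  refine ⟨fun z hz => ?_, ?_⟩
  · obtain ⟨a, rfl⟩ := hf z
    rw [← map_mul]
    rcases (hk a).1 hz with rfl | rfl <;> simp
  by_cases h : f (-1) = 1
  · refine Or.inl ⟨MulEquiv.ofBijective σ ⟨(injective_iff_map_eq_one _).2 fun z hz => ?_, hσ.surj⟩⟩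
    obtain ⟨a, rfl⟩ := hf z
    rcases (hk a).1 hz with rfl | rfl <;> simp [h]
  · exact Or.inr ⟨(MulEquiv.ofBijective f ⟨(injective_iff_map_eq_one _).2 fun a ha =>
      ((hk a).1 (by rw [ha, map_one])).resolve_right fun e => h (e ▸ ha), hf⟩).symm⟩

end CfsgLib.SW
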