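import Cfsg.Agent.Lib.GW.Proj
import Cfsg.Agent.Lib.FrobeniusPComplement
import Cfsg.Agent.Lib.FrobZGroup

/-!
# Sylow `2`-subgroups with a cyclic maximal subgroup: the local frame
-/

set_option autoImplicit false

namespace CfsgLib.SW

open Subgroup Cfsg CfsgLib.FT CfsgLib.FT.BGN CfsgLib.Blk CfsgLib.GW
open scoped commutatorElement ComplexConjugate

variable {G : Type*} [Group G]

theorem mem_cent_of_cyclic [Finite G] {p : ℕ} (hp : p.Prime) {B : Subgroup G} (hB : IsPGroup p B)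
    (hc : IsCyclic B) {g : G} (hg : g ∈ 𝐍(B)) (h1 : (orderOf g).Coprime p)
    (h2 : (orderOf g).Coprime (p - 1)) : g ∈ 𝐂(B) := by
  have := Fact.mk hp
  obtain ⟨n, hn⟩ := IsPGroup.iff_card.1 hB
  rcases n with _ | n
  · exact U4.mem_cent.2 fun b hb => by
      rw [Subgroup.card_eq_one.1 hn, mem_bot] at hb
      simp [hb]
  have h3 := relIndex_cent_cyclic_pgroup_dvd (zpowers_le.2 hg) hc hn
  have h4 : (𝐂(B)).relIndex (zpowers g) ∣ orderOf g := Nat.card_zpowers g ▸ relIndex_dvd_card _ _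
  exact relIndex_eq_one.1 (Nat.eq_one_of_dvd_coprimes ((h1.pow_right n).mul_right h2) h4 h3)
    (mem_zpowers g)

theorem mem_cent_of_cyclic_two [Finite G] {B : Subgroup G} (hB : IsPGroup 2 B)
    (hc : IsCyclic B) {g : G} (hg : g ∈ 𝐍(B)) (h1 : Odd (orderOf g)) : g ∈ 𝐂(B) :=
  mem_cent_of_cyclic Nat.prime_two hB hc hg (Nat.coprime_two_right.2 h1) (by simp)

theorem conj_eq_of_odd [Finite G] {g b : G} (hg : Odd (orderOf g)) {k : ℕ}
    (h1 : (g * b * g⁻¹ * b⁻¹) ^ 2 ^ k = 1) (h2 : g ∈ 𝐂[g * b * g⁻¹ * b⁻¹]) : g * b = b * g := by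
  set c := g * b * g⁻¹ * b⁻¹ with hc
  have h3 : ∀ n : ℕ, g ^ n * b * (g ^ n)⁻¹ = c ^ n * b := fun n => by
    induction n with
    | zero => simp
    | succ n ih =>
      have h4 : g * c ^ n = c ^ n * g := (Commute.pow_right (U4.mem_cent1.1 h2) n).eq
      calc g ^ (n + 1) * b * (g ^ (n + 1))⁻¹ = g * (g ^ n * b * (g ^ n)⁻¹) * g⁻¹ := by group
        _ = c ^ n * (g * b * g⁻¹ * b⁻¹) * b := by rw [ih, ← mul_assoc, h4]; group
        _ = _ := by rw [← hc, pow_succ]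
  have h5 := h3 (orderOf g)
  rw [pow_orderOf_eq_one, one_mul, inv_one, mul_one, eq_comm, mul_eq_right] at h5
  have h6 : c = 1 := by
    rw [← pow_one c, ← Nat.Coprime.gcd_eq_one
      (Nat.Coprime.pow_left k (Nat.coprime_two_left.2 hg)), pow_gcd_eq_one]
    exact ⟨h1, h5⟩
  rwa [hc, mul_inv_eq_one, mul_inv_eq_iff_eq_mul] at h6

/-- An element of odd order normalizing a `2`-group and a cyclic subgroup of index at most two
centralizes it. -/
theorem mem_cent_of_index_two [Finite G] {P B : Subgroup G} (hP : IsPGroup 2 P) (hc : IsCyclic B)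
    (hB : B ≤ P) (h2 : ∀ a ∈ P, a ∉ B → ∀ b ∈ P, b ∉ B → a * b⁻¹ ∈ B) {g : G} (hgP : g ∈ 𝐍(P))
    (hgB : g ∈ 𝐍(B)) (ho : Odd (orderOf g)) : g ∈ 𝐂(P) := by
  have h1 := mem_cent_of_cyclic_two (hP.to_le hB) hc hgB ho
  refine U4.mem_cent.2 fun b hb => ?_
  by_cases hbB : b ∈ B
  · exact U4.mem_cent.1 h1 b hbB
  have h3 := h2 _ (conj_mem_of_mem_normalizer hgP hb) 
    (fun e => hbB (by simpa [mul_assoc] using conj_mem_of_mem_normalizer' hgB e)) b hb hbB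
  obtain ⟨k, hk⟩ := hP ⟨_, hB h3⟩
  exact (conj_eq_of_odd ho (congrArg Subtype.val hk) (U4.cent_le_cent1 h3 h1)).symm

/-- Frobenius' theorem. -/
theorem nilp2_of_cent [Finite G] {M S : Subgroup G} (hS : IsSylowIn 2 S M)
    (h : ∀ P ≤ S, ∀ g ∈ M, g ∈ 𝐍(P) → Odd (orderOf g) → g ∈ 𝐂(P)) : Nilp2 M := by
  obtain ⟨P, hP⟩ := hS.exists_sylow
  refine nilp2_of_hnpc (FrobNPC.hnpc_of_pAutomizer_le P fun H hH _ g hg ho => ?_)
  have h1 := h (H.map M.subtype) (by rintro _ ⟨a, ha, rfl⟩; exact (hP ▸ hH ha :)) g g.2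
    (mem_normalizer_of_conj_mem (by
      rintro _ ⟨a, ha, rfl⟩
      exact ⟨_, conj_mem_of_mem_normalizer hg ha, rfl⟩))
    (by rw [orderOf_coe]; exact Nat.coprime_two_right.1 ho)
  exact U4.mem_cent.2 fun a ha => Subtype.ext (U4.mem_cent.1 h1 a ⟨a, ha, rfl⟩)

theorem mem_zpowers_or [Finite G] {x a z : G} (hx : IsPGroup 2 (zpowers x)) (ha : a ∈ zpowers x)
    (hz : z ∈ zpowers x) : z ∈ zpowers a ∨ a ∈ zpowers (z * z) := by
  rcases le_total_of_cyclic_pgroup (inferInstance : IsCyclic (zpowers x)) hx (zpowers_le.2 ha)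
    (zpowers_le.2 hz) with h | h
  · obtain ⟨i, rfl⟩ := h (mem_zpowers a)
    obtain ⟨j, rfl | rfl⟩ := Int.even_or_odd' i
    · exact Or.inr ⟨j, by simp only [zpow_mul, ← sq]; norm_cast⟩
    · obtain ⟨k, hk⟩ := orderOf_eq_pow_of_mem_isPGroup hx hz
      refine Or.inl (mem_zpowers_zpow_iff.2 ?_)
      rw [hk]
      exact Int.isCoprime_iff_gcd_eq_one.1 (by
        push_cast
        exact IsCoprime.pow_right ⟨1, -j, by ring⟩)
  · exact Or.inl (h (mem_zpowers z))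

theorem notMem_zpowers_sq {z : G} {k : ℕ} (hk : z ^ 2 ^ k = 1) (h1 : z ≠ 1) :
    z ∉ zpowers (z * z) := by
  rintro ⟨i, hi⟩
  have h2 : z ^ (2 * i - 1) = 1 := by
    rw [zpow_sub, zpow_mul, zpow_two, show (z * z) ^ i = z from hi]; simp
  have h3 : ((orderOf z : ℕ) : ℤ) ∣ 2 * i - 1 := orderOf_dvd_iff_zpow_eq_one.2 h2
  obtain ⟨j, -, hj⟩ := (Nat.dvd_prime_pow Nat.prime_two).1 (orderOf_dvd_of_pow_eq_one hk)
  rcases j with _ | j
  · exact h1 (orderOf_eq_one_iff.1 hj)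
  · have : (2 : ℤ) ∣ 2 * i - 1 := Dvd.dvd.trans (by rw [hj]; push_cast; exact dvd_pow_self 2 (by omega)) h3
    omega

/-- `S = ⟨x, y⟩` is a Sylow `2`-subgroup of `L` whose quotient by `⟨z ^ 2⟩` is dihedral. -/
structure Fr (L S : Subgroup G) (x y z : G) : Prop where
  syl : IsSylowIn 2 S L
  xS : x ∈ S
  yS : y ∈ S
  yA : y ∉ zpowers x
  cov : ∀ s ∈ S, s ∈ zpowers x ∨ s * y⁻¹ ∈ zpowers x
  zx : z ∈ zpowers (x * x)
  z1 : z ≠ 1
  inv : y * x * y⁻¹ * x ∈ zpowers (z * z)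
  yy : y * y ∈ zpowers (z * z)

/-- The normalizer of `⟨z⟩`. -/
def N0 (L : Subgroup G) (z : G) : Subgroup G := L ⊓ 𝐍(zpowers z)

theorem comm_A {x a b : G} (ha : a ∈ zpowers x) (hb : b ∈ zpowers x) : a * b = b * a :=
  commute_of_mem_zpowers ha hb

theorem sq_le (x : G) : zpowers (x * x) ≤ zpowers x :=
  zpowers_le.2 (mul_mem (mem_zpowers x) (mem_zpowers x))

theorem conj_mem_sq {g z a : G} (hg : g ∈ 𝐍(zpowers z)) (ha : a ∈ zpowers (z * z)) :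
    g * a * g⁻¹ ∈ zpowers (z * z) := by
  obtain ⟨i, hi⟩ := conj_mem_of_mem_normalizer hg (mem_zpowers z)
  obtain ⟨j, rfl⟩ := ha
  refine ⟨i * j, ?_⟩
  simp only at hi ⊢
  rw [← conj_zpow, ← _root_.conj_mul, ← hi, zpow_mul, (Commute.refl z).mul_zpow]

namespace Fr

variable {L S : Subgroup G} {x y z a b g : G} (h : Fr L S x y z)
include h

theorem AS : zpowers x ≤ S := zpowers_le.2 h.xS

theorem AL : zpowers x ≤ L := h.AS.trans h.syl.le

theorem zA : z ∈ zpowers x := sq_le x h.zx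

theorem A0A : zpowers (z * z) ≤ zpowers x := (sq_le z).trans (zpowers_le.2 h.zA)

theorem A0x : zpowers (z * z) ≤ zpowers (x * x) := (sq_le z).trans (zpowers_le.2 h.zx)

theorem pA : IsPGroup 2 (zpowers x) := h.syl.isPGroup.to_le h.AS

theorem exists_pow (hb : b ∈ S) : ∃ k, b ^ 2 ^ k = 1 := by
  obtain ⟨k, hk⟩ := h.syl.isPGroup ⟨b, hb⟩
  exact ⟨k, congrArg Subtype.val hk⟩

theorem zA0 : z ∉ zpowers (z * z) := by
  obtain ⟨k, hk⟩ := h.exists_pow (h.AS h.zA)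
  exact notMem_zpowers_sq hk h.z1

theorem xA : x ∉ zpowers (x * x) := by
  obtain ⟨k, hk⟩ := h.exists_pow h.xS
  refine notMem_zpowers_sq hk fun e => h.z1 ?_
  simpa [e] using h.zx

theorem xxA0 : x * x ∉ zpowers (z * z) := fun e => h.zA0 (zpowers_le.2 e h.zx)

theorem inv' (ha : a ∈ zpowers x) : y * a * y⁻¹ * a ∈ zpowers (z * z) := by
  obtain ⟨i, rfl⟩ := ha
  have h1 : y * x * y⁻¹ ∈ zpowers x := by
    simpa using mul_mem (h.A0A h.inv) (inv_mem (mem_zpowers x))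
  simp only
  rw [← conj_zpow, ← (commute_of_mem_zpowers h1 (mem_zpowers x)).mul_zpow]
  exact zpow_mem h.inv i

theorem yconj (ha : a ∈ zpowers x) : y * a * y⁻¹ ∈ zpowers x := by
  simpa using mul_mem (h.A0A (h.inv' ha)) (inv_mem ha)

theorem exists_mul (hb : b ∈ S) (hbA : b ∉ zpowers x) : ∃ c ∈ zpowers x, b = c * y :=
  ⟨_, (h.cov b hb).resolve_left hbA, by simp⟩

theorem mul_y_notMem (ha : a ∈ zpowers x) : a * y ∉ zpowers x := fun e =>
  h.yA (by simpa using mul_mem (inv_mem ha) e)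

theorem conj_eq (hb : b ∈ S) (hbA : b ∉ zpowers x) (ha : a ∈ zpowers x) :
    b * a * b⁻¹ = y * a * y⁻¹ := by
  obtain ⟨c, hc, rfl⟩ := h.exists_mul hb hbA
  rw [show c * y * a * (c * y)⁻¹ = c * (y * a * y⁻¹) * c⁻¹ by group, comm_A hc (h.yconj ha),
    mul_inv_cancel_right]

theorem sq_mem (hb : b ∈ S) (hbA : b ∉ zpowers x) : b * b ∈ zpowers (z * z) := by
  obtain ⟨c, hc, rfl⟩ := h.exists_mul hb hbA
  rw [show c * y * (c * y) = c * (y * c * y⁻¹) * (y * y) by group, comm_A hc (h.yconj hc)]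
  exact mul_mem (h.inv' hc) h.yy

theorem mul_mem_A (ha : a ∈ S) (haA : a ∉ zpowers x) (hb : b ∈ S) (hbA : b ∉ zpowers x) :
    a * b ∈ zpowers x := by
  obtain ⟨c, hc, rfl⟩ := h.exists_mul ha haA
  obtain ⟨d, hd, rfl⟩ := h.exists_mul hb hbA
  rw [show c * y * (d * y) = c * (y * d * y⁻¹) * (y * y) by group]
  exact mul_mem (mul_mem hc (h.yconj hd)) (h.A0A h.yy)

theorem conj_cases (hb : b ∈ S) (ha : a ∈ zpowers x) :
    b * a * b⁻¹ = a ∨ b * a * b⁻¹ = y * a * y⁻¹ := by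
  by_cases hbA : b ∈ zpowers x
  · exact Or.inl (by rw [comm_A hbA ha, mul_inv_cancel_right])
  · exact Or.inr (h.conj_eq hb hbA ha)

theorem yy_conj (ha : a ∈ zpowers x) : y * (y * a * y⁻¹) * y⁻¹ = a := by
  rw [show y * (y * a * y⁻¹) * y⁻¹ = y * y * a * (y * y)⁻¹ by group, comm_A (h.A0A h.yy) ha,
    mul_inv_cancel_right]

variable [Finite G]

theorem normA : S ≤ 𝐍(zpowers x) := fun b hb => mem_normalizer_of_conj_mem fun a ha => by
  rcases h.conj_cases hb ha with e | e <;> rw [e]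
  exacts [ha, h.yconj ha]

theorem mem_iff (hb : b ∈ S) : z ∈ zpowers b ↔ b ∈ zpowers x ∧ b ∉ zpowers (z * z) := by
  refine ⟨fun ⟨i, hi⟩ => ⟨by_contra fun hbA => ?_, fun e => h.zA0 (hi ▸ zpow_mem e i)⟩,
    fun e => (mem_zpowers_or h.pA e.1 h.zA).resolve_right e.2⟩
  simp only at hi
  have h1 := h.sq_mem hb hbA
  obtain ⟨j, rfl | rfl⟩ := Int.even_or_odd' i
  · rw [zpow_mul, zpow_two] at hi
    have h2 := zpow_mem h1 j
    exact h.zA0 (by rwa [hi] at h2)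
  · rw [zpow_add, zpow_mul, zpow_two, zpow_one] at hi
    exact hbA (by simpa [← hi] using mul_mem (inv_mem (zpow_mem (h.A0A h1) j)) h.zA)

omit h in
theorem mem_norm_of_conj {c : G} (hz : z ∈ zpowers c) (e : g * z * g⁻¹ ∈ zpowers c) :
    g ∈ 𝐍(zpowers z) :=
  mem_normalizer_of_map_conj_eq (by
    rw [← U4.zpowers_conj]
    exact U4.eq_of_le_cyclic inferInstance (zpowers_le.2 e) (zpowers_le.2 hz)
      (by rw [Nat.card_zpowers, Nat.card_zpowers, U4.orderOf_conj]))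

theorem SN : S ≤ N0 L z := le_inf h.syl.le
  (h.normA.trans (U4.norm_le_norm_of_le_cyclic inferInstance (zpowers_le.2 h.zA)))

theorem sylN : IsSylowIn 2 S (N0 L z) := h.syl.mono h.SN inf_le_left

omit h in
theorem mem_zpowers_conj {c : G} (hg : g ∈ 𝐍(zpowers z)) (hz : z ∈ zpowers c) :
    z ∈ zpowers (g * c * g⁻¹) := by
  rw [U4.zpowers_conj]
  exact map_mono (zpowers_le.2 hz) ((map_conj_eq_of_mem_normalizer hg).symm ▸ mem_zpowers z)

theorem nilp : Nilp2 (N0 L z) := by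
  refine nilp2_of_cent h.sylN fun P hP g hg hn ho => ?_
  have hzS := zpowers_le.2 (h.AS h.zA)
  have hn' : g ∈ 𝐍(P ⊔ zpowers z) :=
    H1.le_normalizer_sup (zpowers_le.2 hn) (zpowers_le.2 hg.2) (mem_zpowers g)
  refine centralizer_le (show (P : Set G) ⊆ (P ⊔ zpowers z :) from le_sup_left (b := zpowers z))
    (mem_cent_of_index_two (B := (P ⊔ zpowers z) ⊓ zpowers x)
    (h.syl.isPGroup.to_le (sup_le hP hzS)) (U4.isCyclic_of_le' inferInstance inf_le_right)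
    inf_le_left (fun a ha haB b hb hbB => mem_inf.2 ⟨mul_mem ha (inv_mem hb),
      h.mul_mem_A (sup_le hP hzS ha) (fun e => haB ⟨ha, e⟩) (inv_mem (sup_le hP hzS hb))
        fun e => hbB (mem_inf.2 ⟨hb, inv_mem_iff.1 e⟩)⟩) hn' (mem_normalizer_of_conj_mem fun b hb => ?_) ho)
  have h2 := conj_mem_of_mem_normalizer hn' hb.1
  refine ⟨h2, ?_⟩
  by_cases hb0 : b ∈ zpowers (z * z)
  · exact h.A0A (conj_mem_sq hg.2 hb0)
  · exact ((h.mem_iff (sup_le hP hzS h2)).1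
      (mem_zpowers_conj hg.2 ((h.mem_iff (h.AS hb.2)).2 ⟨hb.2, hb0⟩))).1

theorem compl : IsComplIn (Od (N0 L z)) S (N0 L z) := h.nilp.isComplIn h.sylN

theorem cent_le (hz : z ∈ zpowers g) : L ⊓ 𝐂[g] ≤ N0 L z :=
  inf_le_inf_left L ((U4.cent1_le_cent (zpowers_le.2 hz)).trans (U4.cent_le_norm _))

theorem W_cent : Od (N0 L z) ≤ 𝐂[z] := fun w hw =>
  U4.cent_zpowers z ▸ mem_cent_of_cyclic_two (h.pA.to_le (zpowers_le.2 h.zA)) inferInstance
    (Od_le _ hw).2 (odd_of_mem_Od hw)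

theorem fusN (hb : b ∈ S) (hg : g ∈ N0 L z) (e : g * b * g⁻¹ ∈ S) :
    ∃ s ∈ S, g * b * g⁻¹ = s * b * s⁻¹ := by
  obtain ⟨w, hw, s, hs, rfl⟩ := h.compl.2.2.2 g hg
  refine ⟨s, hs, ?_⟩
  rw [show w * s * b * (w * s)⁻¹ = w * (s * b * s⁻¹) * w⁻¹ by group] at e ⊢
  exact U4.conj_eq_of_conj_mem h.compl.2.2.1 (h.SN.trans (le_norm_Od _)) hw
    (mul_mem (mul_mem hs hb) (inv_mem hs)) e

theorem fus (ha : a ∈ zpowers x) (ha0 : a ∉ zpowers (z * z)) (hg : g ∈ L)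
    (e : g * a * g⁻¹ ∈ zpowers x) : g * a * g⁻¹ = a ∨ g * a * g⁻¹ = y * a * y⁻¹ := by
  have h1 := (h.mem_iff (h.AS ha)).2 ⟨ha, ha0⟩
  obtain ⟨s, hs, e'⟩ := h.fusN (h.AS ha) ⟨hg, mem_norm_of_conj h.zA (zpowers_le.2 e
    (U4.zpowers_conj g a ▸ U4.conj_mem_conj_iff.2 h1))⟩ (h.AS e)
  rw [e']
  exact h.conj_cases hs ha

theorem syl_cent (hb : b ∈ S) (hz : z ∈ zpowers b) : IsSylowIn 2 (S ⊓ 𝐂[b]) (L ⊓ 𝐂[b]) := by
  have h1 := U4.IsComplIn.cent1 h.compl (h.SN.trans (le_norm_Od _)) hb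
  rw [show N0 L z ⊓ 𝐂[b] = L ⊓ 𝐂[b] from le_antisymm (inf_le_inf_right _ inf_le_left)
    (le_inf (h.cent_le hz) inf_le_right)] at h1
  refine ⟨h1.2.1, h.syl.isPGroup.to_le inf_le_left, ?_⟩
  rw [U4.IsComplIn.relIndex_right h1, ← even_iff_two_dvd, Nat.not_even_iff_odd]
  exact odd_card_of_le (odd_Od _) inf_le_left

theorem card_S : Nat.card S = 2 * Nat.card (zpowers x) := by
  have := Fintype.ofFinite G
  rw [card_eq_relIndex_mul h.AS, relIndex_eq_two_iff_exists_notMem_and.2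
    ⟨y⁻¹, inv_mem h.yS, fun e => h.yA (inv_mem_iff.1 e), fun b hb => (h.cov b hb).symm⟩]

end Fr

end CfsgLib.SW
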