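import Cfsg.Agent.Lib.SW.Frame
import Cfsg.Agent.Lib.H9SylowNum
import Cfsg.Agent.Lib.ClassSize2
import Cfsg.Agent.Lib.GW.CountA

/-!
# Groups with cyclic Sylow subgroups for odd primes: local lemmas
-/

set_option autoImplicit false

namespace CfsgLib.SW

open Subgroup Cfsg CfsgLib.FT CfsgLib.FT.BGN CfsgLib.Blk CfsgLib.GW
open scoped commutatorElement

variable {G : Type*} [Group G]

/-- Subgroups of odd prime power order are cyclic. -/
def OC (G : Type*) [Group G] : Prop :=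
  ∀ p : ℕ, p.Prime → p ≠ 2 → ∀ P : Subgroup G, IsPGroup p P → IsCyclic P

variable [Finite G]

theorem OC.zgroup (h : OC G) {X : Subgroup G} (ho : Odd (Nat.card X)) : IsZGroup X :=
  isZGroup_of_sylow fun q hq S hS => by
    by_cases e : q = 2
    · subst e
      rw [show S = ⊥ from le_bot_iff.1 (Od_inf_eq_bot (M := X) hS.isPGroup ▸
        le_inf (hS.le.trans (le_Od le_rfl le_normalizer ho)) le_rfl)]
      infer_instance
    · exact h q hq.out e S hS.isPGroup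

theorem OC.comm_le_cent (h : OC G) {X D B : Subgroup G} (ho : Odd (Nat.card X))
    (hD : IsPGroup 2 D) (hDX : D ≤ 𝐍(X)) (hBX : B ≤ 𝐍(X)) (hBD : B ≤ 𝐍(D)) : ⁅D, B⁆ ≤ 𝐂(X) := by
  have := h.zgroup ho
  have := Frob.isCyclic_commutator_of_isZGroup hDX
  obtain ⟨k, hk⟩ := IsPGroup.iff_card.1 hD
  have h1 := Cop.commutator_sup_centralizer hDX
    (hk ▸ Nat.Coprime.pow_left k (Nat.coprime_two_left.2 ho)) (Or.inr (solvable_of_odd ho))
  rw [le_centralizer_iff, ← h1]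
  refine sup_le (le_centralizer_iff.1 (Frob.commutator_le_centralizer_of_isCyclic
    (Cop.le_normalizer_commutator hDX le_normalizer) (Cop.le_normalizer_commutator hBX hBD))) ?_
  exact inf_le_right.trans (centralizer_le (Cop.commutator_le_left_of_le_normalizer hBD))

/-- Burnside's theorem for a cyclic Sylow subgroup with a central element. -/
theorem exists_compl {K R : Subgroup G} {r : ℕ} (hr : r.Prime) (hR : IsSylowIn r R K)
    (h : K ⊓ 𝐍(R) ≤ 𝐂(R)) : ∃ D ≤ K, K ≤ 𝐍(D) ∧ (Nat.card D).Coprime r ∧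
      ∀ g ∈ K, (orderOf g).Coprime r → g ∈ D := by
  have := Fact.mk hr
  obtain ⟨P, hP⟩ := hR.exists_sylow
  have h1 := PCompl.hnpc_of_normalizer_le_centralizer P fun g hg => by
    rw [hP] at hg ⊢
    have h2 : (g : G) ∈ 𝐍(R) := mem_normalizer_of_conj_mem fun x hx =>
      conj_mem_of_mem_normalizer (x := ⟨x, hR.le hx⟩) hg hx
    exact U4.mem_cent.2 fun x hx => Subtype.ext (U4.mem_cent.1 (h ⟨g.2, h2⟩) x hx)
  refine ⟨(pResidual r K).map K.subtype, map_subtype_le _, fun g hg =>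
    mem_normalizer_of_conj_mem ?_, ?_, fun g hg ho => ⟨⟨g, hg⟩, ?_, rfl⟩⟩
  · rintro _ ⟨a, ha, rfl⟩
    exact ⟨_, (PRes.pResidual_normal : (pResidual r K).Normal).conj_mem a ha ⟨g, hg⟩, rfl⟩
  · rw [card_map_of_injective K.subtype_injective]
    exact PCompl.hnpc_iff_coprime_pResidual.1 h1
  · exact (PCompl.hnpc_mem_pResidual_iff h1).2 (by rwa [← orderOf_coe])

theorem mem_of_norm_sylow {K R : Subgroup G} {r k : ℕ} [Fact r.Prime] (hR : IsSylowIn r R K)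
    {g : G} (hg : g ∈ K) (hn : g ∈ 𝐍(R)) (ho : orderOf g = r ^ k) : g ∈ R := by
  have h1 := hR.eq_of_le (T := R ⊔ zpowers g) (IsPGroup.to_sup_of_normal_left' hR.isPGroup
    (isPGroup_zpowers_iff.2 ⟨k, ho⟩) (zpowers_le.2 hn)) le_sup_left
    (sup_le hR.le (zpowers_le.2 hg))
  exact h1 ▸ mem_sup_right (mem_zpowers g)

theorem OC.exists_compl_cent (h : OC G) {L : Subgroup G} {r : ℕ} (hr : r.Prime) (hr2 : r ≠ 2)
    {ρ : G} (hρ : orderOf ρ = r) (hL : ρ ∈ L) : ¬ r ∣ (𝐂[ρ]).relIndex L ∧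
      ∃ D ≤ L ⊓ 𝐂[ρ], L ⊓ 𝐂[ρ] ≤ 𝐍(D) ∧ (Nat.card D).Coprime r ∧
        ∀ g ∈ L ⊓ 𝐂[ρ], (orderOf g).Coprime r → g ∈ D := by
  have := Fact.mk hr
  obtain ⟨R, h1, hR⟩ := IsSylowIn.exists_ge (isPGroup_zpowers_iff.2 ⟨1, by rw [hρ, pow_one]⟩)
    (zpowers_le.2 hL)
  have hc := h r hr hr2 R hR.isPGroup
  have h2 : R ≤ 𝐂[ρ] := (U4.le_cent_of_isCyclic hc).trans (U4.cent_le_cent1 (h1 (mem_zpowers ρ)))
  have hR' := hR.mono (le_inf hR.le h2) inf_le_left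
  refine ⟨fun e => hR.not_dvd (e.trans (relIndex_dvd_of_le_left L h2)),
    exists_compl hr hR' fun n hn => ?_⟩
  obtain ⟨u, hu, v, hv, rfl, -, ⟨k, hk⟩, ho⟩ := exists_p_part hr n
  have hu := zpowers_le.2 hn hu
  have hv := zpowers_le.2 hn hv
  refine mul_mem (U4.le_cent_of_isCyclic hc (mem_of_norm_sylow hR' hu.1 hu.2 hk)) ?_
  refine le_centralizer_iff.1 (le_cent_of_cyclic_of_fixed hR.isPGroup hc (zpowers_le.2 hv.2)
    (by rwa [Nat.card_zpowers]) (U4.ne_bot_of_mem (x := ρ) ⟨h1 (mem_zpowers ρ), ?_⟩ fun e => ?_))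
    (mem_zpowers v)
  · rw [U4.cent_zpowers]
    exact U4.mem_cent1_comm.1 hv.1.2
  · rw [e, orderOf_one] at hρ
    exact hr.one_lt.ne hρ

/-- A Sylow `r`-subgroup containing `ρ` normalizes a Sylow `p`-subgroup of `C(ρ)`. -/
theorem OC.not_dvd (h : OC G) {L T : Subgroup G} {r p : ℕ} (hr : r.Prime) (hr2 : r ≠ 2)
    (hp : p.Prime) (hpr : p ≠ r) {ρ : G} (hρ : orderOf ρ = r) (hL : ρ ∈ L)
    (hT : IsSylowIn p T (L ⊓ 𝐂[ρ])) : ¬ r ∣ (𝐂[ρ] ⊓ 𝐍(T)).relIndex L := by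
  have := Fact.mk hp
  obtain ⟨h1, D, hD, hn, hc, hm⟩ := h.exists_compl_cent hr hr2 hρ hL
  have h2 : T ≤ D := fun g hg => hm g (hT.le hg) (by
    obtain ⟨k, hk⟩ := orderOf_eq_pow_of_mem_isPGroup hT.isPGroup hg
    rw [hk]
    exact ((Nat.coprime_primes hp hr).2 hpr).pow_left k)
  have h3 : (𝐍(T)).relIndex (L ⊓ 𝐂[ρ]) = (𝐍(T)).relIndex D := relIndex_eq_of_mul hD fun g hg => by
    obtain ⟨d, hd, e⟩ := (hT.mono h2 hD).frattini_elem (hn hg)
    exact ⟨d⁻¹, inv_mem hd, _, e, by simp⟩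
  rw [inf_comm, ← relIndex_inf_mul_relIndex, hr.dvd_mul, inf_comm, h3, not_or]
  exact ⟨fun e => hr.coprime_iff_not_dvd.1 hc.symm (e.trans (relIndex_dvd_card _ _)), h1⟩

theorem exists_orderOf {H : Subgroup G} {r : ℕ} (hr : r.Prime) (h : r ∣ Nat.card H) :
    ∃ ρ ∈ H, orderOf ρ = r := by
  have := Fact.mk hr
  obtain ⟨ρ, e⟩ := exists_prime_orderOf_dvd_card' r h
  exact ⟨ρ, ρ.2, by rwa [orderOf_coe]⟩

theorem conj_eq_or {s ρ : G} (hρ : (orderOf ρ).Prime) (hn : s ∈ 𝐍(zpowers ρ))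
    (h2 : s * s ∈ 𝐂[ρ]) : s * ρ * s⁻¹ = ρ ∨ s * ρ * s⁻¹ = ρ⁻¹ := by
  have h1 := conj_mem_of_mem_normalizer hn (mem_zpowers ρ)
  by_cases e : s * ρ * s⁻¹ * ρ = 1
  · exact Or.inr (eq_inv_of_mul_eq_one_left e)
  have h3 := U4.cent1_eq_of_card_prime (by rwa [Nat.card_zpowers]) (mul_mem h1 (mem_zpowers ρ)) e
  rw [U4.cent_zpowers] at h3
  refine Or.inl (U4.conj_eq_of_mem_cent1 (h3 ▸ U4.mem_cent1_of_conj_eq ?_))
  rw [← _root_.conj_mul, comm_A h1 (mem_zpowers ρ),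
    show s * (s * ρ * s⁻¹) * s⁻¹ = s * s * ρ * (s * s)⁻¹ by group, U4.conj_eq_of_mem_cent1 h2]

namespace Fr

variable {L S : Subgroup G} {x y z a b g : G} (h : Fr L S x y z)
include h

theorem norm_le : L ⊓ 𝐍(S) ≤ N0 L z := fun n hn => by
  refine ⟨hn.1, U4.norm_le_norm_of_le_cyclic inferInstance (zpowers_le.2 h.zA)
    (mem_normalizer_of_map_conj_eq (eq_of_le_of_card_ge ?_ (by rw [card_map_conj])))⟩
  rw [← U4.zpowers_conj, zpowers_le]
  by_contra e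
  have h1 := h.sq_mem (conj_mem_of_mem_normalizer hn.2 h.xS) e
  rw [_root_.conj_mul] at h1
  have h2 := eq_of_le_of_card_ge h.A0x ((card_le_of_le (zpowers_le.2 h1)).trans' (by
    rw [Nat.card_zpowers, Nat.card_zpowers, U4.orderOf_conj]))
  exact h.xxA0 (h2 ▸ mem_zpowers _)

theorem mem_cent_of_W (hg : g ∈ Od (N0 L z)) (hn : g ∈ 𝐍(S)) : g ∈ 𝐂(S) :=
  U4.mem_cent.2 fun s hs => (mul_inv_eq_iff_eq_mul.1 (U4.conj_eq_of_conj_mem h.compl.2.2.1
    (h.SN.trans (le_norm_Od _)) hg hs (conj_mem_of_mem_normalizer hn hs))).symm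

theorem sq_mem_comm : x * x ∈ ⁅S, S⁆ := by
  have h1 := h.inv' (inv_mem (mem_zpowers x))
  have hx := mem_zpowers x
  have h2 := h.yconj (inv_mem hx)
  have h3 : x * x ∈ zpowers (x * (y * x⁻¹ * y⁻¹)) := by
    refine (mem_zpowers_or h.pA (mul_mem hx h2) (mul_mem hx hx)).resolve_right fun e => ?_
    obtain ⟨k, hk⟩ := h.exists_pow (mul_mem h.xS h.xS)
    refine notMem_zpowers_sq hk (fun e => h.xxA0 (e ▸ one_mem _)) ?_
    have h4 : zpowers (z * z) ≤ zpowers (x * x * (x * x)) := zpowers_le.2 (by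
      obtain ⟨i, rfl⟩ := h.zx
      exact ⟨i, (Commute.refl (x * x)).mul_zpow i⟩)
    have := mul_mem e (inv_mem (h4 h1))
    rwa [comm_A hx h2, comm_A h2 (inv_mem hx), comm_A h2 hx,
      show x * (y * x⁻¹ * y⁻¹) * (x⁻¹ * (y * x⁻¹ * y⁻¹))⁻¹ = x * x by group] at this
  refine zpowers_le.2 ?_ h3
  simpa [commutatorElement_def, mul_assoc] using commutator_mem_commutator h.xS h.yS

theorem sq_cent (oc : OC G) {X : Subgroup G} (ho : Odd (Nat.card X)) (hn : S ≤ 𝐍(X)) :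
    zpowers (x * x) ≤ 𝐂(X) :=
  zpowers_le.2 (oc.comm_le_cent ho h.syl.isPGroup hn hn le_normalizer h.sq_mem_comm)

theorem sq_mem_sq {s : G} (hs : s ∈ S) : s * s ∈ zpowers (x * x) := by
  by_cases e : s ∈ zpowers x
  · obtain ⟨i, rfl⟩ := e
    exact ⟨i, (Commute.refl x).mul_zpow i⟩
  · exact h.A0x (h.sq_mem hs e)

end Fr

theorem Fr.eq_one_of_cent [IsSimpleGroup G] {S : Subgroup G} {x y z w : G} (h : Fr ⊤ S x y z)
    (oc : OC G) (hw : w ∈ 𝐂(S)) (ho : Odd (orderOf w)) : w = 1 := by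
  classical
  by_contra h1
  have hex : ∃ r : ℕ, r.Prime ∧ r ≠ 2 ∧ r ∣ Nat.card 𝐂(S) := by
    obtain ⟨r, hr, hd⟩ := U4.exists_prime_dvd_orderOf h1
    exact ⟨r, hr, fun e => by rw [e] at hd; exact absurd (ho.of_dvd_nat hd) (by decide),
      hd.trans (Subgroup.orderOf_dvd_natCard _ hw)⟩
  obtain ⟨hr, hr2, hd⟩ := Nat.find_spec hex
  set r := Nat.find hex
  have := Fact.mk hr
  obtain ⟨ρ, hρ, hρo⟩ := exists_orderOf hr hd
  have h2 := oc.not_dvd hr hr2 Nat.prime_two hr2.symm hρo (mem_top ρ) (h.syl.mono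
    (le_inf le_top ((le_centralizer_iff.1 (zpowers_le.2 hρ)).trans (U4.cent_zpowers ρ).le)) le_top)
  obtain ⟨R, hR⟩ := IsSylowIn.exists_in (p := r) (𝐂[ρ] ⊓ 𝐍(S))
  have hR' : IsSylowIn r R ⊤ := ⟨le_top, hR.isPGroup, by
    rw [← relIndex_mul_relIndex _ _ _ hR.le le_top, hr.dvd_mul, not_or]
    exact ⟨hR.not_dvd, h2⟩⟩
  have hc := oc r hr hr2 R hR.isPGroup
  have hRS : S ≤ 𝐂(R) := le_centralizer_iff.1 fun g hg => h.mem_cent_of_W
    (h.nilp g (h.norm_le ⟨mem_top g, (hR.le hg).2⟩)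
      (odd_orderOf_of_mem (odd_card_of_isPGroup hr hr2 hR.isPGroup) hg)) (hR.le hg).2
  obtain ⟨D, -, hn, h3, h4⟩ := exists_compl hr hR' fun n hn => by
    obtain ⟨k, hk, e⟩ := (h.syl.mono hRS le_top).frattini_elem
      (H5.normalizer_le_normalizer_centralizer' R hn.2)
    obtain ⟨w, hw, s, hs, e'⟩ := h.compl.2.2.2 _ (h.norm_le ⟨mem_top _, e⟩)
    have e2 : w = k * n * s⁻¹ := by rw [e', mul_inv_cancel_right]
    have hwS := h.mem_cent_of_W hw (e2 ▸ mul_mem e (inv_mem (le_normalizer hs)))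
    have hwR : w ∈ 𝐍(R) := e2 ▸ mul_mem (mul_mem (U4.cent_le_norm R hk) hn.2)
      (inv_mem (U4.cent_le_norm R (hRS hs)))
    have hwC : w ∈ 𝐂(R) := mem_of_forall_primePow_mem fun v hv q j hq e => by
      rcases j with _ | j
      · rw [orderOf_eq_one_iff.1 e]; exact one_mem _
      have hd : q ∣ orderOf w := (e ▸ dvd_pow_self q j.succ_ne_zero).trans
        (orderOf_dvd_of_mem_zpowers hv)
      have h5 : r ≤ q := Nat.find_min' hex ⟨hq, fun e => by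
        rw [e] at hd; exact absurd ((odd_of_mem_Od hw).of_dvd_nat hd) (by decide),
        hd.trans (Subgroup.orderOf_dvd_natCard _ hwS)⟩
      rcases h5.eq_or_lt with h5 | h5
      · exact U4.le_cent_of_isCyclic hc
          (mem_of_norm_sylow hR' (mem_top v) (zpowers_le.2 hwR hv) (h5 ▸ e))
      · refine mem_cent_of_cyclic hr hR.isPGroup hc (zpowers_le.2 hwR hv) ?_ ?_ <;> rw [e]
        · exact ((Nat.coprime_primes hq hr).2 h5.ne').pow_left _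
        · exact ((Nat.coprime_of_lt_prime (by have := hr.two_le; omega) (by omega) hq)).pow_left _
    rw [show n = k⁻¹ * (w * s) by rw [← e', inv_mul_cancel_left]]
    exact mul_mem (inv_mem hk) (mul_mem hwC (hRS hs))
  rcases (normal_of_le_normalizer_top hn).eq_bot_or_eq_top with e | e
  · obtain ⟨k, hk⟩ := orderOf_eq_pow_of_mem_isPGroup h.syl.isPGroup (h.AS h.zA)
    exact h.z1 (mem_bot.1 (e ▸ h4 z (mem_top z)
      (hk ▸ ((Nat.coprime_primes Nat.prime_two hr).2 hr2.symm).pow_left k)))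
  · rw [e] at h3
    exact hr.coprime_iff_not_dvd.1 h3.symm (hd.trans (card_dvd_of_le le_top))

theorem Fr.cyclic_W [IsSimpleGroup G] {S X : Subgroup G} {x y z : G} (h : Fr ⊤ S x y z)
    (oc : OC G) (ho : Odd (Nat.card X)) (hn : S ≤ 𝐍(X)) : IsCyclic X := by
  have := oc.zgroup ho
  obtain ⟨k, hk⟩ := IsPGroup.iff_card.1 h.syl.isPGroup
  have h1 := Cop.commutator_sup_centralizer hn
    (hk ▸ Nat.Coprime.pow_left k (Nat.coprime_two_left.2 ho)) (Or.inr (solvable_of_odd ho))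
  rw [show X ⊓ 𝐂(S) = ⊥ from U4.eq_bot_of_forall fun w hw =>
    h.eq_one_of_cent oc hw.2 (odd_orderOf_of_mem ho hw.1), sup_bot_eq] at h1
  exact h1 ▸ Frob.isCyclic_commutator_of_isZGroup hn

/-- Local hypotheses on four-groups. -/
structure LV (G : Type*) [Group G] : Prop where
  oc : OC G
  eight : ∀ a : G, orderOf a = 2 → 8 ∣ Nat.card 𝐂[a]
  syl : ∀ a b : G, Four a b → IsSylowIn 2 (V a b) 𝐂(V a b)
  one : ∀ a b : G, orderOf a = 2 → orderOf b = 2 → ∃ g, g * a * g⁻¹ = b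

theorem mem_cent_V {a b g : G} (h1 : g * a * g⁻¹ = a) (h2 : g * b * g⁻¹ = b) : g ∈ 𝐂(V a b) :=
  cent_V a b ▸ ⟨U4.mem_cent1_of_conj_eq h1, U4.mem_cent1_of_conj_eq h2⟩

theorem Four.conj_cases {a b g : G} (h : Four a b) (hg : g ∈ 𝐍(V a b)) (h1 : g * a * g⁻¹ = a) :
    g * b * g⁻¹ = b ∨ g * b * g⁻¹ = a * b := by
  rcases h.mem_V.1 (conj_mem_of_mem_normalizer hg (s_mem_V a b)) with e | e | e | e
  · exact absurd e (U4.conj_ne_one_iff.2 h.s1)
  · rw [← h1] at e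
    exact absurd (by simpa using e) h.ne.symm
  · exact Or.inl e
  · exact Or.inr e

theorem index_conj (g : G) (H : Subgroup G) : (g •ᶜ H).index = H.index :=
  Nat.eq_of_mul_eq_mul_right (Nat.card_pos (α := H)) (by
    rw [index_mul_card, ← card_map_conj g H, index_mul_card])

namespace LV

variable (h : LV G) {a b ρ : G}
include h

theorem exists_swap (h4 : Four a b) : ∃ m ∈ 𝐍(V a b), m * a * m⁻¹ = a ∧ m * b * m⁻¹ = a * b := by
  obtain ⟨T, h1, hT⟩ := IsSylowIn.exists_ge h4.isPGroup_V h4.V_le_cent1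
  have h2 : V a b < T := lt_of_le_of_ne h1 fun e => by
    have h3 := h.eight a h4.ot
    have := Fintype.ofFinite G
    rw [card_eq_relIndex_mul hT.le, ← e, h4.card_V] at h3
    exact hT.not_dvd (e ▸ Nat.dvd_of_mul_dvd_mul_right (by norm_num : 0 < 4) h3)
  obtain ⟨m, hm, hm'⟩ := SetLike.exists_of_lt (lt_inf_normalizer_of_isPGroup hT.isPGroup h2)
  have h3 := U4.conj_eq_of_mem_cent1 (hT.le hm.1)
  refine ⟨m, hm.2, h3, (Four.conj_cases h4 hm.2 h3).resolve_left fun e => hm' ?_⟩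
  obtain ⟨k, hk⟩ := orderOf_eq_pow_of_mem_isPGroup hT.isPGroup hm.1
  exact mem_of_norm_sylow (h.syl a b h4) (mem_cent_V h3 e) hm.2 hk

theorem relIndex_six (h4 : Four a b) : (𝐂(V a b)).relIndex 𝐍(V a b) = 6 := by
  obtain ⟨m, hm, e1, e2⟩ := h.exists_swap h4
  obtain ⟨n, hn, e3, e4⟩ := h.exists_swap h4.symm
  rw [V_comm] at hn
  rw [← h4.comm] at e4
  rw [cent_V, inf_comm, ← relIndex_inf_mul_relIndex, ← Frob.ncard_conj_subgroup,
    ← Frob.ncard_conj_subgroup, show {y | ∃ x ∈ 𝐂[a] ⊓ 𝐍(V a b), x * b * x⁻¹ = y} = {b, a * b} from ?_,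
    show {y | ∃ x ∈ 𝐍(V a b), x * a * x⁻¹ = y} = {a, b, a * b} from ?_,
    Set.ncard_pair (by simpa using h4.t1), Set.ncard_insert_of_notMem (by
      simpa using ⟨h4.ne, h4.s1⟩), Set.ncard_pair (by simpa using h4.t1)]
  · ext y
    constructor
    · rintro ⟨g, hg, rfl⟩
      rcases h4.mem_V.1 (conj_mem_of_mem_normalizer hg (t_mem_V a b)) with e | e | e | e
      · exact absurd e (U4.conj_ne_one_iff.2 h4.t1)
      all_goals simp [e]
    · rintro (rfl | rfl | rfl)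
      · exact ⟨1, one_mem _, by simp⟩
      · refine ⟨m * n, mul_mem hm hn, ?_⟩
        rw [show m * n * a * (m * n)⁻¹ = m * (n * a * n⁻¹) * m⁻¹ by group, e4, ← _root_.conj_mul, e1,
          e2, ← mul_assoc, h4.tt, one_mul]
      · exact ⟨n, hn, e4⟩
  · ext y
    constructor
    · rintro ⟨g, hg, rfl⟩
      exact Four.conj_cases h4 hg.2 (U4.conj_eq_of_mem_cent1 hg.1)
    · rintro (rfl | rfl)
      · exact ⟨1, one_mem _, by simp⟩
      · exact ⟨m, ⟨U4.mem_cent1_of_conj_eq e1, hm⟩, e2⟩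

theorem index_eq (ha : orderOf a = 2) (hb : orderOf b = 2) : (𝐂[a]).index = (𝐂[b]).index := by
  obtain ⟨g, rfl⟩ := h.one a b ha hb
  rw [U4.cent1_conj, index_conj]

/-- The centralizer of an involution is nearly a Hall subgroup. -/
theorem near_hall {r : ℕ} (hr : r.Prime) (hr2 : r ≠ 2) (hρ : orderOf ρ = r) (ha : orderOf a = 2)
    (hc : ρ ∈ 𝐂[a]) (hd : r ∣ (𝐂[a]).index) : r = 3 ∧ ¬ 9 ∣ (𝐂[a]).index ∧
      ∃ b, Four a b ∧ ρ ∈ 𝐂(V a b) ∧ IsSylowIn 2 (V a b) 𝐂[ρ] := by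
  obtain ⟨T, h1, hT⟩ := IsSylowIn.exists_ge (isPGroup_zpowers_inv ha)
    (zpowers_le.2 (show a ∈ ⊤ ⊓ 𝐂[ρ] from ⟨mem_top a, U4.mem_cent1_comm.1 hc⟩))
  have h2 := h.oc.not_dvd hr hr2 Nat.prime_two hr2.symm hρ (mem_top ρ) hT
  rw [relIndex_top_right] at h2
  rw [top_inf_eq] at hT
  obtain ⟨Z, hZ, hZ2⟩ := exists_center_prime hT.isPGroup
    (U4.ne_bot_of_mem (h1 (mem_zpowers a)) (ne_one_of_inv ha))
  obtain ⟨u, hu, hu2⟩ := exists_orderOf Nat.prime_two hZ2.symm.dvd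
  have hu := hZ hu
  obtain ⟨n, hn, hn'⟩ := SetLike.not_le_iff_exists.1 fun e : 𝐂[ρ] ⊓ 𝐍(T) ≤ 𝐂[u] =>
    h2 (hd.trans (h.index_eq ha hu2 ▸ index_dvd_of_le e))
  have hv : n * u * n⁻¹ ∈ T ⊓ 𝐂(T) := ⟨conj_mem_of_mem_normalizer hn.2 hu.1,
    conj_mem_of_mem_normalizer (H5.normalizer_le_normalizer_centralizer' T hn.2) hu.2⟩
  have h4 : Four u (n * u * n⁻¹) := ⟨hu2, by rw [U4.orderOf_conj, hu2],
    U4.mem_cent.1 hv.2 u hu.1, fun e => hn' (U4.mem_cent1_of_conj_eq e.symm)⟩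
  have e : T = V u (n * u * n⁻¹) := (h.syl _ _ h4).eq_of_le hT.isPGroup (V_le hu.1 hv.1)
    (le_centralizer_iff.1 (V_le hu.2 hv.2))
  obtain ⟨b, h5, e'⟩ : ∃ b, Four a b ∧ V a b = T := by
    have h5 := h1 (mem_zpowers a)
    rw [e] at h5 ⊢
    rcases h4.mem_V.1 h5 with rfl | rfl | rfl | rfl
    · simp at ha
    · exact ⟨_, h4, rfl⟩
    · exact ⟨_, h4.symm, V_comm _ _⟩
    · exact ⟨_, h4.mul.symm, by rw [V_comm, h4.V_mul]⟩
  subst e'
  have h6 : (𝐂[a]).index ∣ 6 * (𝐍(V a b)).index := by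
    rw [← h.relIndex_six h5, relIndex_mul_index (U4.cent_le_norm _)]
    exact index_dvd_of_le (U4.cent_le_cent1 (t_mem_V a b))
  have h7 : ¬ r ∣ (𝐍(V a b)).index := fun e => h2 (e.trans (index_dvd_of_le inf_le_right))
  have h8 : r = 3 := by
    rcases (hr.dvd_mul.1 (show r ∣ 2 * 3 from
      (hr.dvd_mul.1 (hd.trans h6)).resolve_right h7)) with e | e
    · exact absurd ((Nat.prime_dvd_prime_iff_eq hr Nat.prime_two).1 e) hr2
    · exact (Nat.prime_dvd_prime_iff_eq hr Nat.prime_three).1 e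
  refine ⟨h8, fun e => h7 ?_, b, h5, le_centralizer_iff.1 (hT.le.trans (U4.cent_zpowers ρ).ge)
    (mem_zpowers ρ), hT⟩
  have := e.trans h6
  subst h8
  omega

/-- An element of odd prime order in `C(V)` centralizes a `3`-element acting on `V`. -/
theorem exists_three (h4 : Four a b) {r : ℕ} (hr : r.Prime) (hr2 : r ≠ 2) (hρ : orderOf ρ = r)
    (hc : ρ ∈ 𝐂(V a b)) : ∃ u ∈ 𝐂[ρ], u ∈ 𝐍(V a b) ∧ (∃ k, orderOf u = 3 ^ k) ∧
      u * a * u⁻¹ = a * b ∧ u * b * u⁻¹ = a := by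
  have := Fact.mk hr
  obtain ⟨R, h1, hR⟩ := IsSylowIn.exists_ge (isPGroup_zpowers_iff.2 ⟨1, by rw [hρ, pow_one]⟩)
    (zpowers_le.2 hc)
  have key : ∀ m ∈ 𝐍(V a b), ∃ n ∈ 𝐍(V a b), n ∈ 𝐍(zpowers ρ) ∧
      ∀ v ∈ V a b, n * v * n⁻¹ = m * v * m⁻¹ := fun m hm => by
    obtain ⟨k, hk, e⟩ := hR.frattini_elem (H5.normalizer_le_normalizer_centralizer' _ hm)
    refine ⟨k * m, mul_mem (U4.cent_le_norm _ hk) hm,
      U4.norm_le_norm_of_le_cyclic (h.oc r hr hr2 R hR.isPGroup) h1 e, fun v hv => ?_⟩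
    rw [show k * m * v * (k * m)⁻¹ = k * (m * v * m⁻¹) * k⁻¹ by group,
      ← U4.mem_cent.1 hk _ (conj_mem_of_mem_normalizer hm hv), mul_inv_cancel_right]
  obtain ⟨m0, hm0, e1, e2⟩ := h.exists_swap h4
  obtain ⟨n0, hn0, e3, e4⟩ := h.exists_swap h4.symm
  rw [V_comm] at hn0
  rw [← h4.comm] at e4
  obtain ⟨m, hm, hm', em⟩ := key m0 hm0
  obtain ⟨n, hn, hn', en⟩ := key n0 hn0
  rw [← em _ (t_mem_V a b)] at e1
  rw [← em _ (s_mem_V a b)] at e2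
  rw [← en _ (s_mem_V a b)] at e3
  rw [← en _ (t_mem_V a b)] at e4
  have e5 : m * (a * b) * m⁻¹ = b := by
    rw [← _root_.conj_mul, e1, e2, ← mul_assoc, h4.tt, one_mul]
  have e6 : n * (a * b) * n⁻¹ = a := by
    rw [← _root_.conj_mul, e3, e4, mul_assoc, h4.ss, mul_one]
  have inv : ∀ {g u v : G}, g * u * g⁻¹ = v → g⁻¹ * v * g = u := fun e => by rw [← e]; group
  have hg : ∀ v, ⁅m, n⁆ * v * ⁅m, n⁆⁻¹ = m * (n * (m⁻¹ * (n⁻¹ * v * n) * m) * n⁻¹) * m⁻¹ :=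
    fun v => by rw [commutatorElement_def]; group
  have g1 : ⁅m, n⁆ * a * ⁅m, n⁆⁻¹ = a * b := by rw [hg, inv e6, inv e2, e3, e2]
  have g2 : ⁅m, n⁆ * b * ⁅m, n⁆⁻¹ = a := by rw [hg, inv e3, inv e5, e6, e1]
  have g0 : ⁅m, n⁆ ∈ 𝐂[ρ] := U4.cent_zpowers ρ ▸ Frob.commutator_mem_centralizer_of_isCyclic hm' hn'
  have g3 : ⁅m, n⁆ ∈ 𝐍(V a b) := mul_mem (mul_mem (mul_mem hm hn) (inv_mem hm)) (inv_mem hn)
  generalize ⁅m, n⁆ = g at g0 g1 g2 g3
  have g4 : g * (a * b) * g⁻¹ = b := by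
    rw [← _root_.conj_mul, g1, g2, h4.comm, mul_assoc, h4.tt, mul_one]
  have g5 : g ^ 3 ∈ 𝐂(V a b) := mem_cent_V (by
    rw [show g ^ 3 * a * (g ^ 3)⁻¹ = g * (g * (g * a * g⁻¹) * g⁻¹) * g⁻¹ by simp [pow_succ, mul_assoc], g1, g4, g2]) (by
    rw [show g ^ 3 * b * (g ^ 3)⁻¹ = g * (g * (g * b * g⁻¹) * g⁻¹) * g⁻¹ by simp [pow_succ, mul_assoc], g2, g1, g4])
  obtain ⟨u, hu, v, hv, e, -, hk, ho⟩ := exists_p_part Nat.prime_three g
  have hvC : v ∈ 𝐂(V a b) := by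
    obtain ⟨i, rfl⟩ := hv
    refine zpowers_le.2 ?_ (mem_zpowers_pow_iff.2 ho.symm)
    simp only
    rw [← zpow_natCast, ← zpow_mul, mul_comm, zpow_mul, zpow_natCast]
    exact zpow_mem g5 i
  have k2 : ∀ w ∈ V a b, u * w * u⁻¹ = g * w * g⁻¹ := fun w hw => by
    rw [e, show u * v * w * (u * v)⁻¹ = u * (v * w * v⁻¹) * u⁻¹ by group,
      ← U4.mem_cent.1 hvC w hw, mul_inv_cancel_right]
  exact ⟨u, zpowers_le.2 g0 hu, zpowers_le.2 g3 hu, hk, (k2 _ (t_mem_V a b)).trans g1,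
    (k2 _ (s_mem_V a b)).trans g2⟩

theorem norm_le_norm_V (h4 : Four a b) (hρ : orderOf ρ = 3) (hT : IsSylowIn 2 (V a b) 𝐂[ρ]) :
    𝐍(zpowers ρ) ≤ 𝐍(V a b) := by
  have hc : ρ ∈ 𝐂(V a b) := le_centralizer_iff.1 (hT.le.trans (U4.cent_zpowers ρ).ge) (mem_zpowers ρ)
  obtain ⟨-, D, hD, hn, h1, hm⟩ := h.oc.exists_compl_cent Nat.prime_three (by norm_num) hρ (mem_top ρ)
  rw [top_inf_eq] at hD hn hm
  have h2 : ∀ Q ≤ 𝐂[ρ], IsPGroup 2 Q → Q ≤ D := fun Q hQ hp g hg => hm g (hQ hg) (by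
    obtain ⟨k, hk⟩ := orderOf_eq_pow_of_mem_isPGroup hp hg
    rw [hk]
    exact Nat.Coprime.pow_left k (by norm_num))
  have hTD := hT.mono (h2 _ hT.le hT.isPGroup) hD
  have h3 : Nilp2 D := nilp2_of_cent hTD fun P hP g hg hgn ho => by
    rcases hP.eq_or_lt with rfl | hlt
    · refine zpowers_le.2 ?_ (mem_zpowers_pow_iff.2 (show Nat.Coprime 6 (orderOf g) from
        Nat.Coprime.mul_left (Nat.coprime_two_left.2 ho)
          (h1.coprime_dvd_left (Subgroup.orderOf_dvd_natCard _ hg)).symm))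
      have := normal_subgroupOf_of_le_normalizer (H5.normalizer_le_normalizer_centralizer' (V a b))
      exact h.relIndex_six h4 ▸ pow_index_mem (H := (𝐂(V a b)).subgroupOf 𝐍(V a b)) ⟨g, hgn⟩
    · refine mem_cent_of_cyclic_two (h4.isPGroup_V.to_le hP) ?_ hgn ho
      have h5 := card_dvd_of_le hP
      have h6 : Nat.card P ≠ 4 := fun e => hlt.ne (eq_of_le_of_card_ge hP (by rw [e, h4.card_V]))
      rw [h4.card_V] at h5
      have h7 : Nat.card P ∣ 2 := by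
        have := Nat.le_of_dvd (by norm_num) h5
        interval_cases Nat.card P <;> omega
      exact isCyclic_of_card_dvd_prime h7
  obtain ⟨u, hu, hu', -, e1, e2⟩ := h.exists_three h4 Nat.prime_three (by norm_num) hρ hc
  have h5 := h.oc.comm_le_cent (odd_Od D) h4.isPGroup_V (hTD.le.trans (le_norm_Od D))
    (zpowers_le.2 (norm_le_norm_Od D (hn hu))) (zpowers_le.2 hu')
  have h6 : b ∈ 𝐂(Od D) := by
    have := h5 (commutator_mem_commutator (t_mem_V a b) (mem_zpowers u))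
    rwa [commutatorElement_def, mul_assoc a, mul_assoc a, h4.ti, e1, ← mul_assoc, h4.tt,
      one_mul] at this
  have h7 : a ∈ 𝐂(Od D) := by
    have := h5 (commutator_mem_commutator (s_mem_V a b) (mem_zpowers u))
    rw [commutatorElement_def, mul_assoc b, mul_assoc b, h4.si, e2] at this
    simpa using mul_mem (inv_mem h6) this
  have h8 : D ≤ 𝐂(V a b) := h3.sup_sylow hTD ▸ sup_le (le_centralizer_iff.1 (V_le h7 h6)) h4.V_le_cent
  intro n hn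
  refine mem_normalizer_of_map_conj_eq (eq_of_le_of_card_ge ?_ (by rw [card_map_conj]))
  have h9 : n •ᶜ V a b ≤ 𝐂(V a b) := (h2 _ (by
    rintro _ ⟨v, hv, rfl⟩
    rw [← U4.cent_zpowers]
    exact conj_mem_of_mem_normalizer (H5.normalizer_le_normalizer_centralizer' _ hn)
      (U4.cent_zpowers ρ ▸ hT.le hv)) (h4.isPGroup_V.map _)).trans h8
  intro v hv
  obtain ⟨k, hk⟩ := orderOf_eq_pow_of_mem_isPGroup (h4.isPGroup_V.map _) hv
  exact mem_of_norm_sylow (h.syl a b h4) (h9 hv) (U4.cent_le_norm _ (h9 hv)) hk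

theorem index_norm_V (h4 : Four a b) (hρ : orderOf ρ = 3) (hT : IsSylowIn 2 (V a b) 𝐂[ρ]) :
    (𝐍(V a b)).index % 3 = 1 := by
  have := Fact.mk Nat.prime_three
  obtain ⟨R, hR⟩ := exists_sylow_mem_of_orderOf (p := 3) (k := 1) hρ
  have h1 := (U4.norm_le_norm_of_le_cyclic (h.oc 3 Nat.prime_three (by norm_num) R R.isPGroup')
    (zpowers_le.2 hR)).trans (h.norm_le_norm_V h4 hρ hT)
  have h2 := H9.relIndex_normalizer_modEq_one 𝐍(V a b) R
    (le_normalizer.trans (h1.trans le_normalizer))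
  have h3 := H9.relIndex_normalizer_modEq_one ⊤ R (le_top.trans le_normalizer)
  rw [relIndex_top_right, ← relIndex_mul_index h1] at h3
  rw [Nat.ModEq] at h2 h3
  rw [Nat.mul_mod, h2] at h3
  omega

end LV

end CfsgLib.SW
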