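import Cfsg.Agent.Lib.SW.Local
import Cfsg.Agent.Lib.H5Involutions
import Cfsg.Agent.Lib.BSW.SelfNorm

/-!
# Simple groups with dihedral or semidihedral Sylow `2`-subgroups: common facts
-/

set_option autoImplicit false

namespace CfsgLib.SW

open Subgroup Cfsg CfsgLib.FT CfsgLib.FT.BGN CfsgLib.Blk CfsgLib.GW
open scoped commutatorElement

variable {G : Type*} [Group G]

/-- The common frame for the dihedral and the semidihedral case. -/
structure MC (S : Subgroup G) (x y z t : G) : Prop extends Fr ⊤ S x y z where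
  ot : orderOf t = 2
  tz : t ∈ zpowers z
  y2 : y * y = 1
  inv2 : y * (x * x) * y⁻¹ = (x * x)⁻¹
  oc : OC G

variable [Finite G]

theorem norm_le_cent_inv {B : Subgroup G} {t : G} (hB : IsCyclic B) (ht : t ∈ B)
    (ho : orderOf t = 2) : 𝐍(B) ≤ 𝐂[t] := fun g hg => U4.mem_cent1_of_conj_eq
  (((mem_zpowers_inv ho).1 (conj_mem_of_mem_normalizer
    (U4.norm_le_norm_of_le_cyclic hB (zpowers_le.2 ht) hg) (mem_zpowers t))).resolve_left
      (U4.conj_ne_one_iff.2 (ne_one_of_inv ho)))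

theorem eq_of_inv_of_cyclic {B : Subgroup G} {t a : G} (hB : IsCyclic B) (ht : t ∈ B)
    (ho : orderOf t = 2) (ha : a ∈ B) (h : a * a = 1) : a = 1 ∨ a = t := by
  by_cases e : a = 1
  · exact Or.inl e
  rw [← mem_zpowers_inv ho, ← U4.eq_of_le_cyclic hB (zpowers_le.2 ha) (zpowers_le.2 ht)
    (by rw [card_zpowers_inv ho, card_zpowers_inv (inv_of_mul_self h e)])]
  exact mem_zpowers a

namespace MC

variable {S : Subgroup G} {x y z t a s : G} (h : MC S x y z t)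
include h

omit [Finite G] in
theorem tx : t ∈ zpowers (x * x) := zpowers_le.2 h.zx h.tz

omit [Finite G] in
theorem tA : t ∈ zpowers x := sq_le x h.tx

omit [Finite G] in
theorem tS : t ∈ S := h.AS h.tA

omit [Finite G] in
theorem t1 : t ≠ 1 := ne_one_of_inv h.ot

omit [Finite G] in
theorem tt : t * t = 1 := mul_self_of_inv h.ot

omit [Finite G] in
theorem oy : orderOf y = 2 := inv_of_mul_self h.y2 fun e => h.yA (e ▸ one_mem _)

theorem uniq (ha : a ∈ zpowers x) (e : a * a = 1) : a = 1 ∨ a = t :=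
  eq_of_inv_of_cyclic inferInstance h.tA h.ot ha e

theorem cent_A (ha : a ∈ zpowers x) (e : y * a * y⁻¹ = a) : a = 1 ∨ a = t := by
  rcases mem_zpowers_or h.pA ha (mem_zpowers x) with h1 | h1
  · have h2 := U4.conj_eq_of_mem_cent1 (U4.cent1_le_cent1 h1 (U4.mem_cent1_of_conj_eq e))
    exact absurd (h2 ▸ h.inv :) h.xxA0
  · refine h.uniq ha ?_
    nth_rewrite 1 [← e, inverts_zpowers h.inv2 a h1]
    exact inv_mul_cancel a

theorem N0_le : N0 ⊤ z ≤ 𝐂[t] := inf_le_right.trans (norm_le_cent_inv inferInstance h.tz h.ot)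

theorem S_le : S ≤ 𝐂[t] := h.SN.trans h.N0_le

theorem four : Four t y := ⟨h.ot, h.oy, U4.mem_cent1'.1 (h.S_le h.yS), fun e => h.yA (e ▸ h.tA)⟩

theorem cent_cases (hs : s ∈ S) (hsA : s ∉ zpowers x) (ha : a ∈ S ⊓ 𝐂[s]) :
    a * s⁻¹ ∈ zpowers t ∨ a ∈ zpowers t := by
  have key : ∀ c ∈ zpowers x, c ∈ 𝐂[s] → c ∈ zpowers t := fun c hc e =>
    (mem_zpowers_inv h.ot).2 (h.cent_A hc (by
      rw [← h.conj_eq hs hsA hc, U4.conj_eq_of_mem_cent1 (U4.mem_cent1_comm.1 e)]))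
  by_cases e : a ∈ zpowers x
  · exact Or.inr (key a e ha.2)
  · exact Or.inl (key _ (h.mul_mem_A ha.1 e (inv_mem hs) fun e => hsA (inv_mem_iff.1 e))
      (mul_mem ha.2 (inv_mem (U4.self_mem_cent1 s))))

theorem card_cent (hs : s ∈ S) (hsA : s ∉ zpowers x) : Nat.card ↥(S ⊓ 𝐂[s]) = 4 := by
  have := Fintype.ofFinite G
  rw [card_eq_relIndex_mul (zpowers_le.2 (mem_inf.2 ⟨h.tS, U4.mem_cent1_comm.1 (h.S_le hs)⟩)),
    relIndex_eq_two_iff_exists_notMem_and.2 ⟨s⁻¹, inv_mem (mem_inf.2 ⟨hs, U4.self_mem_cent1 s⟩),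
      fun e => hsA (zpowers_le.2 h.tA (inv_mem_iff.1 e)), fun b hb => h.cent_cases hs hsA hb⟩,
    card_zpowers_inv h.ot]

theorem four_dvd : 4 ∣ Nat.card (zpowers x) := by
  obtain ⟨k, hk⟩ := orderOf_eq_pow_of_mem_isPGroup h.syl.isPGroup h.xS
  rw [Nat.card_zpowers, hk]
  rcases k with _ | _ | k
  · exact absurd (by simp [orderOf_eq_one_iff.1 hk]) h.xxA0
  · exact absurd (by simp [mul_self_of_inv hk]) h.xxA0
  · exact ⟨2 ^ k, by ring⟩

theorem odd_index : Odd S.index := by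
  have := h.syl.not_dvd
  rwa [relIndex_top_right, ← even_iff_two_dvd, Nat.not_even_iff_odd] at this

/-- The order of the class of a reflection in `N0`. -/
theorem relIndex_cent (hs : s ∈ S) (hsA : s ∉ zpowers x) : 2 * (𝐂[s]).relIndex (N0 ⊤ z) =
    (𝐂[s]).relIndex (Od (N0 ⊤ z)) * Nat.card (zpowers x) := by
  have := Fintype.ofFinite G
  have h1 := U4.IsComplIn.card_mul (U4.IsComplIn.cent1 h.compl (h.SN.trans (le_norm_Od _)) hs)
  have h2 := U4.IsComplIn.card_mul h.compl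
  rw [card_eq_relIndex_mul (inf_le_left : N0 ⊤ z ⊓ 𝐂[s] ≤ _), ← h1, h.card_cent hs hsA, h.card_S,
    card_eq_relIndex_mul (inf_le_left : Od (N0 ⊤ z) ⊓ 𝐂[s] ≤ _), inf_relIndex_left,
    inf_relIndex_left] at h2
  refine Nat.eq_of_mul_eq_mul_left (Nat.card_pos (α := ↥(Od (N0 ⊤ z) ⊓ 𝐂[s]))) ?_
  linarith

variable [IsSimpleGroup G]

theorem comm_top : commutator G = ⊤ := BSW.commutator_eq_top_of_simple fun e =>
  h.xxA0 (by simpa [e.is_comm.comm y x] using h.inv)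

theorem conj_t {u : G} (hu : orderOf u = 2) : ∃ g, g * t * g⁻¹ = u := by
  have := Fintype.ofFinite G
  obtain ⟨g, hg⟩ := H5.exists_conj_mem_of_index_mod_four (M := zpowers x) (t := u) (by
    have h1 := h.card_S
    rw [card_eq_relIndex_mul h.AS, Nat.mul_left_inj Nat.card_pos.ne'] at h1
    obtain ⟨k, hk⟩ := h.odd_index
    rw [← relIndex_mul_index h.AS, h1, hk]
    omega) (by rw [sq, mul_self_of_inv hu]) (h.comm_top ▸ mem_top u)
  refine ⟨g, ?_⟩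
  rw [← (h.uniq hg (by rw [show g⁻¹ * u * g * (g⁻¹ * u * g) = g⁻¹ * (u * u) * g by group,
    mul_self_of_inv hu]; simp)).resolve_left fun e => ne_one_of_inv hu (by
      rw [show u = g * (g⁻¹ * u * g) * g⁻¹ by group, e]; simp)]
  group

theorem lv : LV G := by
  refine ⟨h.oc, fun a ha => ?_, fun a b h4 => IsSylowIn.of_maximal h4.V_le_cent h4.isPGroup_V
    fun T hT h1 h2 => ?_, fun a b ha hb => ?_⟩
  · obtain ⟨g, rfl⟩ := h.conj_t ha
    rw [U4.cent1_conj, card_map_conj]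
    refine Dvd.dvd.trans ?_ (card_dvd_of_le h.S_le)
    rw [h.card_S]
    exact mul_dvd_mul_left 2 h.four_dvd
  · obtain ⟨g, -, hg⟩ := h.syl.exists_conj_le hT le_top
    have key : ∀ v ∈ V a b, g * v * g⁻¹ ∉ zpowers x → T ≤ V a b := fun v hv e => by
      refine (eq_of_le_of_card_ge h1 ?_).ge
      rw [h4.card_V, ← h.card_cent (hg (U4.conj_mem_conj_iff.2 (h1 hv))) e, ← card_map_conj g T]
      exact card_le_of_le (le_inf hg (U4.cent1_conj g v ▸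
        map_mono (h2.trans (U4.cent_le_cent1 hv))))
    have h5 := h4.conj g
    by_cases e : g * a * g⁻¹ ∈ zpowers x
    · refine key b (s_mem_V a b) fun e' => h5.ne ?_
      rw [(h.uniq e h5.tt).resolve_left h5.t1, (h.uniq e' h5.ss).resolve_left h5.s1]
    · exact key a (t_mem_V a b) e
  · obtain ⟨g, rfl⟩ := h.conj_t ha
    obtain ⟨k, rfl⟩ := h.conj_t hb
    exact ⟨k * g⁻¹, by group⟩

theorem cycW : IsCyclic (Od (N0 ⊤ z)) :=
  h.cyclic_W h.oc (odd_Od _) (h.SN.trans (le_norm_Od _))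

omit [IsSimpleGroup G] in
theorem sqW : zpowers (x * x) ≤ 𝐂(Od (N0 ⊤ z)) :=
  h.sq_cent h.oc (odd_Od _) (h.SN.trans (le_norm_Od _))

theorem eq_one {w : G} (hw : w ∈ Od (N0 ⊤ z)) (hs : s ∈ S) (hsA : s ∉ zpowers x) (h1 : w ∈ 𝐂[s])
    (h2 : w ∈ 𝐂[x]) : w = 1 := by
  have h3 : zpowers x ≤ 𝐂[w] := zpowers_le.2 (U4.mem_cent1_comm.1 h2)
  refine h.eq_one_of_cent h.oc (U4.mem_cent.2 fun b hb => U4.mem_cent1.1 ?_) (odd_of_mem_Od hw)
  by_cases e : b ∈ zpowers x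
  · exact h3 e
  · simpa using mul_mem (h3 (h.mul_mem_A hb e (inv_mem hs) fun e => hsA (inv_mem_iff.1 e)))
      (U4.mem_cent1_comm.1 h1)

theorem two_cases {w b : G} (hw : w ∈ Od (N0 ⊤ z)) (hw1 : w ≠ 1) (hs : s ∈ S)
    (hsA : s ∉ zpowers x) (h1 : s ∈ 𝐂[w]) (hb : b ∈ S) (h2 : b ∈ 𝐂[w]) :
    b ∈ zpowers (x * x) ∨ b * s⁻¹ ∈ zpowers (x * x) := by
  have key : ∀ a ∈ zpowers x, a ∈ 𝐂[w] → a ∈ zpowers (x * x) := fun a ha e =>
    (mem_zpowers_or h.pA ha (mem_zpowers x)).resolve_left fun e' => hw1 (h.eq_one hw hs hsA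
      (U4.mem_cent1_comm.1 h1) (U4.mem_cent1_comm.1 (zpowers_le.2 e e')))
  by_cases e : b ∈ zpowers x
  · exact Or.inl (key b e h2)
  · exact Or.inr (key _ (h.mul_mem_A hb e (inv_mem hs) fun e => hsA (inv_mem_iff.1 e))
      (mul_mem h2 (inv_mem h1)))

omit [IsSimpleGroup G] in
theorem sq_cent1 {w : G} (hw : w ∈ Od (N0 ⊤ z)) : zpowers (x * x) ≤ 𝐂[w] :=
  h.sqW.trans (U4.cent_le_cent1 hw)

omit [Finite G] [IsSimpleGroup G] in
theorem xyS : x * y ∈ S := mul_mem h.xS h.yS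

omit [Finite G] [IsSimpleGroup G] in
theorem xyA : x * y ∉ zpowers x := h.mul_y_notMem (mem_zpowers x)

theorem mem_V {a b v : G} (h4 : Four a b) (hv : orderOf v = 2) (h1 : v ∈ 𝐂[a]) (h2 : v ∈ 𝐂[b]) :
    v = a ∨ v = b ∨ v = a * b := by
  have h3 : v ∈ 𝐂(V a b) := cent_V a b ▸ ⟨h1, h2⟩
  exact (h4.mem_V.1 (mem_of_norm_sylow (k := 1) (h.lv.syl a b h4) h3 (U4.cent_le_norm _ h3)
    hv)).resolve_left (ne_one_of_inv hv)

theorem norm_X {X : Subgroup G} (hX : X ≤ Od (N0 ⊤ z)) : N0 ⊤ z ≤ 𝐍(X) :=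
  (le_norm_Od _).trans (U4.norm_le_norm_of_le_cyclic h.cycW hX)

theorem W_cent_X {X : Subgroup G} (hX : X ≤ Od (N0 ⊤ z)) : Od (N0 ⊤ z) ≤ 𝐂(X) :=
  (U4.le_cent_of_isCyclic h.cycW).trans (centralizer_le hX)

theorem sylT {X : Subgroup G} (hX : X ≤ Od (N0 ⊤ z)) (hn : 𝐍(S ⊓ 𝐂(X)) ≤ N0 ⊤ z) :
    IsSylowIn 2 (S ⊓ 𝐂(X)) 𝐂(X) := by
  refine IsSylowIn.of_maximal inf_le_right (h.syl.isPGroup.to_le inf_le_left)
    fun T hT h1 h2 => by_contra fun e => ?_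
  obtain ⟨n, hn1, hn2⟩ := SetLike.exists_of_lt
    (lt_inf_normalizer_of_isPGroup hT (lt_of_le_not_ge h1 e))
  obtain ⟨w, hw, s, hs, rfl⟩ := h.compl.2.2.2 n (hn hn1.2)
  have h3 : s ∈ S ⊓ 𝐂(X) :=
    ⟨hs, by simpa using mul_mem (inv_mem (h.W_cent_X hX hw)) (h2 hn1.1)⟩
  have h4 : w = 1 := U4.eq_one_of_mem_inf (Od_inf_eq_bot hT) hw
    (by simpa using T.mul_mem hn1.1 (inv_mem (h1 h3)))
  exact hn2 (by rwa [h4, one_mul])

end MC

end CfsgLib.SW
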