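import Cfsg.Agent.Lib.SW.Cov
import Cfsg.Agent.Lib.QBaer
import Cfsg.Agent.Lib.CoreComponents
import Cfsg.Agent.Lib.CoreSolvable
import Cfsg.Agent.Lib.CharBurnside
import Cfsg.Agent.Lib.FrobZGroup

/-!
# Nonsolvable groups with cyclic Sylow subgroups for odd primes: reduction
-/

set_option autoImplicit false

namespace CfsgLib.SW

open Subgroup Cfsg CfsgLib.FT CfsgLib.FT.BGN CfsgLib.Blk CfsgLib.GW CfsgLib.H4
open scoped commutatorElement MatrixGroups

universe u

variable {G : Type*} [Group G]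

theorem OC.of_injective {H : Type*} [Group H] (h : OC G) {f : H →* G} (hf : Function.Injective f) :
    OC H := fun p hp h2 P hP => (P.equivMapOfInjective f hf).isCyclic.2 (h p hp h2 _ (hP.map f))

theorem C2.of_injective {H : Type*} [Group H] (h : C2 G) {f : H →* G} (hf : Function.Injective f) :
    C2 H := fun P hP => by
  obtain ⟨_, ⟨x, hx, rfl⟩, h1⟩ := h _ (hP.map f)
  refine ⟨x, hx, ?_⟩
  rwa [← relIndex_comap, ← MonoidHom.map_zpowers, comap_map_eq_self_of_injective hf] at h1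

variable [Finite G]

theorem OC.of_sylow (h : ∀ p : ℕ, p.Prime → p ≠ 2 → ∀ P : Sylow p G, IsCyclic P) : OC G :=
  fun p hp h2 _ hP => by
    obtain ⟨Q, hQ⟩ := hP.exists_le_sylow
    exact U4.isCyclic_of_le' (h p hp h2 Q) hQ

theorem C2.of_sylow (h : ∀ S : Sylow 2 G, ∃ x : G, (zpowers x).relIndex S ∣ 2) : C2 G :=
  fun P hP => by
  obtain ⟨Q, hQ⟩ := hP.exists_le_sylow
  obtain ⟨x, hx⟩ := h Q
  obtain ⟨y, hy⟩ := U4.exists_zpowers_eq
    (U4.isCyclic_of_le' inferInstance (inf_le_left : zpowers x ⊓ P ≤ _))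
  refine ⟨y, hy.le (mem_zpowers y) |>.2, ?_⟩
  have h1 := (relIndex_le_of_le_right hQ (ne_zero_of_dvd_ne_zero two_ne_zero hx)).trans
    (Nat.le_of_dvd two_pos hx)
  have h2 : (zpowers x).relIndex P ≠ 0 := index_ne_zero_of_finite
  rw [hy, inf_relIndex_right]
  interval_cases (zpowers x).relIndex P <;> simp_all

theorem OC.of_surjective {H : Type*} [Group H] (h : OC G) {f : G →* H}
    (hf : Function.Surjective f) : OC H :=
  have := Finite.of_surjective f hf
  OC.of_sylow fun p hp h2 P => by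
    have := Fact.mk hp
    obtain ⟨Q, rfl⟩ := Sylow.mapSurjective_surjective hf p P
    have := h p hp h2 Q Q.isPGroup'
    exact isCyclic_of_surjective _ (f.subgroupMap_surjective Q)

theorem C2.of_surjective {H : Type*} [Group H] (h : C2 G) {f : G →* H}
    (hf : Function.Surjective f) : C2 H :=
  have := Finite.of_surjective f hf
  C2.of_sylow fun P => by
    obtain ⟨Q, rfl⟩ := Sylow.mapSurjective_surjective hf 2 P
    obtain ⟨x, -, hx⟩ := h Q Q.isPGroup'
    refine ⟨f x, Dvd.dvd.trans ?_ hx⟩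
    rw [Sylow.coe_mapSurjective, ← relIndex_comap]
    exact relIndex_dvd_of_le_left _ (zpowers_le.2 (mem_zpowers (f x)))

theorem C2.card_le (h : C2 G) {E : Subgroup G} (hE : ∀ g ∈ E, g * g = 1) : Nat.card E ≤ 4 := by
  obtain ⟨x, hx, h1⟩ := h E fun g => ⟨1, Subtype.ext (by simpa [sq] using hE g g.2)⟩
  rw [← card_mul_relIndex (zpowers_le.2 hx), Nat.card_zpowers]
  exact Nat.mul_le_mul (orderOf_le_of_pow_eq_one two_pos ((sq x).trans (hE x hx)))
    (Nat.le_of_dvd two_pos h1)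

theorem C2.mem_V (h : C2 G) {a b c : G} (h4 : Four a b) (hc : c * c = 1) (hn : c ∈ 𝐂(V a b)) :
    c ∈ V a b := by
  have h1 := h.card_le (E := V a b ⊔ zpowers c) fun g hg => by
    obtain ⟨v, hv, _, ⟨i, rfl⟩, rfl⟩ := (mem_sup_iff_of_le_normalizer' (zpowers_le.2
      (U4.cent_le_norm _ hn))).1 hg
    have h2 : v * v = 1 := by
      rcases h4.mem_V.1 hv with rfl | rfl | rfl | rfl
      exacts [one_mul 1, mul_self_of_inv h4.ot, mul_self_of_inv h4.os, mul_self_of_inv h4.ots]
    rw [← sq, (Commute.zpow_right (U4.mem_cent.1 hn v hv) i).mul_pow, sq, h2, ← zpow_natCast,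
      ← zpow_mul, mul_comm i, zpow_mul, zpow_natCast, sq, hc, one_zpow, one_mul]
  rw [eq_of_le_of_card_ge le_sup_left (h1.trans h4.card_V.ge)]
  exact mem_sup_right (mem_zpowers c)

omit [Finite G] in
theorem le_ker_of_perfect {H : Type*} [Group H] [Group.IsSolvable H] (f : G →* H) {K : Subgroup G}
    (hK : ⁅K, K⁆ = K) : K ≤ f.ker :=
  (Subgroup.map_eq_bot_iff _).1 (by_contra fun h =>
    (Group.IsSolvable.commutator_lt_of_ne_bot h).ne (by rw [← map_commutator, hK]))

theorem comm_eq_bot (n : ℕ) : ∀ (G : Type u) [Group G] [Finite G], OC G → C2 G →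
    ∀ K R : Subgroup G, ⁅K, K⁆ = K → R.Normal → Group.IsSolvable R → Nat.card R = n →
      ⁅R, K⁆ = ⊥ := by
  induction n using Nat.strong_induction_on with
  | _ n ih =>
  intro G _ _ oc c2 K R hK hR hs hn
  by_cases h0 : R = ⊥
  · simp [h0]
  obtain ⟨N, hN, hNR⟩ := exists_isMinNormal_le R h0
  have := hN.1
  obtain ⟨p, hp, -, hE⟩ := hN.exists_isElementaryAbelian
    (solvable_of_solvable_injective (inclusion_injective hNR))
  have h1 : K ≤ 𝐂(N) := by
    by_cases h2 : p = 2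
    · have h3 : Nat.card (Equiv.Perm N) ∣ 2 ^ 3 * 3 ^ 1 := Nat.card_perm (α := N) ▸
        Nat.factorial_dvd_factorial (c2.card_le fun g hg => by rw [← sq, ← h2, hE g hg])
      obtain ⟨_, _, ha, hb, h3⟩ := exists_dvd_and_dvd_of_dvd_mul h3
      obtain ⟨a, -, rfl⟩ := (Nat.dvd_prime_pow Nat.prime_two).1 ha
      obtain ⟨b, -, rfl⟩ := (Nat.dvd_prime_pow Nat.prime_three).1 hb
      have := isSolvable_of_card_eq_pow_mul_pow Nat.prime_two Nat.prime_three h3
      exact fun k hk => U4.mem_cent.2 fun x hx => (mul_inv_eq_iff_eq_mul.1 (congrArg Subtype.val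
        (Equiv.congr_fun (le_ker_of_perfect ((MulAut.toPerm N).comp MulAut.conjNormal) hK hk)
          ⟨x, hx⟩))).symm
    · have := oc p hp h2 N fun g => ⟨1, Subtype.ext (by simpa using hE g g.2)⟩
      exact hK.ge.trans (Frob.commutator_le_centralizer_of_isCyclic le_normalizer_of_normal
        le_normalizer_of_normal)
  have hq := QuotientGroup.mk'_surjective N
  have h2 := ih _ (by
      rw [← relIndex_ker, QuotientGroup.ker_mk', ← hn, ← card_mul_relIndex hNR]
      exact lt_mul_of_one_lt_left (Nat.pos_of_ne_zero index_ne_zero_of_finite)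
        ((one_lt_card_iff_ne_bot _).2 hN.2.1))
    _ (oc.of_surjective hq) (c2.of_surjective hq) (K.map (QuotientGroup.mk' N))
    (R.map (QuotientGroup.mk' N)) (by rw [← map_commutator, hK]) (hR.map _ hq)
    (solvable_of_surjective ((QuotientGroup.mk' N).subgroupMap_surjective R)) rfl
  rw [← map_commutator, Subgroup.map_eq_bot_iff, QuotientGroup.ker_mk'] at h2
  exact commutator_eq_bot_of_perfect hK (eq_bot_iff.2 ((commutator_mono h2 le_rfl).trans
    (by rw [commutator_comm, commutator_eq_bot_iff_le_centralizer.2 h1])))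

theorem exists_comp (hns : ¬ Group.IsSolvable G) (oc : OC G) (c2 : C2 G) :
    ∃ L : Subgroup G, IsComponent L := by
  obtain ⟨K, hK, h0, hKK⟩ := Chr.exists_perfect_normal_of_not_isSolvable hns
  have := solvableRadical_isSolvable (G := G)
  have hR := comm_eq_bot _ G oc c2 K _ hKK solvableRadical_normal this rfl
  obtain ⟨D, -, h1, h2, h3 | h3⟩ := exists_component_or_nilpotent (Z := solvableRadical G)
    hK.isSubnormal (commutator_eq_bot_iff_le_centralizer.1 (commutator_comm _ K ▸ hR)) fun h => by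
      have : Group.IsSolvable K := solvable_of_solvable_injective (inclusion_injective h)
      have := isPerfect_iff.2 hKK
      have := (nontrivial_iff_ne_bot K).2 h0
      exact Group.IsPerfect.not_isSolvable K inferInstance
  · exact absurd (le_solvableRadical_of_isSubnormal h2 inferInstance) h1
  · exact ⟨D, h3⟩

theorem arith_sylow {p n s : ℕ} (hp : 2 < p) (h1 : n ≡ 1 [MOD p]) (h2 : n ≠ 1)
    (h3 : 2 * (n * s) + 1 = p * p) : n = p + 1 := by
  have h0 : n ≠ 0 := by rintro rfl; nlinarith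
  obtain ⟨a, ha⟩ := (Nat.modEq_iff_dvd' (Nat.pos_of_ne_zero h0)).1 h1.symm
  obtain rfl : n = p * a + 1 := by omega
  obtain ⟨b, hb⟩ : p ∣ 2 * s + 1 :=
    (Nat.dvd_add_right (dvd_mul_right p (2 * a * s))).1 ⟨p, by rw [← h3]; ring⟩
  have h4 : 2 * a * s + b = p := Nat.eq_of_mul_eq_mul_left (by omega : 0 < p) (by nlinarith)
  rcases a with _ | _ | a
  · simp at h2
  · simp
  · rcases b with _ | b <;> nlinarith

theorem index_dvd_two {M : Subgroup G} [M.Normal] {p r : ℕ} (hp : p.Prime) (h2 : 2 < p)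
    (hc : Nat.card M = p * r) (hr : 2 * r + 1 = p * p)
    (hD : ∀ D : Subgroup G, D.Normal → D ≠ ⊥ → M ≤ D) : M.index ∣ 2 := by
  have := Fact.mk hp
  obtain ⟨x, hxM, hx⟩ := exists_orderOf hp (hc ▸ dvd_mul_right p r)
  have hPM := zpowers_le.2 hxM
  have hcP : Nat.card (zpowers x) = p := by rw [Nat.card_zpowers, hx]
  have h1 : (zpowers x).relIndex M = r := Nat.eq_of_mul_eq_mul_left hp.pos (by
    rw [← hc, ← card_mul_relIndex hPM, hcP])
  have hP : IsSylowIn p (zpowers x) M := ⟨hPM, IsPGroup.of_card (n := 1) (by rw [hcP, pow_one]),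
    fun h => by
      have := (Nat.dvd_add_right ((h1 ▸ h).mul_left 2)).1 (hr ▸ dvd_mul_right p p)
      exact hp.one_lt.ne' (Nat.dvd_one.1 this)⟩
  have hi : (𝐍(zpowers x)).index = (𝐍(zpowers x)).relIndex M := by
    rw [← relIndex_top_right]
    refine H9.relIndex_eq_of_mul le_top fun c _ => ?_
    obtain ⟨k, hk, h⟩ := hP.frattini_elem (g := c) (le_normalizer_of_normal (mem_top c))
    exact ⟨k⁻¹, inv_mem hk, _, h, by simp⟩
  have hM : ¬ M ≤ 𝐍(zpowers x) := fun h => by
    rw [relIndex_eq_one.2 h, index_eq_one] at hi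
    have := relIndex_eq_one.2 (hD _ (normalizer_eq_top_iff.1 hi) fun e => by
      rw [e, card_bot] at hcP; omega)
    nlinarith
  obtain ⟨s, hs⟩ := relIndex_dvd_of_le_left M (le_normalizer (H := zpowers x))
  have hn : (𝐍(zpowers x)).index = p + 1 := by
    obtain ⟨Q, hQ⟩ := hP.exists_sylow
    have h3 := card_sylow_modEq_one p M
    rw [Q.card_eq_index_normalizer, ← Q.coe_coe, hQ, ← subgroupOf_normalizer_eq hPM] at h3
    exact hi ▸ arith_sylow h2 h3 (fun e => hM (relIndex_eq_one.1 e)) (by rw [← hs, h1, hr])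
  obtain ⟨g, -, hg⟩ := SetLike.not_le_iff_exists.1 hM
  have hPN : ∀ u : zpowers x, (u : G) ∈ 𝐍(zpowers x) := fun u => le_normalizer u.2
  have hall : ∀ h : G, h ∈ 𝐍(zpowers x) ∨ ∃ u ∈ zpowers x, (u * g)⁻¹ * h ∈ 𝐍(zpowers x) := by
    let F : Option (zpowers x) → G ⧸ 𝐍(zpowers x) := fun o => o.elim (1 : G) fun u => (u * g : G)
    have h0 : ∀ u : zpowers x, F none ≠ F (some u) := fun u e => hg (by
      simpa using mul_mem (inv_mem (hPN u)) (QuotientGroup.eq.1 e))
    have hF : Function.Injective F := by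
      rintro (_ | u) (_ | v) e
      exacts [rfl, absurd e (h0 v), absurd e.symm (h0 u), by_contra fun e' => by
        have h3 : g⁻¹ * ↑(u⁻¹ * v) * g⁻¹⁻¹ ∈ 𝐍(zpowers x) := by
          simpa [mul_assoc] using QuotientGroup.eq.1 e
        have h4 : orderOf ((u⁻¹ * v : zpowers x) : G) = p := ((Nat.dvd_prime hp).1
          (hcP ▸ Subgroup.orderOf_dvd_natCard _ (u⁻¹ * v).2)).resolve_left fun h =>
            e' (by rw [inv_mul_eq_one.1 (Subtype.ext (orderOf_eq_one_iff.1 h) : u⁻¹ * v = 1)])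
        have h5 := eq_of_le_of_card_ge (zpowers_le.2 (u⁻¹ * v).2)
          (by rw [hcP, Nat.card_zpowers, h4])
        have h6 := mem_of_norm_sylow (k := 1) hP (‹M.Normal›.conj_mem _ (hPM (u⁻¹ * v).2) _) h3
          (by rw [U4.orderOf_conj, h4, pow_one])
        have h7 := H5.mem_normalizer_zpowers_of_conj_mem (h5.ge h6)
        rw [h5] at h7
        exact hg (inv_mem_iff.1 h7)]
    have hs := (hF.bijective_of_nat_card_le (by rw [← index_eq_card, hn]; simp [hcP])).2
    intro h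
    obtain ⟨_ | u, e⟩ := hs (h : G)
    · exact Or.inl (by simpa using QuotientGroup.eq.1 e)
    · exact Or.inr ⟨u, u.2, QuotientGroup.eq.1 e⟩
  have hK : 𝐂(zpowers x) = zpowers x := le_antisymm (fun k hk => by
    obtain ⟨u, hu, h3⟩ := (hall (k * g)).resolve_left fun h =>
      hg (by simpa using mul_mem (inv_mem (U4.cent_le_norm _ hk)) h)
    have h4 := mul_mem (inv_mem (U4.le_cent_of_isCyclic inferInstance hu)) hk
    have h5 : u⁻¹ * k ∈ (𝐍(zpowers x)).normalCore := fun h => by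
      rcases hall h⁻¹ with e | ⟨v, hv, e⟩
      · simpa using mul_mem (mul_mem (inv_mem e) (U4.cent_le_norm _ h4)) e
      · have := mul_mem (mul_mem (inv_mem e) h3) e
        rwa [show ((v * g)⁻¹ * h⁻¹)⁻¹ * ((u * g)⁻¹ * (k * g)) * ((v * g)⁻¹ * h⁻¹) =
          h * (v * (u⁻¹ * k) * v⁻¹) * h⁻¹ by group, U4.mem_cent.1 h4 v hv,
          mul_inv_cancel_right] at this
    by_contra h6
    refine hM ((hD _ inferInstance fun e => h6 ?_).trans (normalCore_le _))
    rwa [← inv_mul_eq_one.1 (e.le h5)]) (U4.le_cent_of_isCyclic inferInstance)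
  obtain ⟨t, ht⟩ := relIndex_cent_cyclic_pgroup_dvd (p := p) (n := 0) le_rfl inferInstance
    (by rw [hcP, zero_add, pow_one])
  have h3 := relIndex_mul_index hPM
  rw [hK, pow_zero, one_mul] at ht
  rw [← relIndex_mul_index (le_normalizer (H := zpowers x)), hn, h1] at h3
  have h4 : 0 < (zpowers x).relIndex 𝐍(zpowers x) := Nat.pos_of_ne_zero index_ne_zero_of_finite
  generalize (zpowers x).relIndex 𝐍(zpowers x) = m at *
  obtain rfl : p = m * t + 1 := by omega
  exact ⟨t, Nat.eq_of_mul_eq_mul_left (show 0 < m * (m * t + 1 + 1) by positivity) (by nlinarith)⟩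

theorem exists_inv_two {P : Subgroup G} (hP : IsPGroup 2 P) (h : P ≠ ⊥) : ∃ x ∈ P, orderOf x = 2 :=
  exists_orderOf Nat.prime_two (hP.card_eq_or_dvd.resolve_left fun e => h (card_eq_one.1 e))

theorem main (hns : ¬ Group.IsSolvable G) (oc : OC G) (c2 : C2 G) :
    ∃ X L : Subgroup G, X.Normal ∧ L.Normal ∧ (X ⊔ L).index ∣ 2 ∧ X ⊓ L = ⊥ ∧ X ≤ 𝐂(L) ∧
      (Nat.card X).Coprime (Nat.card L) ∧ Odd (Nat.card X) ∧ ∃ (p : ℕ) (_ : Fact p.Prime), 5 ≤ p ∧
        (Nonempty (L ≃* Matrix.ProjectiveSpecialLinearGroup (Fin 2) (ZMod p)) ∨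
          Nonempty (L ≃* SL(2, ZMod p))) := by
  obtain ⟨L, hL⟩ := exists_comp hns oc c2
  have hLL := isComponent_commutator_self hL
  obtain ⟨hp1, hs⟩ := hL.2
  have hq := QuotientGroup.mk'_surjective (center L)
  have hna := Group.IsPerfect.not_isMulCommutative (L ⧸ center L)
  have ocL := (oc.of_injective L.subtype_injective).of_surjective hq
  obtain ⟨p, hp, h5, ⟨e⟩⟩ := simple_case hna ocL
    ((c2.of_injective L.subtype_injective).of_surjective hq)
  have hnd : ∀ k : ℕ, 0 < k → k < 5 → (k : ZMod p) ≠ 0 := fun k h0 hk h =>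
    absurd (Nat.le_of_dvd h0 ((ZMod.natCast_eq_zero_iff k p).1 h)) (by omega)
  have h2 : (2 : ZMod p) ≠ 0 := hnd 2 two_pos (by norm_num)
  have hk : (e.toMonoidHom.comp (QuotientGroup.mk' (center L))).ker = center L := by
    rw [MonoidHom.ker_comp_of_injective _ _ e.injective, QuotientGroup.ker_mk']
  obtain ⟨hZ, hiso⟩ := quasi h2 (Matrix.SL2.commutator_eq_top h2 fun h =>
    hnd 3 three_pos (by norm_num) (by linear_combination h)) hp1.1
    (ocL.of_injective e.symm.injective (f := e.symm.toMonoidHom))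
    ⟨e.surjective.comp hq, hk.le⟩
  have hC : (𝐂(L)).subgroupOf L = center L := by
    ext x
    rw [mem_subgroupOf, U4.mem_cent, mem_center_iff]
    exact ⟨fun h y => Subtype.ext (h y y.2), fun h y hy => congrArg Subtype.val (h ⟨y, hy⟩)⟩
  replace hZ : ∀ z ∈ L ⊓ 𝐂(L), z * z = 1 := fun z hz =>
    congrArg Subtype.val (hZ ⟨z, hz.1⟩ (hk.ge (hC.le hz.2)))
  have hZ' : ∀ z ∈ L ⊓ 𝐂(L), Odd (orderOf z) → z = 1 := fun z hz ho =>
    eq_one_of_odd_of_mul_self ho (hZ z hz)
  obtain ⟨r, hr⟩ : ∃ r, 2 * r + 1 = p * p := by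
    obtain ⟨k, hk⟩ := hp.out.odd_of_ne_two (by omega)
    exact ⟨2 * k * k + 2 * k, by rw [hk]; ring⟩
  have hc : (𝐂(L)).relIndex L = p * r := by
    rw [relIndex, hC, index_eq_card, Nat.card_congr e.toEquiv, SL2C.card_PSL2 h2, Nat.card_zmod, sq,
      ← hr, Nat.add_sub_cancel, mul_left_comm, Nat.mul_div_cancel_left _ two_pos]
  have hLn : L.Normal := by
    obtain ⟨x, hx, ho⟩ := exists_orderOf (H := L) hp.out ((dvd_mul_right p r).trans
      (hc ▸ relIndex_dvd_card _ _))
    refine ⟨fun y hy g => ?_⟩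
    rcases isComponent_eq_or_commutator_eq_bot (isComponent_map_conj hL g) hL with h | h
    · exact h.le ⟨y, hy, rfl⟩
    have h3 := commutator_eq_bot_iff_le_centralizer.1 h ⟨x, hx, rfl⟩
    have h4 : orderOf (g * x * g⁻¹) = p := by rw [U4.orderOf_conj, ho]
    have := hZ' _ ⟨zpowers_le.2 hx (oc.mem_zpowers hp.out (by omega) ho h4 (h3 x hx)), h3⟩
      (h4 ▸ hp.out.odd_of_ne_two (by omega))
    rw [this, orderOf_one] at h4
    omega
  have hS : IsSylowIn 2 (L ⊓ 𝐂(L)) 𝐂(L) := by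
    refine IsSylowIn.of_maximal inf_le_right (fun g => ⟨1, Subtype.ext (by
      simpa [sq] using hZ g g.2)⟩) fun T hT _ hTC => by_contra fun h => ?_
    let q := QuotientGroup.mk' (L ⊓ 𝐂(L))
    obtain ⟨_, ⟨c, hc, rfl⟩, h3⟩ := exists_inv_two (hT.map q) fun e => h (by
      rwa [← QuotientGroup.ker_mk' (L ⊓ 𝐂(L)), ← Subgroup.map_eq_bot_iff])
    let ι := QuotientGroup.map (center L) (L ⊓ 𝐂(L)) L.subtype fun x hx => ⟨x.2, hC.ge hx⟩
    have hι : Function.Injective ι := (injective_iff_map_eq_one _).2 fun x hx => by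
      obtain ⟨x, rfl⟩ := hq x
      exact (QuotientGroup.eq_one_iff _).2 (hC.le ((QuotientGroup.eq_one_iff _).1 hx).2)
    obtain ⟨P⟩ : Nonempty (Sylow 2 (L ⧸ center L)) := inferInstance
    obtain ⟨t, -, ht⟩ := exists_inv_two P.isPGroup' fun e =>
      not_cyclic hna (IsSylowIn.sylow_top P) (e ▸ inferInstance)
    obtain ⟨u, h6, h7, h8, h9⟩ := BSW.exists_other_involution hna ht
    have h4 : Four (ι u) (ι t) := ⟨by rw [orderOf_injective ι hι, inv_of_mul_self h6 h7],
      by rw [orderOf_injective ι hι, ht], by rw [← map_mul, h9, map_mul], hι.ne h8⟩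
    have hV : V (ι u) (ι t) ≤ L.map q := by
      have : ∀ x, ι x ∈ L.map q := fun x => by
        obtain ⟨x, rfl⟩ := hq x
        exact ⟨x, x.2, rfl⟩
      exact sup_le (zpowers_le.2 (this u)) (zpowers_le.2 (this t))
    have h10 := hV ((c2.of_surjective (QuotientGroup.mk'_surjective _)).mem_V h4
      (mul_self_of_inv h3) (U4.mem_cent.2 fun v hv => by
        obtain ⟨l, hl, rfl⟩ := hV hv
        rw [← map_mul, U4.mem_cent.1 (hTC hc) l hl, map_mul]))
    rw [← mem_comap, comap_map_eq, QuotientGroup.ker_mk', sup_eq_left.2 inf_le_left] at h10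
    exact ne_one_of_inv h3 ((QuotientGroup.eq_one_iff _).2 ⟨h10, hTC hc⟩)
  have h1 := (nilp2_of_cent hS fun P hP g hg _ _ =>
    centralizer_le (hP.trans inf_le_left) hg).sup_sylow hS
  have hXL : Od 𝐂(L) ⊓ L = ⊥ := (eq_bot_iff_forall _).2 fun z hz => hZ' z ⟨hz.2, Od_le _ hz.1⟩
    ((odd_Od _).of_dvd_nat (Subgroup.orderOf_dvd_natCard _ hz.1))
  refine ⟨Od 𝐂(L), L, normal_of_le_normalizer_top (le_normalizer_of_normal.trans
    (norm_le_norm_Od _)), hLn, ?_, hXL, Od_le _, Nat.coprime_of_dvd fun s hs h3 h4 => ?_,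
    odd_Od _, p, hp, h5, hiso⟩
  · have hq' := QuotientGroup.mk'_surjective 𝐂(L)
    have := hLn.map _ hq'
    have h3 := index_dvd_two (M := L.map (QuotientGroup.mk' 𝐂(L))) hp.out (by omega)
      (by rw [← relIndex_ker, QuotientGroup.ker_mk', hc]) hr fun D hD h0 => by
        have h4 : ⁅D.comap (QuotientGroup.mk' 𝐂(L)), L⁆ ≤ D.comap (QuotientGroup.mk' 𝐂(L)) ⊓ L :=
          commutator_le_inf _ _
        rcases isQuasisimple_normal hL.2 ((D.comap (QuotientGroup.mk' 𝐂(L))).subgroupOf L)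
          with h | h
        · refine absurd ?_ h0
          rw [← map_comap_eq_self_of_surjective hq' D, Subgroup.map_eq_bot_iff,
            QuotientGroup.ker_mk']
          exact commutator_eq_bot_iff_le_centralizer.1 (commutator_eq_bot_of_perfect hLL
            (commutator_eq_bot_iff_le_centralizer.2 fun x hx =>
              hC.ge (h (show (⟨x, (h4 hx).2⟩ : L) ∈ _ from (h4 hx).1))))
        · exact map_le_iff_le_comap.2 (subgroupOf_eq_top.1 h)
    rwa [← index_comap_of_surjective _ hq', comap_map_eq, QuotientGroup.ker_mk', ← h1, sup_comm,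
      sup_assoc, sup_eq_right.2 (inf_le_left : L ⊓ 𝐂(L) ≤ L)] at h3
  · obtain ⟨a, ha, h6⟩ := exists_orderOf hs h3
    obtain ⟨b, hb, h7⟩ := exists_orderOf hs h4
    have h8 := hXL.le ⟨zpowers_le.2 ha (oc.mem_zpowers hs (fun e => by
      rw [e] at h3; exact (odd_Od _).not_two_dvd_nat h3) h6 h7 (Od_le _ ha b hb).symm), hb⟩
    rw [mem_bot.1 h8, orderOf_one] at h7
    exact hs.one_lt.ne h7

end CfsgLib.SW
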