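import Cfsg.Agent.Lib.SW.Frame
import Cfsg.Agent.Lib.Blk.BSc

/-!
# Class functions on the `2`-section of an involution
-/

set_option autoImplicit false

namespace CfsgLib.SW

open Subgroup Cfsg CfsgLib.FT CfsgLib.FT.BGN CfsgLib.Blk CfsgLib.GW
open scoped commutatorElement ComplexConjugate

variable {G : Type*} [Group G]

/-- Functions invariant under `t` that vanish outside the sections of `1` and `t`. -/
structure Sym (t : G) (φ : G → ℂ) : Prop where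
  tr : ∀ g, φ (t * g) = φ g
  off : ∀ g, g ∉ secT t → ¬ (orderOf g).Coprime 2 → φ g = 0

variable [Fintype G] {L : Subgroup G} {t : G} {φ ψ Φ Φ' : G → ℂ}

/-- The induced function attached to `Φ`. -/
noncomputable def Psi (t : G) (Φ : G → ℂ) : G → ℂ :=
  cfInd 𝐂[t] ⊤ ((2 : ℂ) • (cfInd1 (secT t) * Φ))

theorem Sym.cfdot_half (hφ : Sym t φ) (h : orderOf t = 2) (ht : t ∈ L)
    (hc : ∀ y ∈ L, y * t = t * y) (hψ : ∀ g, ψ (t * g) = ψ g) :
    cfdot L φ ψ = 2 * cfdot L (cfInd1 (secT t) * φ) ψ := by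
  have h1 : cfdot L (Blk.tr t (cfInd1 (secT t) * φ)) ψ = cfdot L (cfInd1 (secT t) * φ) ψ := by
    rw [← cfdot_tr (φ := cfInd1 (secT t) * φ) ht]
    exact cfdot_congr (fun _ _ => rfl) fun x _ => (hψ x).symm
  rw [two_mul]
  nth_rewrite 1 [← h1]
  rw [← cfdot_add_left]
  refine cfdot_congr (fun g hg => ?_) fun _ _ => rfl
  simp only [Pi.add_apply, Blk.tr, Pi.mul_apply, hφ.tr]
  by_cases h2 : g ∈ secT t
  · rw [cfInd1_apply h2, cfInd1_apply_of_notMem fun h3 =>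
      not_odd_of_mem_secT h h2 ((mul_mem_secT_iff h (hc g hg)).mp h3)]
    ring
  by_cases h3 : (orderOf g).Coprime 2
  · rw [cfInd1_apply ((mul_mem_secT_iff h (hc g hg)).mpr h3), cfInd1_apply_of_notMem h2]
    ring
  · simp [hφ.off g h2 h3]

theorem Sym.two_smul_mem (hs : Sym t φ) (h : orderOf t = 2) (hφ : φ ∈ ZIrr 𝐂[t]) :
    (2 : ℂ) • (cfInd1 (secT t) * φ) ∈ ZIrr 𝐂[t] := by
  have hCF : (2 : ℂ) • (cfInd1 (secT t) * φ) ∈ CF 𝐂[t] :=
    Submodule.smul_mem _ _ (CF_mul (cfInd1_mem_CFon secT_subset secT_conj).1 (ZIrr_mem_CF hφ))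
  refine mem_ZIrr_of_dprod Nat.prime_two hCF fun T O E hE hD hT hO => ?_
  have hc : ∀ y ∈ E, y * t = t * y := fun y hy => mem_centralizer_singleton_iff.mp (hE hy)
  have hsec : ∀ a ∈ T, ∀ b ∈ O, a * b ∈ secT t → a = t := fun a ha b hb hab => by
    obtain ⟨k, hk⟩ := orderOf_eq_pow_of_mem_isPGroup hT ha
    have := conj_eq_of_conj_mul_eq (a := 2 ^ (k + 1)) (b := Nat.card O * orderOf (t * (a * b)))
      (x := a) (y := b) (x' := t) (y' := t * (a * b)) (g := 1)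
      (Nat.Coprime.pow_left _ (Nat.Coprime.mul_right hO.symm hab.2.symm))
      (hk ▸ pow_dvd_pow _ (Nat.le_succ k)) ((orderOf_dvd_card_of_mem hb).mul_right _)
      (h ▸ dvd_pow_self _ (Nat.succ_ne_zero k)) (Dvd.intro_left _ rfl) (hD.comm a ha b hb)
      ((Commute.refl t).mul_right hab.1.symm).eq
      (by rw [← mul_assoc t, mul_self_of_orderOf h]; simp)
    simpa using this
  by_cases htT : t ∈ T
  swap
  · have : cfRes E ((2 : ℂ) • (cfInd1 (secT t) * φ)) = 0 := by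
      ext g
      by_cases hg : g ∈ E
      · obtain ⟨a, ha, b, hb, rfl⟩ := hD.compl.2.2.2 g hg
        rw [cfRes_apply hg]
        simp [cfInd1_apply_of_notMem fun h1 => htT (hsec a ha b hb h1 ▸ ha)]
      · rw [cfRes_apply_of_notMem hg, Pi.zero_apply]
    rw [this]; exact zero_mem _
  have htE : t ∈ E := hD.compl.1 htT
  refine mem_ZIrr_of_cfdot_int (cfRes_mem_CF hE hCF) fun ξ hξ => ?_
  obtain ⟨ε, -, hε⟩ := irr_central_inv hξ h htE hc
  set ξ' := cfProd T O (cf1 T) (cfRes O ξ) with hξ'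
  have h1 : IsChar E ξ' := hD.isChar isChar_cf1 (hξ.isChar.cfRes hD.compl.2.1)
  have h2 : T ≤ cfker E ξ' := sdprod_le_cfker hD.compl
  obtain ⟨m, hm⟩ := ZIrr_cfdot_int (ZIrr_cfRes hE hφ) h1.mem_ZIrr
  rw [cfdot_cfRes_left, hs.cfdot_half h htE hc (cfker_mul_left (h2 htT))] at hm
  refine ⟨ε * m, ?_⟩
  rw [cfdot_cfRes_left, cfdot_smul_left, Int.cast_mul, ← hm, mul_left_comm,
    ← cfdot_intCast_smul_right]
  congr 1
  rw [cfdot, cfdot]
  congr 1
  refine Finset.sum_congr rfl fun g hg => ?_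
  by_cases hs : g ∈ secT t
  · obtain ⟨a, ha, b, hb, rfl⟩ := hD.compl.2.2.2 g (by simpa using hg)
    obtain rfl := hsec a ha b hb hs
    rw [hε, Pi.smul_apply, hξ', cfProd_apply hD.compl.2.2.1 ha hb, cf1_apply ha, cfRes_apply hb]
    simp
  · simp [cfInd1_apply_of_notMem hs]

theorem Sym.Psi_mem (hs : Sym t Φ) (h : orderOf t = 2) (hΦ : Φ ∈ ZIrr 𝐂[t]) : Psi t Φ ∈ ZIrr ⊤ :=
  ZIrr_cfInd le_top (hs.two_smul_mem h hΦ)

theorem Sym.cfdot_Psi (hs : Sym t Φ) (h : orderOf t = 2) (hφ : φ ∈ CF ⊤)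
    (hψ : ∀ g, ψ (t * g) = ψ g) (he : ∀ g ∈ secT t, φ g = ψ g) :
    cfdot ⊤ (Psi t Φ) φ = cfdot 𝐂[t] Φ ψ := by
  rw [Psi, cfdot_cfInd_left le_top hφ, hs.cfdot_half h (U4.self_mem_cent1 t)
    (fun y hy => U4.mem_cent1.1 hy) hψ,
    cfdot_smul_left, cfdot_congr_of_supp (fun g hg => by simp [cfInd1_apply_of_notMem hg]) he]

theorem Sym.Psi_Psi (hs : Sym t Φ) (h : orderOf t = 2) (hΦ : Φ ∈ ZIrr 𝐂[t]) :
    cfdot ⊤ (Psi t Φ) (Psi t Φ) = 2 * cfdot 𝐂[t] Φ Φ := by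
  rw [hs.cfdot_Psi h (ZIrr_mem_CF (hs.Psi_mem h hΦ)) (ψ := (2 : ℂ) • Φ)
    (fun g => by rw [Pi.smul_apply, Pi.smul_apply, hs.tr]) fun g hg => by
      rw [Psi, normedTI_Ind_id (normedTI_secT h) ⟨ZIrr_mem_CF (hs.two_smul_mem h hΦ),
        fun g hg => by simp [cfInd1_apply_of_notMem hg]⟩ hg (mem_top g)]
      simp [cfInd1_apply hg], cfdot_smul_right, Complex.conj_ofNat]

theorem exists_sym (h : orderOf t = 2) (hφ : φ ∈ CF ⊤) (hp : projB (B0 2 ⊤) φ = φ) :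
    ∃ f, projB (B0 2 𝐂[t]) f = f ∧ Sym t f ∧ (∀ g ∈ secT t, φ g = f g) ∧ f 1 = φ t := by
  have ht := U4.self_mem_cent1 t
  have hc : ∀ y ∈ 𝐂[t], y * t = t * y := fun y hy => U4.mem_cent1.1 hy
  set f0 := cfInd1 (secT t) * φ with hf0
  have h1 : projB (B0 2 𝐂[t]) f0 = f0 := by
    rw [hf0, Q8Hyp.proj0_secT]
    ext g
    by_cases hg : g ∈ secT t
    · rw [Pi.mul_apply, Q8Hyp.proj0_eq_on_secT h hφ hg, hp, Pi.mul_apply]
    · simp [cfInd1_apply_of_notMem hg]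
  have h2 : projB (B0 2 𝐂[t]) (f0 + tr t f0) = f0 + tr t f0 := by
    rw [projB_add, projB_tr ht hc, h1]
  have hts : t ∈ secT t := ⟨rfl, by simp [mul_self_of_orderOf h]⟩
  have key : ∀ g ∈ secT t, φ g = (f0 + tr t f0) g := fun g hg => by
    simp [hf0, tr, cfInd1_apply hg, cfInd1_apply_of_notMem fun h3 =>
      not_odd_of_mem_secT h hg ((mul_mem_secT_iff h hg.1).mp h3)]
  have htr : ∀ g, (f0 + tr t f0) (t * g) = (f0 + tr t f0) g := fun g => by
    simp only [Pi.add_apply, tr, ← mul_assoc, mul_self_of_orderOf h, one_mul, add_comm]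
  refine ⟨_, h2, ⟨htr, fun g h3 h4 => ?_⟩, key, by rw [key t hts, ← htr 1, mul_one]⟩
  have h5 : t * g ∉ secT t := fun e => h4 (by
    simpa [← mul_assoc, mul_self_of_orderOf h] using e.2)
  simp [hf0, tr, cfInd1_apply_of_notMem h3, cfInd1_apply_of_notMem h5]

theorem Sym.notMem_B0 {H : Subgroup G} (hH : H = 𝐂[t]) {χ : Irr H} (hs : Sym t χ)
    (h : orderOf t = 2) (h0 : cfdot H χ (cf1 H) = 0) : χ ∉ B0 2 H := fun hχ => by
  have htH : t ∈ H := hH ▸ U4.self_mem_cent1 t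
  have hc : ∀ y ∈ H, y * t = t * y := fun y hy => U4.mem_cent1.1 (hH ▸ hy)
  have h1 := hs.cfdot_half h htH hc (ψ := cf1 H) (cfker_mul_left (by rw [cfker_cf1]; exact htH))
  rw [h0, cfdot_cf1_right, ← sum_elems_mul_left htH] at h1
  refine mem_B0.mp hχ ?_
  have h2 : ∑ x ∈ elems (H : Set G), (cfInd1 (secT t) * (χ : G → ℂ)) (t * x) =
      ∑ x ∈ elems (regSet 2 H), χ x := by
    rw [← sum_cfInd1_mul (regSet 2 H),
      sum_eq_sum_elems (A := H) fun x hx => by rw [χ.irr.2 x hx, mul_zero]]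
    refine Finset.sum_congr rfl fun x hx => ?_
    have hx' : x ∈ H := by simpa using hx
    rw [Pi.mul_apply, hs.tr]
    by_cases ho : (orderOf x).Coprime 2
    · rw [cfInd1_apply ((mul_mem_secT_iff h (hc x hx')).mpr ho),
        cfInd1_apply (show x ∈ regSet 2 H from ⟨hx', ho⟩)]
    · rw [cfInd1_apply_of_notMem fun e => ho ((mul_mem_secT_iff h (hc x hx')).mp e),
        cfInd1_apply_of_notMem fun e => ho e.2]
  rw [h2] at h1
  simpa [card_ne_zero H] using h1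

theorem dirr_central (hφ : IsDirr 𝐂[t] φ) (h : orderOf t = 2) :
    (∀ g, φ (t * g) = φ g) ∨ φ t = -φ 1 := by
  obtain ⟨e, ψ, -, hψ, rfl⟩ := hφ.exists_sign
  obtain ⟨ε, h1, h2⟩ := irr_central_inv hψ h (U4.self_mem_cent1 t) fun y hy => U4.mem_cent1.1 hy
  rcases Int.eq_one_or_neg_one_of_mul_eq_one h1 with rfl | rfl
  · exact Or.inl fun g => by simp [h2]
  · exact Or.inr (by simpa using congrArg ((e : ℂ) * ·) (h2 1))

end CfsgLib.SW
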