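import Cfsg.Agent.Lib.SW.MC
import Cfsg.Agent.Lib.SW.Vals
import Cfsg.Agent.Lib.SW.Sec
import Cfsg.Agent.Lib.FusionControl

/-!
# The semidihedral case: the centralizer of an involution
-/

set_option autoImplicit false

namespace CfsgLib.SW

open Subgroup Cfsg CfsgLib.FT CfsgLib.FT.BGN CfsgLib.Blk CfsgLib.GW
open scoped commutatorElement ComplexConjugate

variable {G : Type*} [Group G]

/-- The frame in the semidihedral case. -/
structure SDh (S : Subgroup G) (x y z t : G) : Prop extends MC S x y z t where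
  zz : z * z = t
  yx : y * x * y⁻¹ * x = t

theorem mem_sq_or {x a : G} (ha : a ∈ zpowers x) :
    a ∈ zpowers (x * x) ∨ a * x⁻¹ ∈ zpowers (x * x) := by
  obtain ⟨i, rfl⟩ := ha
  obtain ⟨j, rfl | rfl⟩ := Int.even_or_odd' i
  · exact Or.inl ⟨j, by simp only [zpow_mul, zpow_two]⟩
  · exact Or.inr ⟨j, by simp only [zpow_add, zpow_mul, zpow_two, zpow_one, mul_inv_cancel_right]⟩

theorem cfdot_ker [Fintype G] {L : Subgroup G} {B : Finset (Irr L)} (φ : G → ℂ) (y : G) :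
    cfdot L φ (fun g => kerB B g y) = projB B φ y := by
  simp only [projB_eq_sum, cfdot, conj_kerB]

theorem cfdot_ker_self [Fintype G] {L : Subgroup G} {B : Finset (Irr L)} (y : G) :
    cfdot L (fun g => kerB B g y) (fun g => kerB B g y) = kerB B y y := by
  rw [cfdot_ker, projB_apply, kerB]
  refine Finset.sum_congr rfl fun χ hχ => ?_
  rw [← cfdot_conj, cfdot_ker, projB_irr, if_pos hχ, mul_comm]

namespace SDh

variable {S : Subgroup G} {x y z t s a g : G} (h : SDh S x y z t)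
include h

theorem A0_iff : a ∈ zpowers (z * z) ↔ a = 1 ∨ a = t := by rw [h.zz, mem_zpowers_inv h.ot]

theorem tA0 : t ∈ zpowers (z * z) := h.A0_iff.2 (Or.inr rfl)

theorem xy_sq : x * y * (x * y) = t := by
  rw [← h.yx, ← comm_A (mem_zpowers x) (h.yconj (mem_zpowers x)), inv_of_inv h.oy]
  group

theorem oz : orderOf z = 4 := orderOf_eq_prime_pow (p := 2) (n := 1)
  (by rw [pow_one, sq, h.zz]; exact h.t1) (by rw [pow_succ, pow_mul, pow_one, sq, sq, h.zz, h.tt])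

theorem yz : y * z * y⁻¹ = z⁻¹ := inverts_zpowers h.inv2 z h.zx

theorem refl_cases (hs : s ∈ S) (hsA : s ∉ zpowers x) :
    ∃ a ∈ zpowers (x * x), s = a * y ∨ s = a * (x * y) := by
  obtain ⟨c, hc, rfl⟩ := h.exists_mul hs hsA
  rcases mem_sq_or hc with e | e
  exacts [⟨c, e, Or.inl rfl⟩, ⟨_, e, Or.inr (by group)⟩]

theorem mul_y_sq (ha : a ∈ zpowers (x * x)) : a * y * (a * y) = 1 := by
  rw [show a * y * (a * y) = a * (y * a * y⁻¹) * (y * y) by group, inverts_zpowers h.inv2 a ha, h.y2]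
  simp

variable [Finite G]

theorem frH : Fr 𝐂[t] S x y z :=
  ⟨h.syl.mono h.S_le le_top, h.xS, h.yS, h.yA, h.cov, h.zx, h.z1, h.inv, h.yy⟩

theorem N0H : N0 𝐂[t] z = N0 ⊤ z :=
  le_antisymm (inf_le_inf_right _ le_top) (le_inf h.N0_le inf_le_right)

theorem four_eq (ha : a ∈ zpowers x) (h1 : a * a ≠ 1) (h2 : a * a * (a * a) = 1) :
    a = z ∨ a = z⁻¹ := by
  have h3 := (h.uniq (mul_mem ha ha) h2).resolve_left h1
  rcases h.uniq (mul_mem ha (inv_mem h.zA)) (by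
    rw [mul_assoc, ← mul_assoc z⁻¹, comm_A (inv_mem h.zA) ha, ← mul_assoc, ← mul_assoc, h3, ← h.zz]
    simp) with e | e
  · exact Or.inl (mul_inv_eq_one.1 e)
  · refine Or.inr (eq_inv_of_mul_eq_one_left ?_)
    rw [mul_inv_eq_iff_eq_mul.1 e, mul_assoc, h.zz, h.tt]

theorem norm_T {T : Subgroup G} (hT : T ≤ S) (h1 : zpowers (x * x) ≤ T) (h2 : x * y ∉ T) :
    𝐍(T) ≤ N0 ⊤ z := fun n hn => by
  have h3 := conj_mem_of_mem_normalizer hn (h1 h.zx)
  have h4 : n * z * n⁻¹ * (n * z * n⁻¹) ≠ 1 := by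
    rw [_root_.conj_mul, h.zz]; exact U4.conj_ne_one_iff.2 h.t1
  refine ⟨mem_top n, Fr.mem_norm_of_conj (mem_zpowers z) ?_⟩
  by_cases e : n * z * n⁻¹ ∈ zpowers x
  · rcases h.four_eq e h4 (by simp only [_root_.conj_mul, h.zz, h.tt]; simp) with e | e <;> simp [e]
  · obtain ⟨a, ha, e | e⟩ := h.refl_cases (hT h3) e <;> rw [e] at h3 h4
    · exact absurd (h.mul_y_sq ha) h4
    · exact absurd (by simpa using mul_mem (inv_mem (h1 ha)) h3) h2

theorem conj_cases' [Fintype G] (hs : s ∈ S) (hsA : s ∉ zpowers x) :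
    ∃ c ∈ S, c * y * c⁻¹ = s ∨ c * (x * y) * c⁻¹ = s := by
  obtain ⟨a, ha, rfl | rfl⟩ := h.refl_cases hs hsA
  · obtain ⟨c, hc, e⟩ := h.exists_conj_A h.yS h.yA ha
    exact ⟨c, h.AS hc, Or.inl e⟩
  · obtain ⟨c, hc, e⟩ := h.exists_conj_A h.xyS h.xyA ha
    exact ⟨c, h.AS hc, Or.inr e⟩

variable [IsSimpleGroup G]

theorem conj_xy : ∃ g ∈ 𝐂[t], g * (x * y) * g⁻¹ = z := by
  have := Fintype.ofFinite G
  suffices ∃ g, g * (x * y) * g⁻¹ = z by
    obtain ⟨g, hg⟩ := this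
    exact ⟨g, U4.mem_cent1_of_conj_eq (by
      rw [← h.xy_sq, ← _root_.conj_mul, hg, h.zz, h.xy_sq]), hg⟩
  by_contra hne
  have hD : ∀ b, b ∈ zpowers (x * x) ⊔ zpowers y ↔
      b ∈ zpowers (x * x) ∨ b * y⁻¹ ∈ zpowers (x * x) := fun b => by
    rw [mem_sup_iff_of_le_normalizer' (zpowers_le.2 (inverts_zpowers h.inv2).mem_norm)]
    simp only [mem_zpowers_inv h.oy]
    refine ⟨?_, fun e => e.elim (fun e => ⟨b, e, 1, Or.inl rfl, mul_one b⟩)
      fun e => ⟨_, e, y, Or.inr rfl, by simp⟩⟩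
    rintro ⟨n, hn, a, rfl | rfl, rfl⟩ <;> simp [hn]
  have key : ∀ a ∈ S, a ∉ zpowers (x * x) ⊔ zpowers y → ∀ g, g * a * g⁻¹ ∉
      zpowers (x * x) ⊔ zpowers y := fun a ha haD g hg => by
    have h4 : ∀ b ∈ zpowers (x * x) ⊔ zpowers y, b * b ≠ 1 → b ∈ zpowers (x * x) := fun b hb e =>
      ((hD b).1 hb).resolve_right fun e' => e (by simpa using h.mul_y_sq e')
    by_cases e : a ∈ zpowers x
    · have h1 := (mem_zpowers_or h.pA e (mem_zpowers x)).resolve_right fun e => haD (mem_sup_left e)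
      have h2 := h4 _ hg (by
        rw [_root_.conj_mul, U4.conj_ne_one_iff]
        intro e'
        rcases h.uniq e e' with rfl | rfl
        exacts [haD (one_mem _), haD (mem_sup_left h.tx)])
      exact h.xA (eq_of_le_of_card_ge (sq_le x) (((card_le_of_le (zpowers_le.2 h1)).trans (by
        rw [Nat.card_zpowers, Nat.card_zpowers, U4.orderOf_conj])).trans
        (card_le_of_le (zpowers_le.2 h2))) ▸ mem_zpowers x)
    · obtain ⟨b, hb, rfl | rfl⟩ := h.refl_cases ha e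
      · exact haD ((hD _).2 (Or.inr (by simpa using hb)))
      obtain ⟨c, -, hc⟩ := h.exists_conj_A h.xyS h.xyA hb
      rw [← hc, show g * (c * (x * y) * c⁻¹) * g⁻¹ = g * c * (x * y) * (g * c)⁻¹ by group] at hg
      have h5 : g * c * (x * y) * (g * c)⁻¹ * (g * c * (x * y) * (g * c)⁻¹) ≠ 1 := by
        rw [_root_.conj_mul, h.xy_sq]; exact U4.conj_ne_one_iff.2 h.t1
      rcases h.four_eq (sq_le x (h4 _ hg h5)) h5 (by
        simp only [_root_.conj_mul, h.xy_sq, h.tt]; simp) with e | e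
      · exact hne ⟨_, e⟩
      · refine hne ⟨y⁻¹ * (g * c), ?_⟩
        rw [show y⁻¹ * (g * c) * (x * y) * (y⁻¹ * (g * c))⁻¹ =
          y⁻¹ * (g * c * (x * y) * (g * c)⁻¹) * y by group, e, ← h.yz]
        group
  have hout : ∀ a ∈ S, a ∉ zpowers (x * x) ⊔ zpowers y →
      a * x⁻¹ ∈ zpowers (x * x) ⊔ zpowers y := fun a ha haD => by
    by_cases e : a ∈ zpowers x
    · exact mem_sup_left ((mem_sq_or e).resolve_left fun e => haD (mem_sup_left e))
    · obtain ⟨b, hb, rfl | rfl⟩ := h.refl_cases ha e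
      · exact absurd ((hD _).2 (Or.inr (by simpa using hb))) haD
      · rw [show b * (x * y) * x⁻¹ = b * (x * x) * y * (y⁻¹ * x⁻¹ * y * x⁻¹) by group,
          show y⁻¹ * x⁻¹ * y * x⁻¹ = (x * y * (x * y))⁻¹ by nth_rewrite 2 [← inv_of_inv h.oy]; group,
          h.xy_sq]
        exact mul_mem (mul_mem (mem_sup_left (mul_mem hb (mem_zpowers _)))
          (mem_sup_right (mem_zpowers y))) (mem_sup_left (inv_mem h.tx))
  have h1 := Fusion.commutator_inf_le_of_isSylowIn h.syl (L := zpowers (x * x) ⊔ zpowers y)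
    (fun a ha g _ hg => by
      by_cases e : a ∈ zpowers (x * x) ⊔ zpowers y
      · exact mul_mem (by_contra fun e' => key _ hg e' g⁻¹ (by simpa [mul_assoc] using e)) (inv_mem e)
      · simpa [mul_assoc] using mul_mem (hout _ hg (key a ha e g)) (inv_mem (hout a ha e)))
    (show x ∈ ⁅⊤, ⊤⁆ ⊓ S from ⟨(h.comm_top.ge (mem_top x) :), h.xS⟩)
  rcases (hD x).1 h1 with e | e
  exacts [h.xA e, h.xyA (by simpa [inv_of_inv h.oy] using sq_le x e)]

theorem cent_y : Nilp2 (𝐂[t] ⊓ 𝐂[y]) ∧ IsSylowIn 2 (V t y) (𝐂[t] ⊓ 𝐂[y]) := by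
  rw [← cent_V]
  exact ⟨nilp2_of_cent (h.lv.syl t y h.four) fun P hP g hg _ _ => centralizer_le hP hg,
    h.lv.syl t y h.four⟩

end SDh

section Chars

variable [Fintype G]

theorem Fr.T0_four {L S : Subgroup G} {x y z g : G} (h : Fr L S x y z) (hz : orderOf z = 4)
    {θ : G → ℂ} (h0 : ∀ a ∈ zpowers (z * z), θ a = 0) (hg : ¬ 4 ∣ orderOf g) :
    T0 (zpowers x) L θ g = 0 :=
  h.T0_zero h0 fun k _ e => hg (by
    rw [← hz, ← U4.orderOf_conj k z]; exact orderOf_dvd_of_mem_zpowers e)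

namespace SDh

variable {S : Subgroup G} {x y z t : G} (h : SDh S x y z t) {l μ ν : Irr (zpowers x)}
  {α β γ η φ : G → ℂ} {M : ℕ} {ε : Irr (zpowers x) → G → ℂ}
include h

theorem odd_t (hν : ¬ Ev z ν) : ν t = -1 := by
  refine (mul_self_eq_one_iff.1 ?_).resolve_left fun e => hν (h.ev_iff.2 fun a ha => ?_)
  · rw [← (lin ν).map_mul h.tA h.tA, h.tt, (lin ν).one]
  · rcases h.A0_iff.1 ha with rfl | rfl
    exacts [(lin ν).one, e]

theorem dot_odd (hφ : ∀ g, φ (t * g) = φ g) (hν : ¬ Ev z ν) : cfdot (zpowers x) φ ν = (0 : ℤ) := by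
  have := cfdot_tr (φ := φ) (ψ := ν) h.tA
  rw [cfdot_congr (φ := tr t φ) (φ' := φ) (ψ' := -ν) (fun g _ => hφ g) fun g hg => by
    simp [tr, (lin ν).map_mul h.tA hg, h.odd_t hν], cfdot_neg_right] at this
  linear_combination -this / 2

theorem even (d : Dec 𝐂[t] y z l α β γ ε) : (∀ g, α (t * g) = α g) ∧ (∀ g, β (t * g) = β g) ∧
    (∀ g, γ (t * g) = γ g) ∧ ∀ μ, Gen z μ → ∀ g, ε μ (t * g) = ε μ g := by
  have h4 : ¬ 4 ∣ orderOf t := by rw [h.ot]; decide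
  have e1 : ∀ μ, Gen z μ → ε μ 1 = 1 + α 1 ∧ ε μ t = 1 + α t := fun μ hμ => by
    have f1 := h.frH.Th_one hμ.1
    have f2 := h.frH.T0_four h.oz (h.sub_zero' hμ.1) h4
    rw [← Th] at f2
    rw [d.th μ hμ] at f1 f2
    simp only [Pi.add_apply, Pi.sub_apply, cf1_one, cf1_apply (U4.self_mem_cent1 t)] at f1 f2
    exact ⟨by linear_combination -f1, by linear_combination -f2⟩
  have f1 := h.frH.Th_one d.ev
  have f2 := h.frH.T0_four h.oz (h.sub_zero' d.ev) h4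
  rw [← Th] at f2
  rw [d.thl] at f1 f2
  simp only [Pi.add_apply, cf1_one, cf1_apply (U4.self_mem_cent1 t)] at f1 f2
  obtain ⟨μ, hμ⟩ := h.exists_gen
  have ha : ∀ g, α (t * g) = α g := (dirr_central d.da h.ot).resolve_right fun e => by
    obtain ⟨f3, f4⟩ := e1 μ hμ
    rcases dirr_central (d.de μ hμ) h.ot with e' | e'
    · have := e' 1
      rw [mul_one] at this
      exact d.da.one_ne_zero (by linear_combination (this - f4 + f3 - e) / -2)
    · exact two_ne_zero (α := ℂ) (by linear_combination e' - f4 - f3 - e)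
  have ha1 := ha 1
  rw [mul_one] at ha1
  have hb : ∀ {β γ : G → ℂ}, IsDirr 𝐂[t] β → IsDirr 𝐂[t] γ → 1 + α 1 + β 1 + γ 1 = 0 →
      1 + α t + β t + γ t = 0 → ∀ g, β (t * g) = β g := fun {β γ} db dc f1 f2 =>
    (dirr_central db h.ot).resolve_right fun e => by
      rcases dirr_central dc h.ot with e' | e'
      · have := e' 1
        rw [mul_one] at this
        exact db.one_ne_zero (by linear_combination (f1 - f2 + ha1 + e + this) / 2)
      · exact (d.de μ hμ).one_ne_zero (by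
          linear_combination (e1 μ hμ).1 + (f1 + f2 - ha1 - e - e') / 2)
  exact ⟨ha, hb d.db d.dc f1 f2, hb d.dc d.db (by linear_combination f1) (by linear_combination f2),
    fun μ hμ => (dirr_central (d.de μ hμ) h.ot).resolve_right fun e => (d.de μ hμ).one_ne_zero (by
      linear_combination ((e1 μ hμ).1 - (e1 μ hμ).2 - ha1 + e) / 2)⟩

variable [IsSimpleGroup G]

theorem sym (hφ : φ ∈ CF 𝐂[t]) (hp : projB (B0 2 𝐂[t]) φ = φ) (ht : ∀ g, φ (t * g) = φ g)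
    (h1 : ∀ μ : Irr (zpowers x), Ev z μ → cfdot 𝐂[t] φ (Th 𝐂[t] μ) = 0) (hy : φ y = 0) : Sym t φ := by
  classical
  have hA : ∀ a ∈ zpowers x, a ∉ zpowers (z * z) → φ a = 0 := fun a ha ha0 => by
    have := h.val_of_const (cfRes_mem_CF h.frH.AL hφ) (c' := (0 : ℤ)) (fun μ hμ => by
      have := h1 μ hμ
      rw [h.frH.cfdot_Th hp, sub_eq_zero] at this
      rw [cfdot_cfRes_left, ← this]) (fun μ hμ => by rw [cfdot_cfRes_left, h.dot_odd ht hμ]) a
    rw [cfRes_apply ha, if_neg ha0] at this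
    simpa using this
  have key : ∀ a ∈ S, Nilp2 (𝐂[t] ⊓ 𝐂[a]) → φ a = 0 → ∀ c ∈ 𝐂[t], ∀ v ∈ 𝐂[t],
      Odd (orderOf v) → v ∈ 𝐂[c * a * c⁻¹] → φ (c * a * c⁻¹ * v) = 0 := fun a ha hn h0 c hc v hv ho e => by
    obtain ⟨k, hk⟩ := h.exists_pow ha
    rw [show c * a * c⁻¹ * v = c * (a * (c⁻¹ * v * c)) * c⁻¹ by group, CF_conj hφ hc, ← hp,
      proj0_mul hk (h.S_le ha) (hn _ (mem_inf.2 ⟨mul_mem (mul_mem (inv_mem hc) hv) hc, ?_⟩)
        (by rwa [H5.orderOf_conj''])), hp, h0]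
    rw [U4.cent1_conj] at e
    exact mem_map_conj_iff.1 e
  have key2 : ∀ a ∈ zpowers x, a ∉ zpowers (z * z) → Nilp2 (𝐂[t] ⊓ 𝐂[a]) := fun a ha ha0 =>
    h.frH.nilp.mono (h.frH.cent_le ((h.mem_iff (h.AS ha)).2 ⟨ha, ha0⟩))
  refine ⟨ht, fun g h2 h3 => ?_⟩
  by_cases hg : g ∈ 𝐂[t]
  swap
  · exact hφ.1 g hg
  obtain ⟨u, hu, v, hv, rfl, huv, hk, ho⟩ := exists_p_part Nat.prime_two g
  have hu := zpowers_le.2 hg hu
  have hv := zpowers_le.2 hg hv
  obtain ⟨c, hc, e⟩ := h.frH.syl.exists_conj_le (isPGroup_zpowers_iff.2 hk) (zpowers_le.2 hu)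
  have e := e (U4.conj_mem_conj_iff.2 (mem_zpowers u))
  have key3 : ∀ a ∈ S, Nilp2 (𝐂[t] ⊓ 𝐂[a]) → φ a = 0 → ∀ b ∈ 𝐂[t], b * a * b⁻¹ = c * u * c⁻¹ →
      φ (u * v) = 0 := fun a ha hn h0 b hb e => by
    have e' : c⁻¹ * b * a * (c⁻¹ * b)⁻¹ = u := by
      rw [show c⁻¹ * b * a * (c⁻¹ * b)⁻¹ = c⁻¹ * (b * a * b⁻¹) * c by group, e]; group
    have := key a ha hn h0 _ (mul_mem (inv_mem hc) hb) v hv (Nat.coprime_two_right.1 ho)
    rw [e'] at this
    exact this (U4.mem_cent1'.2 huv)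
  by_cases hA' : c * u * c⁻¹ ∈ zpowers x
  · refine key3 _ e (key2 _ hA' ?_) (hA _ hA' ?_) 1 (one_mem _) (by simp) <;> intro e' <;>
      rcases h.A0_iff.1 e' with e' | e'
    all_goals first
      | exact h3 (by rwa [not_not.1 (mt U4.conj_ne_one_iff.2 (not_not.2 e')), one_mul])
      | (have e'' : u = t := by
            rw [← U4.conj_eq_of_mem_cent1 hc] at e'; simpa using e'
         exact h2 ⟨U4.mem_cent1.1 hg, by rwa [e'', ← mul_assoc, h.tt, one_mul]⟩)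
  · obtain ⟨b, hb, e' | e'⟩ := h.conj_cases' e hA'
    · exact key3 y h.yS h.cent_y.1 hy b (h.S_le hb) e'
    · obtain ⟨g, hg', e''⟩ := h.conj_xy
      refine key3 z (h.AS h.zA) (key2 z h.zA h.zA0) (hA z h.zA h.zA0) (b * g⁻¹)
        (mul_mem (h.S_le hb) (inv_mem hg')) ?_
      rw [← e', ← e'']; group

end SDh

end Chars

end CfsgLib.SW
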