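import Cfsg.Agent.Lib.SW.SD2

/-!
# The semidihedral case cannot occur
-/

set_option autoImplicit false

namespace CfsgLib.SW

open Subgroup Cfsg CfsgLib.FT CfsgLib.FT.BGN CfsgLib.Blk CfsgLib.GW
open scoped commutatorElement ComplexConjugate

variable {G : Type*} [Group G] [Fintype G]

theorem exists_const {ι : Type*} {p : ι → Prop} {f : ι → ℂ} (h1 : ∀ i, ∃ n : ℤ, f i = n)
    (h2 : ∀ i j, p i → p j → f i = f j) : ∃ c : ℤ, ∀ i, p i → f i = c := by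
  by_cases e : ∃ i, p i
  · obtain ⟨i, hi⟩ := e
    obtain ⟨n, hn⟩ := h1 i
    exact ⟨n, fun j hj => (h2 j i hj hi).trans hn⟩
  · exact ⟨0, fun i hi => absurd ⟨i, hi⟩ e⟩

namespace SDh

variable {S : Subgroup G} {x y z t g : G} (h : SDh S x y z t) {l μ ν ν' : Irr (zpowers x)}
  {α β γ η φ : G → ℂ} {M : ℕ} {ε : Irr (zpowers x) → G → ℂ}
include h

theorem card_A : Nat.card (zpowers x) = (zpowers (z * z)).relIndex (zpowers x) * 2 := by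
  rw [card_eq_relIndex_mul h.A0A, h.zz, card_zpowers_inv h.ot]

theorem four_dvd' : 4 ∣ (zpowers (z * z)).relIndex (zpowers x) := by
  have h1 := h.card_A
  rw [card_eq_relIndex_mul (sq_le x)] at h1
  have h2 : 4 ∣ Nat.card (zpowers (x * x)) := by
    rw [← h.oz, Nat.card_zpowers]; exact orderOf_dvd_of_mem_zpowers h.zx
  rw [relIndex_eq_two_iff_exists_notMem_and.2 ⟨x⁻¹, inv_mem (mem_zpowers x),
    fun e => h.xA (inv_mem_iff.1 e), fun b hb => (mem_sq_or hb).symm⟩] at h1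
  omega

theorem sg_ne (hν : ¬ Ev z ν) : ν ≠ h.sg ν := fun e => by
  have hx := mem_zpowers x
  have h1 : ν (x * x) = -1 := by
    rw [(lin ν).map_mul hx hx, ← h.odd_t hν, ← h.yx, (lin ν).map_mul (h.yconj hx) hx, ← h.sg_apply,
      ← e]
  obtain ⟨n, hn⟩ := mem_powers_iff_mem_zpowers.2 h.zx
  have h2 := h.odd_t hν
  rw [← h.zz, (lin ν).map_mul h.zA h.zA, ← hn] at h2
  simp only at h2
  rw [(lin ν).map_pow (mul_mem hx hx), h1, ← mul_pow] at h2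
  norm_num at h2

theorem odd_dot (d : Dec ⊤ y z l α β γ ε) (e : Eta ⊤ z ε η M) (hν : ¬ Ev z ν) (hν' : ¬ Ev z ν') :
    cfdot (zpowers x) α ν = cfdot (zpowers x) α ν' ∧ (cfdot (zpowers x) β ν =
      cfdot (zpowers x) β ν' ∨ ∀ g, ¬ 4 ∣ orderOf g → (β - γ) g = 0) := by
  classical
  have h0 : ∀ a ∈ zpowers (z * z), ((ν : G → ℂ) - ν') a = 0 := fun a ha => by
    rcases h.A0_iff.1 ha with rfl | rfl
    · rw [Pi.sub_apply, (lin ν).one, (lin ν').one, sub_self]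
    · rw [Pi.sub_apply, h.odd_t hν, h.odd_t hν', sub_self]
  have hz := T0_ZIrr h.AL (sub_mem ν.mem_ZIrr ν'.mem_ZIrr)
  have k0 : ∀ μ, Ev z μ → cfdot (zpowers x) ((ν : G → ℂ) - ν') μ = 0 := fun μ hμ => by
    rw [cfdot_sub_left, Irr.cfdot_eq, Irr.cfdot_eq, if_neg fun e : ν = μ => hν (e ▸ hμ),
      if_neg fun e : ν' = μ => hν' (e ▸ hμ), sub_self]
  have k1 : ∀ φ, projB (B0 2 ⊤) φ = φ → ∀ n : ℤ, cfdot ⊤ (T0 (zpowers x) ⊤ (ν - ν')) φ = n →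
      n = 0 → cfdot (zpowers x) φ ν = cfdot (zpowers x) φ ν' := fun φ hφ n hn e => by
    rw [cfdot_T0' h.AL hφ, e, Int.cast_zero] at hn
    rw [← sub_eq_zero, ← cfdot_sub_right, cfdot_symm_zero hn]
  obtain ⟨g1, g2⟩ := d.of_dot_Th (φ := T0 (zpowers x) ⊤ (ν - ν')) fun μ hμ => by
    rw [Th, h.cfdot_T0_T0 h0, map_sub, cfConjg_cf1 (inv_mem (h.normA h.yS))]
    change cfdot _ _ (_ + (_ - (h.sg μ : G → ℂ))) = _
    simp only [cfdot_add_right, cfdot_sub_right, ← Irr.coe_one, k0 _ h.ev_one, k0 _ hμ,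
      k0 _ (h.ev_sg hμ), sub_self, add_zero]
  have g0 : cfdot ⊤ (T0 (zpowers x) ⊤ (ν - ν')) (cf1 ⊤) = (0 : ℤ) := by
    rw [cfdot_T0' h.AL proj0_cf1, ← cfdot_cfRes_right, cfRes_cf1 h.AL, ← Irr.coe_one,
      k0 _ h.ev_one, Int.cast_zero]
  obtain ⟨b, hb⟩ := ZIrr_cfdot_int hz d.da.mem_ZIrr
  obtain ⟨c, hc⟩ := ZIrr_cfdot_int hz d.db.mem_ZIrr
  obtain ⟨f, hf⟩ := ZIrr_cfdot_int hz d.dc.mem_ZIrr
  obtain ⟨n, hn2, hn⟩ : ∃ n : ℤ, n ≤ 2 ∧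
      cfdot ⊤ (T0 (zpowers x) ⊤ (ν - ν')) (T0 (zpowers x) ⊤ (ν - ν')) = n := by
    rw [h.cfdot_T0_T0 h0, map_sub]
    change ∃ n : ℤ, _ ∧ cfdot _ _ (_ + ((h.sg ν : G → ℂ) - (h.sg ν' : G → ℂ))) = _
    simp only [cfdot_add_right, cfdot_sub_right, cfdot_sub_left, Irr.cfdot_eq, if_true,
      if_neg (h.sg_ne hν), if_neg (h.sg_ne hν')]
    refine ⟨2 - (if ν' = ν then 1 else 0) - (if ν = ν' then 1 else 0) -
      (if ν' = h.sg ν then 1 else 0) - (if ν = h.sg ν' then 1 else 0), ?_, by push_cast; ring⟩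
    split_ifs <;> norm_num
  rw [g0, hb] at g1 g2
  rw [hc, hf] at g1
  have g3 : 0 + b + c + f = 0 := by exact_mod_cast g1
  have g4 : ∀ μ, Gen z μ → cfdot ⊤ (T0 (zpowers x) ⊤ (ν - ν')) (ε μ) = b := by simpa using g2
  have g5 := d.bessel e g0 hb hc hf g4 hn
  have g6 := mul_le_mul_of_nonneg_right (d.M_pos e h.toFr) (sq_nonneg b)
  obtain rfl : b = 0 := by
    by_contra e
    have : 1 ≤ b ^ 2 := by rcases (by omega : 1 ≤ b ∨ b ≤ -1) with e | e <;> nlinarith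
    have : c = 0 := by nlinarith
    have : f = 0 := by nlinarith
    omega
  refine ⟨k1 α d.pa 0 hb rfl, (eq_or_ne c 0).imp (k1 β d.pb c hc) fun e' g hg => ?_⟩
  obtain rfl : f = -c := by omega
  have g7 : 1 ≤ c ^ 2 := by rcases (by omega : 1 ≤ c ∨ c ≤ -1) with e | e <;> nlinarith
  have g8 := d.pyth e g0 hb hc hf g4
  rw [cfnorm_eq_of_cfdot_eq (r := n) (by rw [hn]; simp), show (0 ^ 2 + 0 ^ 2 + c ^ 2 + (-c) ^ 2 +
    M * 0 ^ 2 : ℤ) = n by nlinarith, right_eq_add] at g8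
  have := apply_eq_zero_of_cfnorm g8 (mem_top g)
  rw [Pi.sub_apply, h.T0_four h.oz h0 hg] at this
  simp only [Pi.add_apply, Pi.smul_apply, smul_eq_mul] at this
  push_cast at this
  exact mul_left_cancel₀ (Int.cast_ne_zero.2 e') (by rw [Pi.sub_apply]; linear_combination -this)

variable [IsSimpleGroup G]

theorem charG : ∃ q a b : ℤ, q % 4 = 1 ∧ a % 4 = 1 ∧
    2 * (N0 ⊤ z).relIndex 𝐂[t] * (q - 1) ^ 2 = q * (q + 1) * (𝐂[x * y]).relIndex (N0 ⊤ z) ^ 2 ∧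
    (𝐂[y]).relIndex 𝐂[t] ^ 2 * (q + 1) =
      2 * (N0 ⊤ z).relIndex 𝐂[t] * q * (𝐂[y]).relIndex (N0 ⊤ z) ^ 2 ∧
    (𝐂[t]).index * (a - q) ^ 2 =
      a * (a + 1) * (2 * (N0 ⊤ z).relIndex 𝐂[t]) * (𝐂[y]).relIndex (N0 ⊤ z) ^ 2 ∧
    (a + q ^ 2) * (b + q ^ 2) = q ^ 2 * (q ^ 2 - 1) := by
  obtain ⟨q, M, Φ, hΦ, hM, hq, F1, F2⟩ := h.charH
  obtain ⟨l, α, β, γ, ε, d⟩ := h.exists_dec
  obtain ⟨η, M', e⟩ := d.exists_eta h.toFr
  obtain rfl : M = M' := by have := e.card; omega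
  have M1 := d.M_pos e h.toFr
  have dval : ∀ φ, IsDirr ⊤ φ → projB (B0 2 ⊤) φ = φ → ∃ a b : ℤ,
      cfdot ⊤ (Psi t (Φ 1 0)) φ = a ∧ cfdot ⊤ (Psi t (Φ 0 1)) φ = b ∧
      cfdot ⊤ (Psi t (Φ 1 (-1))) φ = (a - b : ℤ) ∧ φ t = a + q * b := fun φ hφ hp => by
    obtain ⟨f, h1, h2, h3, h4⟩ := exists_sym h.ot hφ.mem_CF hp
    obtain ⟨a, ha⟩ := ZIrr_cfdot_int ((hΦ.sym 1 0).Psi_mem h.ot (hΦ.zirr _ _)) hφ.mem_ZIrr
    obtain ⟨b, hb⟩ := ZIrr_cfdot_int ((hΦ.sym 0 1).Psi_mem h.ot (hΦ.zirr _ _)) hφ.mem_ZIrr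
    refine ⟨a, b, ha, hb, ?_⟩
    rw [(hΦ.sym _ _).cfdot_Psi h.ot hφ.mem_CF h2.tr h3] at ha hb ⊢
    exact ⟨by rw [hΦ.sub, cfdot_sub_left, ha, hb, Int.cast_sub], h4 ▸ hΦ.val f h1 h2 a b ha hb⟩
  have zero : ∀ a b φ, φ ∈ CF ⊤ → (∀ g, ¬ 4 ∣ orderOf g → φ g = 0) →
      cfdot ⊤ (Psi t (Φ a b)) φ = 0 := fun a b φ hφ h0 => by
    rw [(hΦ.sym a b).cfdot_Psi h.ot hφ (ψ := 0) (fun _ => rfl)
      fun g hg => h0 g (not_four_dvd_of_mem_secT h.ot hg), cfdot_zero_right]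
  have bes : ∀ a b p u v : ℤ, cfdot ⊤ (Psi t (Φ a b)) α = p → cfdot ⊤ (Psi t (Φ a b)) β = u →
      cfdot ⊤ (Psi t (Φ a b)) γ = v → a + p + u + v = 0 ∧ a ^ 2 + p ^ 2 + u ^ 2 + v ^ 2 +
        M * (a + p) ^ 2 ≤ 2 * (2 * a ^ 2 + 2 * b ^ 2 + M * (a + b) ^ 2) := fun a b p u v h1 h2 h3 => by
    have h0 : cfdot ⊤ (Psi t (Φ a b)) (cf1 ⊤) = a := by
      rw [(hΦ.sym a b).cfdot_Psi h.ot cf1_mem_CF Q8Hyp.cf1_tr fun g hg => by
        rw [cf1_apply (mem_top g), cf1_apply (secT_subset hg)], hΦ.one]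
    obtain ⟨g1, g2⟩ := d.of_dot_Th fun μ hμ => zero a b _ T0_mem_CF fun g => h.Th_four h.toFr hμ
    rw [h0, h1] at g1 g2
    rw [h2, h3] at g1
    exact ⟨by exact_mod_cast g1, d.bessel e h0 h1 h2 h3 (by simpa using g2)
      (by rw [(hΦ.sym a b).Psi_Psi h.ot (hΦ.zirr a b), hΦ.norm]; push_cast; ring)⟩
  obtain ⟨p, r, a1, a2, a3, a4⟩ := dval α d.da d.pa
  obtain ⟨b1, b2, c1, c2, c3, c4⟩ := dval β d.db d.pb
  obtain ⟨g1, g2, d1, d2, d3, d4⟩ := dval γ d.dc d.swap.pb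
  obtain ⟨s1, t1⟩ := bes _ _ _ _ _ a1 c1 d1
  obtain ⟨s2, t2⟩ := bes _ _ _ _ _ a2 c2 d2
  obtain ⟨-, t3⟩ := bes _ _ _ _ _ a3 c3 d3
  have hint : ∀ φ, IsDirr ⊤ φ → ∀ ν : Irr (zpowers x), ∃ n : ℤ, cfdot (zpowers x) φ ν = n :=
    fun φ hφ ν => cfdot_cfRes_left (φ := φ) ▸
      ZIrr_cfdot_int (ZIrr_cfRes le_top hφ.mem_ZIrr) ν.mem_ZIrr
  obtain ⟨ca, hca⟩ := exists_const (hint α d.da) fun _ _ h1 h2 => (h.odd_dot d e h1 h2).1
  obtain ⟨-, ka, va, ea⟩ := h.val d.da.mem_ZIrr d.pa h.ev_one (fun _ => d.dot_a) hca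
  have va := va t h.tA0 h.t1
  rw [← hM, a4] at va
  obtain ⟨j, hj⟩ := hq
  obtain ⟨rfl, rfl⟩ := sd_bessel_a M1 (by linarith) (by linarith) s1 s2 ⟨ka - j * r, by
    have : p + q * r = 1 + ka * (2 * M + 2) := by exact_mod_cast va
    linear_combination this - r * hj⟩
  obtain ⟨cb, hcb⟩ := exists_const (hint β d.db) fun _ _ h1 h2 =>
    (h.odd_dot d e h1 h2).2.resolve_right fun h3 => by
      have := zero 1 0 _ (sub_mem d.db.mem_CF d.dc.mem_CF) h3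
      rw [cfdot_sub_right, c1, d1, sub_eq_zero, Int.cast_inj] at this
      omega
  obtain ⟨-, kb, vb, -⟩ := h.val d.db.mem_ZIrr d.pb d.ev (fun _ => d.dot_b) hcb
  have vb := vb t h.tA0 h.t1
  rw [← hM, c4] at vb
  have key := sd_bessel_b M1 (by linarith) (by linarith) (c1 := g1) (c2 := g2)
    (by nlinarith) s1 s2 ⟨kb - j * b2, by
      have : b1 + q * b2 = -1 + kb * (2 * M + 2) := by exact_mod_cast vb
      linear_combination this - b2 * hj⟩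
  obtain ⟨n, hn⟩ := h.four_dvd'
  obtain ⟨μ, hμ⟩ := h.exists_gen
  have hu : Refl ⊤ z t := ⟨mem_top t, h.t1, h.tt ▸ one_mem _, by simp [h.tt], by simp [h.tt]⟩
  have f1 := d.formula_gen h.toFr hu hμ
  have e1 := h.vals_ε h.toFr d (mem_top 1) (by simp)
  have n1 := d.da.one_ne_zero
  have n2 := (d.de μ hμ).one_ne_zero
  have n3 : ((𝐂[t]).index : ℂ) ≠ 0 := Nat.cast_ne_zero.2 index_ne_zero_of_finite
  have fin : ∀ β γ : G → ℂ, Dec ⊤ y z l α β γ ε → β t = -q → γ t = -1 → 1 + α 1 + β 1 + γ 1 = 0 →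
      ∃ b : ℤ, (α 1 + q ^ 2) * (b + q ^ 2) = q ^ 2 * (q ^ 2 - 1) := fun β γ d h1 h2 h3 => by
    have f2 := d.formula_l h.toFr hu
    obtain ⟨b, hb⟩ := ZIrr_one_int d.db.mem_ZIrr
    have n4 := d.db.one_ne_zero
    have n5 := d.dc.one_ne_zero
    have n6 : α 1 + β 1 ≠ 0 := fun e => by
      obtain ⟨N, hN, h4, h5⟩ := exists_normal_of_dirr d.dc d.c1 (t := t) (by linear_combination h2 - h3 + e)
      exact h.t1 (mem_bot.1 ((hN.eq_bot_or_eq_top.resolve_right h4) ▸ h5))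
    rw [h.kap_eq _ h.tt, relIndex_top_right, a4, h1, h2,
      show γ 1 = -(1 + α 1 + β 1) by linear_combination h3] at f2
    rw [show γ 1 = -(1 + α 1 + β 1) by linear_combination h3, neg_ne_zero] at n5
    refine ⟨b, mul_left_cancel₀ n6 ?_⟩
    push_cast at f2
    rw [mul_zero, mul_zero, mul_eq_zero, or_iff_right (pow_ne_zero 2 n3)] at f2
    field_simp at f2
    rw [← hb]
    linear_combination f2
  obtain ⟨b, hb⟩ : ∃ b : ℤ, (α 1 + q ^ 2) * (b + q ^ 2) = q ^ 2 * (q ^ 2 - 1) := by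
    rcases key with ⟨rfl, rfl, rfl, rfl⟩ | ⟨rfl, rfl, rfl, rfl⟩
    · exact fin β γ d (by simpa using c4) (by simpa using d4) e1.1
    · exact fin γ β d.swap (by simpa using d4) (by simpa using c4) (by linear_combination e1.1)
  rw [h.card_A, hn] at ea
  have ea' : α 1 = (1 + 4 * (ka * n + 2 * ca * n) : ℤ) := by push_cast at ea ⊢; linear_combination ea
  rw [(h.vals_ε h.toFr d (mem_top t) (by rw [h.ot]; decide)).2 μ hμ, e1.2 μ hμ, a4,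
    h.kap_eq _ h.tt, kap, if_pos (by simpa using h.conj_t h.oy), relIndex_top_right,
    relIndex_top_right, ← relIndex_mul_index h.N0_le] at f1
  rw [e1.2 μ hμ] at n2
  rw [ea'] at f1 n1 n2 hb
  have hq4 : q % 4 = 1 := by
    have : (2 * M + 2 : ℤ) = 4 * n := by exact_mod_cast hM.trans hn
    rw [this, mul_assoc] at hj
    omega
  refine ⟨q, 1 + 4 * (ka * n + 2 * ca * n), b, hq4, by omega, F1, F2, ?_, by exact_mod_cast hb⟩
  generalize 1 + 4 * (ka * n + 2 * ca * n) = a at f1 n1 n2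
  refine Int.cast_injective (α := ℂ) ?_
  push_cast at f1 ⊢
  field_simp at f1
  linear_combination f1

end SDh

end CfsgLib.SW
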