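import Cfsg.Agent.Lib.SW.SD3

/-!
# The semidihedral case: the final contradiction
-/

set_option autoImplicit false

namespace CfsgLib.SW

open Subgroup Cfsg CfsgLib.FT CfsgLib.FT.BGN CfsgLib.Blk CfsgLib.GW
open scoped commutatorElement

variable {G : Type*} [Group G] [Finite G]

theorem isCoprime_of_nat {i : ℕ} {m : ℤ} (h : ∀ r : ℕ, r.Prime → r ∣ i → ¬ (r : ℤ) ∣ m) :
    IsCoprime (i : ℤ) m :=
  Int.isCoprime_iff_nat_coprime.2 (Nat.coprime_of_dvd fun r hr h1 h2 =>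
    h r hr (by simpa using h1) (Int.natCast_dvd.2 h2))

namespace SDh

variable {S : Subgroup G} {x y z t ρ s : G} (h : SDh S x y z t) {r : ℕ}
include h

theorem dvd_W (hs : s ∈ S) (hsA : s ∉ zpowers x) (hr : r.Prime) (h2 : r ≠ 2)
    (hd : r ∣ (𝐂[s]).relIndex (N0 ⊤ z)) : r ∣ (𝐂[s]).relIndex (Od (N0 ⊤ z)) := by
  obtain ⟨k, hk⟩ := IsPGroup.iff_card.1 h.pA
  have := hd.mul_left 2
  rw [h.relIndex_cent hs hsA, hk] at this
  exact (((Nat.coprime_primes hr Nat.prime_two).2 h2).pow_right k).dvd_of_dvd_mul_right this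

variable [IsSimpleGroup G]

theorem not_dvd_nz (hr : r.Prime) (h2 : r ≠ 2) (hd : r ∣ (𝐂[x * y]).relIndex (N0 ⊤ z)) :
    ¬ r ∣ (N0 ⊤ z).relIndex 𝐂[t] := by
  have := Fact.mk hr
  have h1 := h.dvd_W h.xyS h.xyA hr h2 hd
  obtain ⟨P, hP⟩ := IsSylowIn.exists_in (p := r) (Od (N0 ⊤ z))
  obtain ⟨ρ, hρ, hρo⟩ := exists_orderOf hr (H := P) (by
    rw [hP.card_eq_ordProj]
    exact dvd_pow_self r (hr.factorization_pos_of_dvd Nat.card_pos.ne'
      (h1.trans (relIndex_dvd_card _ _))).ne')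
  have h3 : x * y ∉ S ⊓ 𝐂(zpowers ρ) := fun e => by
    obtain ⟨k, hk⟩ := orderOf_eq_pow_of_mem_isPGroup h.syl.isPGroup h.xyS
    have := le_cent_of_cyclic_of_fixed hP.isPGroup (U4.isCyclic_of_le' h.cycW hP.le)
      (zpowers_le.2 (h.norm_X hP.le (h.SN h.xyS))) (by
        rw [Nat.card_zpowers, hk]
        exact ((Nat.coprime_primes Nat.prime_two hr).2 h2.symm).pow_left k)
      (U4.ne_bot_of_mem (x := ρ) ⟨hρ, le_centralizer_iff.1 (zpowers_le.2 e.2) (mem_zpowers ρ)⟩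
        fun e => by rw [e, orderOf_one] at hρo; exact hr.one_lt.ne hρo)
    rw [U4.cent_zpowers] at this
    exact hP.not_dvd (h1.trans (relIndex_dvd_of_le_left _ this))
  have hX := zpowers_le.2 (hP.le hρ)
  have h4 := h.norm_T inf_le_left (le_inf ((sq_le x).trans h.AS)
    (h.sqW.trans (centralizer_le hX))) h3
  have h5 := h.sylT hX h4
  rw [U4.cent_zpowers] at h4 h5
  exact fun e => h.oc.not_dvd hr h2 Nat.prime_two h2.symm hρo (h.N0_le (Od_le _ (hP.le hρ)))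
    (h5.mono (le_inf (inf_le_left.trans h.S_le) inf_le_right) inf_le_right)
    (e.trans (relIndex_dvd_of_le_left _ (inf_le_right.trans h4)))

theorem ne_two (hr : r ∣ (𝐂[t]).index) : r ≠ 2 := fun e => by
  rw [e] at hr
  exact absurd (h.odd_index.of_dvd_nat (hr.trans (index_dvd_of_le h.S_le))) (by decide)

theorem not_dvd_W (hr : r.Prime) (hd : r ∣ (𝐂[t]).index) : ¬ r ∣ Nat.card (Od (N0 ⊤ z)) :=
  fun e => by
    obtain ⟨ρ, hρ, hρo⟩ := exists_orderOf hr e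
    obtain ⟨-, -, b, h4, -, h5⟩ := h.lv.near_hall hr (h.ne_two hd) hρo h.ot
      (h.N0_le (Od_le _ hρ)) hd
    obtain ⟨g, -, hg⟩ := h5.exists_conj_le (h.pA.to_le (zpowers_le.2 h.zA))
      (zpowers_le.2 (U4.mem_cent1_comm.1 (h.W_cent hρ)))
    have := h4.mul_self_of_mem (hg (U4.conj_mem_conj_iff.2 (mem_zpowers z)))
    rw [_root_.conj_mul, h.zz] at this
    exact U4.conj_ne_one_iff.2 h.t1 this

theorem card_CV {b : G} (h4 : Four t b) : Nat.card 𝐂(V t b) = Nat.card 𝐂(V t y) := by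
  have := Fintype.ofFinite G
  obtain ⟨g, hg, e⟩ := h.frH.syl.exists_conj_le (isPGroup_zpowers_inv h4.os) (zpowers_le.2 h4.s_cent)
  have e := e (U4.conj_mem_conj_iff.2 (mem_zpowers b))
  have h5 := h4.conj g
  rw [U4.conj_eq_of_mem_cent1 hg] at h5
  obtain ⟨c, hc, e' | e'⟩ := h.conj_cases' e fun e =>
    h5.ne ((h.uniq e h5.ss).resolve_left h5.s1).symm
  · rw [← card_map_conj g, ← centralizer_map_conj, ← V_conj, ← e', ← card_map_conj c (𝐂(V t y)),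
      ← centralizer_map_conj, ← V_conj, U4.conj_eq_of_mem_cent1 hg,
      U4.conj_eq_of_mem_cent1 (h.S_le hc)]
  · exact absurd (by rw [← h.xy_sq, ← _root_.conj_mul, e', h5.ss]) (U4.conj_ne_one_iff (g := c).2 h.t1)

theorem W_eq_bot (h1 : Od (N0 ⊤ z) ≤ 𝐂[y]) (h2 : 3 ∣ (𝐂[t]).index)
    (h3 : 3 ∣ Nat.card 𝐂(V t y)) : Od (N0 ⊤ z) = ⊥ := by
  by_contra hW
  have := Fact.mk Nat.prime_three
  have h4 := h.four
  obtain ⟨r, hr, hd⟩ := U4.exists_prime_dvd_card hW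
  obtain ⟨ρ, hρ, hρo⟩ := exists_orderOf hr hd
  have hρV : ρ ∈ 𝐂(V t y) := cent_V t y ▸ ⟨h.N0_le (Od_le _ hρ), h1 hρ⟩
  obtain ⟨u, hu, hu', ⟨i, hi⟩, e, -⟩ := h.lv.exists_three h4 hr (fun e => by
    rw [e] at hd; exact absurd ((odd_Od _).of_dvd_nat hd) (by decide)) hρo hρV
  obtain ⟨σ, hσ, hσo⟩ := exists_orderOf Nat.prime_three (H := zpowers u) (by
    rw [Nat.card_zpowers, hi]
    refine dvd_pow_self 3 fun e' => h4.s1 ?_
    rw [e', pow_zero, orderOf_eq_one_iff] at hi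
    simpa [hi] using e)
  have p3 : ∀ g : G, orderOf g = 3 → IsPGroup 3 (zpowers g) := fun g hg =>
    isPGroup_zpowers_iff.2 ⟨1, hg⟩
  have hσV : σ ∈ 𝐂(V t y) := by
    obtain ⟨P, h5, hP⟩ := IsSylowIn.exists_ge (p3 σ hσo) (zpowers_le.2 (zpowers_le.2 hu' hσ))
    obtain ⟨τ, hτ, hτo⟩ := exists_orderOf Nat.prime_three h3
    obtain ⟨n, hn, h6⟩ := hP.exists_conj_le (p3 τ hτo) (zpowers_le.2 (U4.cent_le_norm _ hτ))
    rw [← U4.zpowers_conj] at h6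
    refine zpowers_le.2 (conj_mem_of_mem_normalizer
      (H5.normalizer_le_normalizer_centralizer' _ hn) hτ) ?_
    rw [U4.eq_of_le_cyclic (h.oc 3 this.out (by norm_num) P hP.isPGroup) h6 h5
      (by rw [Nat.card_zpowers, Nat.card_zpowers, U4.orderOf_conj, hσo, hτo])]
    exact mem_zpowers σ
  obtain ⟨-, -, b, h5, -, h6⟩ := h.lv.near_hall this.out (by norm_num) hσo h.ot
    (U4.cent_le_cent1 (t_mem_V t y) hσV) h2
  have hN := h.lv.norm_le_norm_V h4 hσo (h6.of_card_le h4.isPGroup_V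
    (U4.cent_zpowers σ ▸ le_centralizer_iff.1 (zpowers_le.2 hσV)) (by rw [h4.card_V, h5.card_V]))
  obtain ⟨R, h7, hR⟩ := IsSylowIn.exists_ge (p3 σ hσo)
    (zpowers_le.2 (U4.cent_zpowers ρ ▸ zpowers_le.2 hu hσ : σ ∈ 𝐂(zpowers ρ)))
  have hxy := h.norm_X (zpowers_le.2 hρ) (h.SN h.xyS)
  have hnc := H5.normalizer_le_normalizer_centralizer' (zpowers ρ)
  obtain ⟨k, hk, h8⟩ := hR.frattini_elem (hnc hxy)
  have h9 := hN (U4.norm_le_norm_of_le_cyclic (h.oc 3 this.out (by norm_num) R hR.isPGroup) h7 h8)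
  have hsq : zpowers (x * x) ≤ 𝐂(zpowers ρ) := h.sqW.trans (centralizer_le (zpowers_le.2 hρ))
  have hVρ : V t y ≤ 𝐂(zpowers ρ) := le_centralizer_iff.1 (zpowers_le.2 hρV)
  have hz : z ∈ 𝐍(V t y) := mem_normalizer_of_map_conj_eq (by
    rw [← V_conj, U4.conj_eq_of_mem_cent1 (h.S_le (h.AS h.zA)),
      show z * y * z⁻¹ = z * (y * z * y⁻¹)⁻¹ * y by group, h.yz, inv_inv, h.zz, h4.V_mul])
  have g1 : 2 ∣ (V t y).relIndex (𝐍(V t y) ⊓ 𝐂(zpowers ρ)) := by_contra fun e => h.t1 (by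
    rw [← h.zz]
    exact h4.mul_self_of_mem (mem_of_norm_sylow (k := 2) ⟨le_inf le_normalizer hVρ, h4.isPGroup_V, e⟩
      ⟨hz, hsq h.zx⟩ hz h.oz))
  have g2 : 2 ∣ (𝐂(zpowers ρ)).relIndex (𝐍(V t y) ⊓ 𝐍(zpowers ρ)) := by_contra fun e => by
    have := normal_subgroupOf_of_le_normalizer ((inf_le_right (a := 𝐍(V t y))).trans hnc)
    have g3 : (k * (x * y)) ^ _ ∈ 𝐂(zpowers ρ) := pow_index_mem
      (H := (𝐂(zpowers ρ)).subgroupOf (𝐍(V t y) ⊓ 𝐍(zpowers ρ)))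
      ⟨_, h9, mul_mem (U4.cent_le_norm _ hk) hxy⟩
    have g4 : (k * (x * y)) ^ 2 ∈ 𝐂(zpowers ρ) := by
      rw [sq, show k * (x * y) * (k * (x * y)) = k * (x * y * k * (x * y)⁻¹) * (x * y * (x * y)) by
        group, h.xy_sq]
      exact mul_mem (mul_mem hk (conj_mem_of_mem_normalizer (hnc hxy) hk)) (hsq h.tx)
    obtain ⟨j, hj⟩ := Nat.not_even_iff_odd.1 (mt even_iff_two_dvd.1 e)
    rw [show ((𝐂(zpowers ρ)).subgroupOf _).index = _ from hj, pow_succ, pow_mul,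
      mul_mem_cancel_left (pow_mem g4 j), mul_mem_cancel_left hk,
      mul_mem_cancel_right (hVρ (s_mem_V t y)), U4.cent_zpowers] at g3
    rw [h.eq_one hρ h.yS h.yA (h1 hρ) (U4.mem_cent1_comm.1 g3), orderOf_one] at hρo
    exact hr.one_lt.ne hρo
  have g5 : 𝐍(V t y) ⊓ 𝐂(zpowers ρ) ≤ 𝐍(V t y) ⊓ 𝐍(zpowers ρ) :=
    inf_le_inf_left _ (U4.cent_le_norm _)
  rw [← inf_relIndex_right, show 𝐂(zpowers ρ) ⊓ (𝐍(V t y) ⊓ 𝐍(zpowers ρ)) =
    𝐍(V t y) ⊓ 𝐂(zpowers ρ) from le_antisymm (le_inf (inf_le_right.trans inf_le_left) inf_le_left)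
      (le_inf inf_le_right g5)] at g2
  have g6 := (mul_dvd_mul g1 g2).mul_right ((𝐍(V t y) ⊓ 𝐍(zpowers ρ)).relIndex 𝐍(V t y))
  rw [relIndex_mul_relIndex _ _ _ (le_inf le_normalizer hVρ) g5,
    relIndex_mul_relIndex _ _ _ ((le_inf le_normalizer hVρ).trans g5) inf_le_left,
    ← relIndex_mul_relIndex _ _ _ h4.V_le_cent (U4.cent_le_norm _), h.lv.relIndex_six h4] at g6
  have := (h.lv.syl t y h4).not_dvd
  omega

theorem false : False := by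
  have := Fintype.ofFinite G
  obtain ⟨q, a, b, hq, ha, F1, F2, E1, E2⟩ := h.charG
  have p1 : 0 < (𝐂[x * y]).relIndex (N0 ⊤ z) := Nat.pos_of_ne_zero index_ne_zero_of_finite
  have p2 : 0 < (𝐂[y]).relIndex (N0 ⊤ z) := Nat.pos_of_ne_zero index_ne_zero_of_finite
  have o1 : ¬ 2 ∣ (N0 ⊤ z).relIndex 𝐂[t] := fun e =>
    h.frH.syl.not_dvd (e.trans (relIndex_dvd_of_le_left _ h.SN))
  have q0 : q ≠ 0 := by omega
  have q1 : q + 1 ≠ 0 := by omega
  obtain ⟨k, hk, hn⟩ := sd_nz hq (by rintro rfl; nlinarith) F1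
  obtain ⟨j, hj⟩ : 2 ∣ q + 1 := by omega
  have hn' : ((N0 ⊤ z).relIndex 𝐂[t] : ℤ) = q * j * k ^ 2 :=
    mul_left_cancel₀ two_ne_zero (by rw [hn, hj]; ring)
  have k1 : k ^ 2 = 1 := by
    rw [← Int.natAbs_sq, (Nat.eq_one_iff_not_exists_prime_dvd (n := k.natAbs)).2 fun r hr hd => ?_]
    · simp
    have h1 : r ∣ (N0 ⊤ z).relIndex 𝐂[t] := Int.natCast_dvd_natCast.1
      (hn' ▸ ((Int.natCast_dvd.2 hd).trans (dvd_pow_self k two_ne_zero)).mul_left _)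
    exact h.not_dvd_nz hr (fun e => o1 (e ▸ h1))
      (Int.natCast_dvd_natCast.1 (hk ▸ (Int.natCast_dvd.2 hd).mul_left _)) h1
  rw [k1, mul_one] at hn hn'
  have c1 := card_eq_relIndex_mul h.N0_le
  have c2 := card_eq_relIndex_mul (inf_le_left : 𝐂[t] ⊓ 𝐂[y] ≤ _)
  have c3 := card_eq_relIndex_mul (inf_le_left : N0 ⊤ z ⊓ 𝐂[y] ≤ _)
  rw [inf_relIndex_left, ← cent_V] at c2
  rw [inf_relIndex_left, ← U4.IsComplIn.card_mul (U4.IsComplIn.cent1 h.compl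
    (h.SN.trans (le_norm_Od _)) h.yS), h.card_cent h.yS h.yA] at c3
  have c4 : (Nat.card 𝐂(V t y) : ℤ) ^ 2 = (2 * (q + 1) * Nat.card ↥(Od (N0 ⊤ z) ⊓ 𝐂[y])) ^ 2 := by
    rw [c3, c2] at c1
    zify at c1
    rw [hn] at F2
    have h1 : ((𝐂[y]).relIndex 𝐂[t] : ℤ) ^ 2 = (q * (𝐂[y]).relIndex (N0 ⊤ z)) ^ 2 :=
      mul_right_cancel₀ q1 (by linear_combination F2)
    refine mul_left_cancel₀ (show (q * (𝐂[y]).relIndex (N0 ⊤ z)) ^ 2 ≠ 0 by positivity) ?_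
    nth_rewrite 1 [← h1]
    rw [← mul_pow, c1, hn', hj]
    ring
  have key : ∀ r : ℕ, r.Prime → r ∣ (𝐂[t]).index → (r : ℤ) ∣ q * j →
      r = 3 ∧ ¬ 9 ∣ (𝐂[t]).index ∧ 3 ∣ q + 1 := fun r hr h1 h2 => by
    obtain ⟨ρ, hρ, hρo⟩ := exists_orderOf hr (H := 𝐂[t])
      (c1 ▸ (Int.natCast_dvd_natCast.1 (hn' ▸ h2)).mul_right _)
    obtain ⟨rfl, h3, v, h4, h5, -⟩ := h.lv.near_hall hr (h.ne_two h1) hρo h.ot hρ h1
    refine ⟨rfl, h3, ?_⟩
    have h6 := hρo ▸ Subgroup.orderOf_dvd_natCard _ h5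
    rw [h.card_CV h4, ← Int.natCast_dvd_natCast] at h6
    have h7 := Int.prime_three.dvd_of_dvd_pow (c4 ▸ h6.trans (dvd_pow_self _ two_ne_zero))
    rcases Int.prime_three.dvd_mul.1 h7 with e | e
    · omega
    · exact absurd ((Int.natCast_dvd_natCast.1 e).trans (card_dvd_of_le inf_le_left))
        (h.not_dvd_W hr h1)
  have key2 : ∀ s ∈ S, s ∉ zpowers x → ∀ r : ℕ, r.Prime → r ∣ (𝐂[t]).index →
      ¬ (r : ℤ) ∣ (𝐂[s]).relIndex (N0 ⊤ z) := fun s hs hsA r hr h1 h2 => h.not_dvd_W hr h1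
    ((h.dvd_W hs hsA hr (h.ne_two h1) (Int.natCast_dvd_natCast.1 h2)).trans (relIndex_dvd_card _ _))
  have r1 := h.relIndex_cent h.yS h.yA
  have r2 := h.relIndex_cent h.xyS h.xyA
  have r3 := h.card_A
  obtain ⟨n, hn4⟩ := h.four_dvd'
  rw [hn4] at r3
  rw [hn] at E1
  obtain ⟨m4, q3, hi⟩ := sd_arith hq ha (by exact_mod_cast p2) (by
      rw [r3] at r1
      exact Int.natCast_dvd_natCast.2 ⟨(𝐂[y]).relIndex (Od (N0 ⊤ z)) * n, by linarith⟩)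
    (isCoprime_of_nat fun r hr h1 h2 => by
      obtain ⟨rfl, -, h3⟩ := key r hr h1 (h2.mul_right _)
      omega)
    (isCoprime_of_nat fun r hr h1 h2 => key2 _ h.xyS h.xyA r hr h1 (hk ▸ h2.mul_right _))
    (isCoprime_of_nat (key2 _ h.yS h.yA)) (fun f h1 h2 => by
      have h3 : ∀ r : ℕ, r.Prime → r ∣ f.natAbs → r = 3 ∧ ¬ 9 ∣ (𝐂[t]).index := fun r hr hd => by
        have h4 := Int.natCast_dvd_natCast.1 ((Int.natCast_dvd.2 hd).trans h1)
        have h5 := (Int.natCast_dvd.2 hd).trans h2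
        rw [hj] at h5
        refine (key r hr h4 (Dvd.dvd.mul_left ?_ q)).imp_right And.left
        exact (Nat.isCoprime_iff_coprime.2 ((Nat.coprime_primes hr Nat.prime_two).2
          (h.ne_two h4))).dvd_of_dvd_mul_left h5
      have h4 := Nat.eq_prime_pow_of_unique_prime_dvd (p := 3)
        (Int.natAbs_ne_zero.2 fun e : f = 0 => q1 (by simpa [e] using h2)) fun hr hd => (h3 _ hr hd).1
      generalize f.natAbs.primeFactorsList.length = c at h4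
      rw [← Int.natAbs_dvd_natAbs, h4]
      rcases c with _ | _ | c
      · simp
      · simp
      · refine absurd (Dvd.dvd.trans ⟨3 ^ c, by rw [h4]; ring⟩ (Int.natAbs_dvd_natAbs.2 h1))
          (h3 3 Nat.prime_three ⟨3 ^ (c + 1), by rw [h4]; ring⟩).2) E1 E2
  have m4' : (𝐂[y]).relIndex (N0 ⊤ z) = 4 := by exact_mod_cast m4
  rw [m4', r3] at r1
  have r4 : (𝐂[y]).relIndex (Od (N0 ⊤ z)) * n = 1 := by linarith
  obtain rfl := Nat.eq_one_of_mul_eq_one_left r4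
  have i3 : 3 ∣ (𝐂[t]).index := Int.natCast_dvd_natCast.1
    (hi ▸ Dvd.dvd.mul_right (by omega : (3 : ℤ) ∣ 4 * q + 1) _)
  have hW := h.W_eq_bot (relIndex_eq_one.1 (by omega)) i3 (Int.natCast_dvd_natCast.1
    (Int.prime_three.dvd_of_dvd_pow (c4 ▸ ((q3.mul_left 2).mul_right _).trans
      (dvd_pow_self _ two_ne_zero))))
  rw [hW, relIndex_bot_right, r3] at r2
  rw [hW, bot_inf_eq, card_bot] at c3 c4
  obtain rfl : q = 5 := by
    rcases sq_eq_one_iff.1 k1 with rfl | rfl <;> omega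
  have c5 : Nat.card 𝐂(V t y) = 12 := by
    refine Nat.pow_left_injective two_ne_zero ?_
    exact_mod_cast c4
  rw [c3, show (N0 ⊤ z).relIndex 𝐂[t] = 15 by omega, m4'] at c1
  obtain ⟨ρ, hρ, hρo⟩ := exists_orderOf Nat.prime_three (H := 𝐂[t]) (by omega)
  obtain ⟨-, -, v, h4, -, h6⟩ := h.lv.near_hall Nat.prime_three (by norm_num) hρo h.ot hρ i3
  have g1 := h.lv.index_norm_V h4 hρo h6
  have g2 := index_mul_card 𝐂(V t v)
  rw [← index_mul_card 𝐂[t], h.card_CV h4, c5, c1, ← relIndex_mul_index (U4.cent_le_norm _),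
    h.lv.relIndex_six h4] at g2
  omega

end SDh

end CfsgLib.SW
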