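import Cfsg.Agent.Lib.SW.Dih
import Cfsg.Agent.Lib.SW.SD4
import Cfsg.Agent.Lib.GW.Four
import Cfsg.Agent.Lib.BSW.MaxCl
import Cfsg.Agent.Lib.BSW.PSLCent
import Cfsg.Agent.Lib.TwoGroupMaxClass
import Cfsg.Agent.Lib.J1.A5

/-!
# Simple groups with cyclic Sylow subgroups for odd primes
-/

set_option autoImplicit false

namespace CfsgLib.SW

open Subgroup Cfsg CfsgLib.FT CfsgLib.FT.BGN CfsgLib.Blk CfsgLib.GW
open scoped commutatorElement MatrixGroups

variable {G : Type*} [Group G]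

/-- All `2`-subgroups have a cyclic subgroup of index at most two. -/
def C2 (G : Type*) [Group G] : Prop :=
  ∀ P : Subgroup G, IsPGroup 2 P → ∃ x ∈ P, (zpowers x).relIndex P ∣ 2

theorem cov_of_relIndex {S : Subgroup G} {x y : G} (h : (zpowers x).relIndex S ∣ 2) (hy : y ∈ S)
    (hyA : y ∉ zpowers x) : ∀ s ∈ S, s ∈ zpowers x ∨ s * y⁻¹ ∈ zpowers x := fun s hs => by
  rcases (Nat.dvd_prime Nat.prime_two).1 h with e | e
  · exact Or.inl (relIndex_eq_one.1 e hs)
  · refine or_iff_not_imp_left.2 fun h1 => ?_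
    exact (mul_mem_iff_of_index_two e (a := ⟨s, hs⟩) (b := ⟨y⁻¹, inv_mem hy⟩)).2
      (iff_of_false h1 fun e => hyA (inv_mem_iff.1 e))

variable [Finite G]

theorem not_mod (hG : commutator G = ⊤) {S : Subgroup G} (hS : IsSylowIn 2 S ⊤) {u e : G}
    (hu : u ∈ S) (cov : ∀ s ∈ S, s ∈ zpowers u ∨ s * e⁻¹ ∈ zpowers u) (he : e * e = 1)
    (hn : e * u * e⁻¹ ∈ zpowers u) (hc : Commute e (u * u)) {k : ℕ} (ho : orderOf u = 2 ^ (k + 2))
    (hk : k = 0 → e * u = u * e) : False := by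
  have hm := mem_zpowers u
  have hei : e⁻¹ = e := inv_eq_of_mul_eq_one_right he
  have h0 : u ^ 2 ^ (k + 1) ≠ 1 := fun e => by
    have := (Nat.pow_dvd_pow_iff_le_right one_lt_two).1 (ho ▸ orderOf_dvd_of_pow_eq_one e)
    omega
  have hb : ∀ b ∈ zpowers (u * u), Commute e b ∧ Commute u b ∧ b ^ 2 ^ (k + 1) = 1 := by
    rintro _ ⟨i, rfl⟩
    refine ⟨hc.zpow_right i, ((Commute.refl u).mul_right (Commute.refl u)).zpow_right i, ?_⟩
    simp only
    rw [← zpow_natCast, ← zpow_mul, mul_comm i, zpow_mul, zpow_natCast, ← sq, ← pow_mul,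
      ← pow_succ', ← ho, pow_orderOf_eq_one, one_zpow]
  obtain ⟨c, hc1, hc2⟩ : ∃ c ∈ zpowers u, e * u * e⁻¹ = c * u :=
    ⟨_, mul_mem hn (inv_mem hm), by simp⟩
  have hcc : c * c = 1 := by
    have := _root_.conj_mul (a := u) (b := e) (c := u)
    rw [hc2, hc.eq, mul_inv_cancel_right, mul_assoc, ← mul_assoc u, comm_A hm hc1, ← mul_assoc,
      ← mul_assoc, mul_left_inj, mul_eq_right] at this
    exact this
  have hcu : c ∈ zpowers (u * u) := (mem_sq_or hc1).resolve_right fun h1 => h0 (by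
    have h2 := (hb _ (inv_mem h1)).2.2
    rwa [mul_inv_rev, inv_inv, (Commute.mul_pow (comm_A hm (inv_mem hc1))), inv_pow, pow_succ' 2,
      pow_mul c, sq, hcc, one_pow, inv_one, mul_one, ← pow_succ'] at h2)
  have hD : ∀ b, b ∈ zpowers (u * u) ⊔ zpowers e →
      b ∈ zpowers (u * u) ∨ b * e⁻¹ ∈ zpowers (u * u) := fun b hb' => by
    obtain ⟨n, hn, a, ⟨i, rfl⟩, rfl⟩ := (mem_sup_iff_of_le_normalizer' (zpowers_le.2
      (U4.cent_le_norm _ (U4.mem_cent.2 fun b hb' => (hb b hb').1.symm.eq)))).1 hb'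
    obtain ⟨j, rfl | rfl⟩ := Int.even_or_odd' i <;>
      simp only [zpow_add, zpow_mul, zpow_two, he, one_zpow] <;> simp [hn]
  have h1 : ∀ d ∈ zpowers (u * u) ⊔ zpowers e, d ^ 2 ^ (k + 1) = 1 := fun d hd => by
    rcases hD d hd with h | h
    · exact (hb d h).2.2
    · rw [show d = d * e⁻¹ * e by simp, (hb _ h).1.symm.mul_pow, (hb _ h).2.2, pow_succ', pow_mul, sq,
        he, one_pow, one_mul]
  have h2 : ∀ d ∈ zpowers (u * u) ⊔ zpowers e, (d * u) ^ 2 ^ (k + 1) ≠ 1 := fun d hd => by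
    rcases hD d hd with h | h
    · rwa [(hb d h).2.1.symm.mul_pow, (hb d h).2.2, one_mul]
    · rw [show d * u = d * e⁻¹ * (e * u) by simp [mul_assoc],
        ((hb _ h).1.mul_left (hb _ h).2.1).symm.mul_pow, (hb _ h).2.2, one_mul, pow_succ', pow_mul,
        sq, show e * u * (e * u) = e * u * e⁻¹ * u by rw [hei, mul_assoc (e * u)], hc2, mul_assoc,
        (Commute.mul_pow (comm_A hc1 (mul_mem hm hm))), ← sq, ← pow_mul, ← pow_succ']
      rcases k with _ | k
      · rw [hk rfl, mul_inv_cancel_right, eq_comm, mul_eq_right] at hc2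
        simpa [hc2] using h0
      · rwa [pow_succ' 2 k, pow_mul c, sq, hcc, one_pow, one_mul]
  have hout : ∀ a ∈ S, a ∉ zpowers (u * u) ⊔ zpowers e →
      a * u⁻¹ ∈ zpowers (u * u) ⊔ zpowers e := fun a ha haD => by
    rcases cov a ha with h | h
    · exact mem_sup_left ((mem_sq_or h).resolve_left fun e => haD (mem_sup_left e))
    · have h3 := (mem_sq_or h).resolve_left fun h => haD (by
        simpa using mul_mem (mem_sup_left h) (mem_sup_right (mem_zpowers e)))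
      rw [show a * u⁻¹ = a * e⁻¹ * (e * u * e⁻¹)⁻¹ * e by group, hc2, mul_inv_rev, ← mul_assoc]
      exact mul_mem (mem_sup_left (mul_mem h3 (inv_mem hcu))) (mem_sup_right (mem_zpowers e))
  have key : ∀ a ∈ S, a ∉ zpowers (u * u) ⊔ zpowers e → ∀ g, g * a * g⁻¹ ∉
      zpowers (u * u) ⊔ zpowers e := fun a ha haD g hg => h2 _ (hout a ha haD) (by
    have := h1 _ hg
    rw [conj_pow] at this
    simpa using this)
  exact h0 (h1 u (Fusion.commutator_inf_le_of_isSylowIn hS (fun a ha g _ hg => by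
    by_cases e' : a ∈ zpowers (u * u) ⊔ zpowers e
    · exact mul_mem (by_contra fun e'' => key _ hg e'' g⁻¹ (by simpa [mul_assoc] using e'))
        (inv_mem e')
    · simpa [mul_assoc] using mul_mem (hout _ hg (key a ha e' g)) (inv_mem (hout a ha e')))
    (show u ∈ ⁅⊤, ⊤⁆ ⊓ S from ⟨(hG.ge (mem_top u) :), hu⟩)))

theorem not_cyclic [IsSimpleGroup G] (hna : ¬ IsMulCommutative G) {S : Subgroup G}
    (hS : IsSylowIn 2 S ⊤) : ¬ IsCyclic S := fun hc => by
  have h1 : Nilp2 ⊤ := nilp2_of_cent hS fun P hP g _ hn ho =>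
    mem_cent_of_cyclic_two (hS.isPGroup.to_le hP) (U4.isCyclic_of_le' hc hP) hn ho
  rcases (normal_of_le_normalizer_top (le_norm_Od (⊤ : Subgroup G))).eq_bot_or_eq_top with e | e
  · have h2 := h1.sup_sylow hS
    rw [e, bot_sup_eq] at h2
    exact hna ⟨⟨fun a b => U4.mem_cent.1 (U4.le_cent_of_isCyclic hc (h2.ge (mem_top b))) a
      (h2.ge (mem_top a))⟩⟩
  · have := solvable_Od (⊤ : Subgroup G)
    rw [e] at this
    exact hna ⟨⟨IsSimpleGroup.comm_iff_isSolvable.2 (solvable_of_surjective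
      (f := (⊤ : Subgroup G).subtype) fun g => ⟨⟨g, mem_top g⟩, rfl⟩)⟩⟩

theorem simple_psl [IsSimpleGroup G] (hna : ¬ IsMulCommutative G) (oc : OC G) (c2 : C2 G) :
    ∃ (F : Type) (_ : Field F) (_ : Fintype F), 5 ≤ Fintype.card F ∧
      Odd (Fintype.card F) ∧ Nonempty (G ≃* Matrix.ProjectiveSpecialLinearGroup (Fin 2) F) := by
  obtain ⟨P⟩ : Nonempty (Sylow 2 G) := inferInstance
  have hS := IsSylowIn.sylow_top P
  have hG := BSW.commutator_eq_top_of_simple hna
  have hnc := not_cyclic hna hS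
  obtain ⟨x, hx, hi⟩ := c2 P P.isPGroup'
  have hAS := zpowers_le.2 hx
  have hi2 : (zpowers x).relIndex P = 2 := ((Nat.dvd_prime Nat.prime_two).1 hi).resolve_left
    fun e => hnc (le_antisymm hAS (relIndex_eq_one.1 e) ▸ inferInstance)
  obtain ⟨n, hn⟩ := orderOf_eq_pow_of_mem_isPGroup P.isPGroup' hx
  by_cases hc : IsMulCommutative P
  · have h4 := PGrp.sq_le_card_omegaOne P.isPGroup' hc hnc
    obtain ⟨e, he, he'⟩ := SetLike.not_le_iff_exists.1 fun h : omegaOne 2 P ≤ zpowers x => by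
      have := (card_le_of_le (le_omegaOne h fun a ha =>
        ((PGrp.mem_omegaOne_of_comm hc).1 ha).2)).trans (card_omegaOne_le_of_isCyclic inferInstance)
      omega
    rw [PGrp.mem_omegaOne_of_comm hc] at he
    have h5 : Commute e x := congrArg Subtype.val (hc.is_comm.comm (⟨e, he.1⟩ : P) ⟨x, hx⟩)
    have := Fintype.ofFinite G
    have h6 := card_eq_relIndex_mul hAS
    rw [hi2, Nat.card_zpowers, hn] at h6
    rcases n with _ | _ | k
    · have := h4.trans (card_le_of_le (PGrp.omegaOne_le _))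
      omega
    · obtain ⟨F, i1, i2, h7, h8, h9⟩ := gw_four G hna P h6
      exact ⟨F, i1, i2, h7, Nat.odd_iff.2 (by omega), h9⟩
    · exact (not_mod hG hS hx (cov_of_relIndex hi he.1 he') (by rw [← sq, he.2])
        (by rw [h5.eq]; simp) (h5.mul_right h5) hn fun _ => h5).elim
  have hz : zpowers (⟨x, hx⟩ : P) = (zpowers x).subgroupOf P := by
    rw [← comap_subtype, show zpowers x = (zpowers (⟨x, hx⟩ : P)).map (P : Subgroup G).subtype from
      (MonoidHom.map_zpowers (P : Subgroup G).subtype ⟨x, hx⟩).symm,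
      comap_map_eq_self_of_injective (subtype_injective _)]
  have hm := mem_zpowers x
  rcases PGrp.isDQSDPair_or_modular_of_index_eq P.isPGroup' hc (u := ⟨x, hx⟩) (n := n)
    (by rw [← hn, ← orderOf_coe]) (hz ▸ hi2) with ⟨-, ⟨y, hy⟩, h2, -, -, hyA, h3⟩ |
      ⟨h2, ⟨e, he⟩, heA, h3, h4⟩
  swap
  · rw [hz, mem_subgroupOf] at heA
    have cov := cov_of_relIndex hi he heA
    have h5 : e * x * e⁻¹ ∈ zpowers x := (cov _ (mul_mem (mul_mem he hx) (inv_mem he))).resolve_right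
      fun h => heA (by
        have h6 : e * e = 1 := by simpa [sq] using congrArg Subtype.val h3
        rw [mul_assoc, ← mul_inv_rev, h6, inv_one, mul_one] at h
        simpa using mul_mem h (inv_mem hm))
    have h6 : e * x ≠ x * e := fun h => hc ⟨⟨fun a b => Subtype.ext (by
      have k : ∀ s ∈ P, s ∈ 𝐂[x] ⊓ 𝐂[e] → (P : Subgroup G) ≤ 𝐂[s] := fun s _ hs a ha =>
        (cov a ha).elim (zpowers_le.2 (U4.mem_cent1_comm.1 hs.1) ·) fun h => by
          simpa using mul_mem (zpowers_le.2 (U4.mem_cent1_comm.1 hs.1) h) (U4.mem_cent1_comm.1 hs.2)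
      exact U4.mem_cent1.1 (k b b.2 ⟨U4.mem_cent1_comm.1 (U4.mem_cent1_comm.1 (k x hx
        ⟨U4.self_mem_cent1 x, U4.mem_cent1.2 h.symm⟩ b.2)), k e he
        ⟨U4.mem_cent1.2 h, U4.self_mem_cent1 e⟩ b.2⟩ a.2))⟩⟩
    rcases n with _ | _ | k
    · exact absurd (by simp [orderOf_eq_one_iff.1 hn]) h6
    · exact absurd (mul_inv_eq_iff_eq_mul.1 (((mem_zpowers_inv hn).1 h5).resolve_left
        (U4.conj_ne_one_iff.2 (ne_one_of_inv hn)))) h6
    · exact (not_mod hG hS hx cov (by simpa [sq] using congrArg Subtype.val h3) h5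
        (show e * _ = _ * e by simpa [sq] using congrArg Subtype.val h4.eq) hn fun e => (h2 ⟨rfl, by omega⟩).elim).elim
  rw [hz, mem_subgroupOf] at hyA
  have cov := cov_of_relIndex hi hy hyA
  obtain ⟨k, rfl⟩ := Nat.exists_eq_add_of_le' h2
  have ht : orderOf (x ^ 2 ^ (k + 1)) = 2 := by
    rw [orderOf_pow_of_dvd (by positivity) (hn ▸ pow_dvd_pow 2 (by omega)), hn, pow_succ,
      Nat.mul_div_cancel_left _ (by positivity)]
  have hsq : ∀ j, x ^ 2 ^ (j + 1) ∈ zpowers (x * x) := fun j =>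
    ⟨(2 ^ j : ℕ), by simp only [zpow_natCast]; rw [← sq, ← pow_mul, ← pow_succ']⟩
  rcases h3 with ⟨h3, h4⟩ | ⟨h3, h4⟩ | ⟨h5, h3, h4⟩ <;>
    replace h3 := congrArg Subtype.val h3 <;> replace h4 := congrArg Subtype.val h4 <;>
    simp only [coe_mul, InvMemClass.coe_inv, SubmonoidClass.coe_pow, OneMemClass.coe_one, sq,
      Nat.add_succ_sub_one] at h3 h4
  · exact MC.psl (S := P) (x := x) (y := y) ⟨⟨hS, hx, hy, hyA, cov, hsq k, ne_one_of_inv ht,
      by simp [h3], by simp [h4]⟩, ht, mem_zpowers _, h4,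
      by rw [← _root_.conj_mul, h3, mul_inv_rev], oc⟩
  · exfalso
    obtain ⟨u, h5, h6, h7, h8⟩ := BSW.exists_other_involution hna ht
    have h9 : Four u _ := ⟨inv_of_mul_self h5 h6, ht, h8, h7⟩
    obtain ⟨g, -, hg⟩ := hS.exists_conj_le h9.isPGroup_V le_top
    have key : ∀ a ∈ P, orderOf a = 2 → a = x ^ 2 ^ (k + 1) := fun a ha ho => by
      rcases cov a ha with e | e
      · exact (eq_of_inv_of_cyclic inferInstance (pow_mem hm _) ht e
          (mul_self_of_inv ho)).resolve_left (ne_one_of_inv ho)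
      · refine absurd ?_ (ne_one_of_inv ht)
        rw [← h4, ← mul_self_of_inv ho, show a * a = a * y⁻¹ * (y * (a * y⁻¹) * y⁻¹) * (y * y) by group,
          inverts_zpowers h3 _ e, mul_inv_cancel, one_mul]
    have h10 := h9.conj g
    exact h10.ne ((key _ (hg (U4.conj_mem_conj_iff.2 (t_mem_V _ _))) h10.ot).trans
      (key _ (hg (U4.conj_mem_conj_iff.2 (s_mem_V _ _))) h10.os).symm)
  · obtain ⟨j, rfl⟩ : ∃ j, k = j + 1 := ⟨k - 1, by omega⟩
    have h6 : x ^ 2 ^ (j + 1) * x ^ 2 ^ (j + 1) = x ^ 2 ^ (j + 1 + 1) := by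
      rw [← sq, ← pow_mul, ← pow_succ]
    have h7 : y * x * y⁻¹ * x = x ^ 2 ^ (j + 1 + 1) := by
      rw [h3, ← pow_succ, Nat.sub_add_cancel Nat.one_le_two_pow]
    exact (SDh.false (S := P) (x := x) (y := y) ⟨⟨⟨hS, hx, hy, hyA, cov, hsq j,
      fun e => ne_one_of_inv ht (by rw [← h6, e, one_mul]), h7 ▸ h6 ▸ mem_zpowers _, by simp [h4]⟩,
      ht, h6 ▸ mul_mem (mem_zpowers _) (mem_zpowers _), h4, by
        rw [← _root_.conj_mul, eq_mul_inv_of_mul_eq h7, mul_assoc, ← mul_assoc x⁻¹,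
          comm_A (inv_mem hm) (pow_mem hm _), ← mul_assoc, ← mul_assoc, mul_self_of_inv ht, one_mul,
          mul_inv_rev], oc⟩, h6, h7⟩).elim

theorem simple_case [IsSimpleGroup G] (hna : ¬ IsMulCommutative G) (oc : OC G) (c2 : C2 G) :
    ∃ (p : ℕ) (_ : Fact p.Prime), 5 ≤ p ∧
      Nonempty (G ≃* Matrix.ProjectiveSpecialLinearGroup (Fin 2) (ZMod p)) := by
  obtain ⟨F, i1, i2, h5, ho, ⟨e⟩⟩ := simple_psl hna oc c2
  obtain ⟨p, hp, n, hpp, hn⟩ := FiniteField.card' F
  have := Fact.mk hpp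
  let f : Multiplicative F →* G := (e.symm.toMonoidHom.comp (BSW.piP F)).comp
    (MonoidHom.mk' (fun b => H1.upT b.toAdd) fun a b => by
      apply H1.SL2_ext <;> simp [H1.SL2_mul_apply, H1.upT_00, H1.upT_01, H1.upT_10, H1.upT_11,
        add_comm])
  have hf : Function.Injective f := (injective_iff_map_eq_one f).2 fun a ha => by
    have h1 : H1.upT a.toAdd ∈ center SL(2, F) := BSW.piP_eq_one.1 (by simpa [f] using ha)
    exact toAdd_eq_zero.1 ((H1.upT_01 _).symm.trans (H5.SL2_mem_center_iff.1 h1).1)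
  have h1 : ∀ a : Multiplicative F, a ^ p = 1 := fun a => toAdd_eq_zero.1 (by simp)
  have h2 := oc p hpp (fun e => by
    rw [hn, e] at ho
    exact absurd (ho.of_dvd_nat (dvd_pow_self 2 n.ne_zero)) (by decide)) f.range
    (IsPGroup.of_surjective (fun a => ⟨1, by rw [pow_one, h1]⟩) _ f.rangeRestrict_surjective)
  have h3 : IsCyclic (Multiplicative F) := (MonoidHom.ofInjective hf).isCyclic.2 h2
  have h4 : Fintype.card F = p := by
    have := Monoid.exponent_dvd_of_forall_pow_eq_one h1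
    rw [IsCyclic.exponent_eq_card, Nat.card_eq_fintype_card, Fintype.card_multiplicative] at this
    exact ((Nat.dvd_prime hpp).1 this).resolve_left (by omega)
  exact ⟨p, this, h4 ▸ h5, ⟨e.trans (J1.pslCongr (ZMod.ringEquiv F h4).symm)⟩⟩

end CfsgLib.SW
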